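import Cfsg.Agent.Lib.Ree.TorusTNorm

/-!
The elements of the Borel subgroup of the small Ree group, by order.
-/

set_option autoImplicit false
set_option linter.unusedSectionVars false

namespace Cfsg.Agent.Twisted.TypeG2

open ChevGroup ChevIsogeny Cfsg.Lie
open scoped MatrixGroups

/-- Counting the conjugates of a set with trivial intersections. -/
theorem card_conj_set {G : Type*} [Group G] [Finite G] (P : G → Prop) (N : Subgroup G)
    (hN : ∀ n ∈ N, ∀ d, P d → P (n * d * n⁻¹)) (hti : ∀ c d, P d → P (c * d * c⁻¹) → c ∈ N) :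
    Nat.card {x // ∃ c, P (c * x * c⁻¹)} * Nat.card ↥N = Nat.card G * Nat.card {d // P d} := by
  classical
  rw [← Nat.card_prod, ← Nat.card_prod]
  refine Nat.card_congr (Equiv.ofBijective
    (fun p => ((p.2 : G) * p.1.2.choose,
      ⟨(p.2 : G) * (p.1.2.choose * p.1.1 * p.1.2.choose⁻¹) * (p.2 : G)⁻¹,
        hN _ p.2.2 _ p.1.2.choose_spec⟩)) ⟨?_, ?_⟩)
  · rintro ⟨⟨x, hx⟩, n⟩ ⟨⟨x', hx'⟩, n'⟩ h
    simp only [Prod.mk.injEq, Subtype.mk.injEq] at h
    obtain ⟨h1, h2⟩ := h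
    have e : ∀ (n c x : G), n * (c * x * c⁻¹) * n⁻¹ = n * c * x * (n * c)⁻¹ := fun n c x => by group
    rw [e, e, h1] at h2
    obtain rfl : x = x' := mul_left_cancel (mul_right_cancel h2)
    obtain rfl : n = n' := Subtype.ext (mul_right_cancel h1)
    rfl
  · rintro ⟨c, d, hd⟩
    have hex : ∃ c', P (c' * (c⁻¹ * d * c) * c'⁻¹) :=
      ⟨c, by rwa [show c * (c⁻¹ * d * c) * c⁻¹ = d by group]⟩
    have hn : c * hex.choose⁻¹ ∈ N := by
      refine hti _ _ hex.choose_spec ?_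
      rwa [show c * hex.choose⁻¹ * (hex.choose * (c⁻¹ * d * c) * hex.choose⁻¹) *
        (c * hex.choose⁻¹)⁻¹ = d by group]
    refine ⟨(⟨c⁻¹ * d * c, hex⟩, ⟨_, hn⟩), Prod.ext ?_ (Subtype.ext ?_)⟩
    · show c * hex.choose⁻¹ * hex.choose = c
      group
    · show c * hex.choose⁻¹ * (hex.choose * (c⁻¹ * d * c) * hex.choose⁻¹) * (c * hex.choose⁻¹)⁻¹ = d
      group

/-- The involutions of a coset `U * a` for `U` of odd order normalised by the involution `a`. -/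
theorem card_coset_invol {G : Type*} [Group G] [Finite G] {U : Subgroup G} (hU : Odd (Nat.card U))
    {a : G} (ha : a * a = 1) (hn : ∀ u ∈ U, a * u * a⁻¹ ∈ U) :
    Nat.card {u // u ∈ U ∧ (u * a) * (u * a) = 1} * Nat.card {u // u ∈ U ∧ Commute a u} =
      Nat.card U := by
  classical
  let C : Subgroup ↥U := (Subgroup.centralizer {a}).subgroupOf U
  have hC : Nat.card ↥C = Nat.card {u // u ∈ U ∧ Commute a u} := by
    refine Nat.card_congr
      { toFun := fun u => ⟨((u : ↥U) : G), (u : ↥U).2,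
          (Subgroup.mem_centralizer_singleton_iff.1 u.2).symm⟩
        invFun := fun u => ⟨⟨u.1, u.2.1⟩, Subgroup.mem_centralizer_singleton_iff.2 u.2.2.eq.symm⟩
        left_inv := fun u => rfl
        right_inv := fun u => rfl }
  rw [← hC, ← C.card_mul_index, mul_comm (Nat.card ↥C)]
  congr 1
  have hai := inv_eq_of_mul_eq_one_right ha
  refine (Nat.card_congr (Equiv.ofBijective (fun o : ↥U ⧸ C =>
    (⟨(o.out : G) * (a * (o.out : G)⁻¹ * a⁻¹), mul_mem o.out.2 (hn _ (inv_mem o.out.2)), ?_⟩ :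
      {u // u ∈ U ∧ (u * a) * (u * a) = 1})) ⟨?_, ?_⟩)).symm
  · rw [show (o.out : G) * (a * (o.out : G)⁻¹ * a⁻¹) * a = (o.out : G) * a * (o.out : G)⁻¹ by group]
    calc (o.out : G) * a * (o.out : G)⁻¹ * ((o.out : G) * a * (o.out : G)⁻¹)
        = (o.out : G) * (a * a) * (o.out : G)⁻¹ := by group
      _ = 1 := by rw [ha, mul_one, mul_inv_cancel]
  · intro o o' h
    have h' : (o.out : G) * (a * (o.out : G)⁻¹ * a⁻¹) = (o'.out : G) * (a * (o'.out : G)⁻¹ * a⁻¹) :=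
      congrArg Subtype.val h
    rw [← QuotientGroup.out_eq' o, ← QuotientGroup.out_eq' o', QuotientGroup.eq]
    refine Subgroup.mem_subgroupOf.2 (Subgroup.mem_centralizer_singleton_iff.2 ?_)
    obtain ⟨w, hw⟩ : ∃ w : G, w = (o.out : G) := ⟨_, rfl⟩
    obtain ⟨w', hw'⟩ : ∃ w : G, w = (o'.out : G) := ⟨_, rfl⟩
    rw [← hw, ← hw'] at h'
    rw [Subgroup.coe_mul, Subgroup.coe_inv, ← hw, ← hw']
    calc w⁻¹ * w' * a = w⁻¹ * (w' * (a * w'⁻¹ * a⁻¹)) * (a * w') := by group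
      _ = a * (w⁻¹ * w') := by rw [← h']; group
  · rintro ⟨u, hu, hua⟩
    have hconj : a * u * a⁻¹ = u⁻¹ := by
      rw [hai]
      refine eq_inv_of_mul_eq_one_right ?_
      rw [← hua]; group
    set w := RankOne.sqrt u with hw
    have hwU : w ∈ U := RankOne.sqrt_mem hu
    have hww : w * w = u := RankOne.sqrt_mul_self (RankOne.odd_orderOf_of_mem hU hu)
    have hwc : a * w * a⁻¹ = w⁻¹ := by
      rw [hw, ← RankOne.sqrt_inv]
      exact RankOne.conj_sqrt (RankOne.odd_orderOf_of_mem hU hu)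
        (RankOne.odd_orderOf_of_mem hU (inv_mem hu)) hconj
    refine ⟨QuotientGroup.mk (⟨w, hwU⟩ : ↥U), Subtype.ext ?_⟩
    obtain ⟨⟨c, hc⟩, e⟩ := QuotientGroup.mk_out_eq_mul C (⟨w, hwU⟩ : ↥U)
    have hc' : Commute (c : G) a := Subgroup.mem_centralizer_singleton_iff.1 hc
    show ((QuotientGroup.mk (⟨w, hwU⟩ : ↥U) : ↥U ⧸ C).out : G) *
      (a * ((QuotientGroup.mk (⟨w, hwU⟩ : ↥U) : ↥U ⧸ C).out : G)⁻¹ * a⁻¹) = u
    rw [e, Subgroup.coe_mul]
    calc w * (c : G) * (a * (w * (c : G))⁻¹ * a⁻¹) = w * ((c : G) * a * (c : G)⁻¹) * (w⁻¹ * a⁻¹) := by group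
      _ = w * (a * w⁻¹ * a⁻¹) := by rw [hc'.eq]; group
      _ = w * w := by rw [show a * w⁻¹ * a⁻¹ = (a * w * a⁻¹)⁻¹ by group, hwc, inv_inv]
      _ = u := hww

variable {F : Type*} [Field F] [Fintype F] {m : ℕ} {K : Rels chevG2 F}

variable (Z : Frame (T := MT) K PP (3 ^ m) fd) (hK : Fintype.card F = 3 ^ (2 * m + 1))

set_option quotPrecheck false in
local notation "G₁" => genG MT K (g2Words F (3 ^ m))

set_option quotPrecheck false in
local notation "𝔻" => (gens Z hK).data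

/-- the unipotent subgroup in the group -/
noncomputable def uG : Subgroup ↥G₁ := ((𝔻).U1).subgroupOf G₁

/-- the Borel subgroup in the group -/
noncomputable def bG : Subgroup ↥G₁ := ((𝔻).B1).subgroupOf G₁

include Z hK

theorem card_uG : Nat.card ↥(uG Z hK) = (3 ^ (2 * m + 1)) ^ 3 := by
  rw [uG, Nat.card_congr (Subgroup.subgroupOfEquivOfLe (show (𝔻).U1 ≤ G₁ from inf_le_left)).toEquiv,
    card_U1_eq Z hK]

theorem odd_card_uG : Odd (Nat.card ↥(uG Z hK)) := by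
  rw [card_uG Z hK, ← pow_mul]
  exact Odd.pow (by decide)

theorem card_bG : Nat.card ↥(bG Z hK) = (3 ^ (2 * m + 1)) ^ 3 * (3 ^ (2 * m + 1) - 1) := by
  rw [bG, Nat.card_congr (Subgroup.subgroupOfEquivOfLe (show (𝔻).B1 ≤ G₁ from inf_le_left)).toEquiv,
    card_B1_eq Z hK]

theorem torG_mem_bG (z : Fˣ) : torG Z hK z ∈ bG Z hK :=
  Subgroup.mem_subgroupOf.2 ((𝔻).H1_le_B1 (hHom_mem_H1 Z hK z))

theorem uG_le_bG : uG Z hK ≤ bG Z hK := fun _ h =>
  Subgroup.mem_subgroupOf.2 ((𝔻).U1_le_B1 h)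

theorem conj_mem_uG {b u : ↥G₁} (hb : b ∈ bG Z hK) (hu : u ∈ uG Z hK) : b * u * b⁻¹ ∈ uG Z hK := by
  refine Subgroup.mem_subgroupOf.2 ?_
  rw [Subgroup.coe_mul, Subgroup.coe_mul, Subgroup.coe_inv]
  exact B1_conj_U1 Z hK hb hu

/-- The Borel subgroup in coordinates. -/
theorem coord_bijective : Function.Bijective
    (fun p : ↥(uG Z hK) × Fˣ => (⟨(p.1 : ↥G₁) * torG Z hK p.2,
      mul_mem (uG_le_bG Z hK p.1.2) (torG_mem_bG Z hK p.2)⟩ : ↥(bG Z hK))) := by
  refine Function.Surjective.bijective_of_nat_card_le ?_ (le_of_eq ?_)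
  · rintro ⟨b, hb⟩
    obtain ⟨u, hu, h, hh, e⟩ :=
      (𝔻).exists_U1_H1 (MT.shapeR K) ((gens Z hK).longest long_ok) (Subgroup.mem_subgroupOf.1 hb)
    obtain ⟨z, rfl⟩ := exists_hHom Z hK hh
    exact ⟨(⟨⟨u, (Subgroup.mem_inf.1 hu).1⟩, hu⟩, z), Subtype.ext (Subtype.ext e)⟩
  · rw [Nat.card_prod, card_uG Z hK, card_bG Z hK, card_units_q Z hK]

theorem exists_coord {b : ↥G₁} (hb : b ∈ bG Z hK) :
    ∃ u ∈ uG Z hK, ∃ z, b = u * torG Z hK z := by
  obtain ⟨⟨u, z⟩, h⟩ := (coord_bijective Z hK).2 ⟨b, hb⟩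
  exact ⟨u, u.2, z, (congrArg Subtype.val h).symm⟩

theorem card_subtype_bG (P : ↥G₁ → Prop) :
    Nat.card {b // b ∈ bG Z hK ∧ P b} =
      Nat.card {p : ↥(uG Z hK) × Fˣ // P ((p.1 : ↥G₁) * torG Z hK p.2)} := by
  refine (Nat.card_congr ((Equiv.subtypeEquiv (Equiv.ofBijective _ (coord_bijective Z hK))
    (q := fun b : ↥(bG Z hK) => P b) fun p => Iff.rfl).trans ?_)).symm
  exact Equiv.subtypeSubtypeEquivSubtypeInter (· ∈ bG Z hK) P

theorem uG_ti {c d : ↥G₁} (hd : d ∈ uG Z hK) (hd1 : d ≠ 1) (h : c * d * c⁻¹ ∈ uG Z hK) : c ∈ bG Z hK := by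
  refine Subgroup.mem_subgroupOf.2 (U1_ti Z hK c.2 hd (fun e => hd1 (Subtype.ext e)) ?_)
  have h' := Subgroup.mem_subgroupOf.1 h
  rwa [Subgroup.coe_mul, Subgroup.coe_mul, Subgroup.coe_inv] at h'

/-- Coset elements of a regular torus element are conjugate to it. -/
theorem coset_conj {u : ↥G₁} (hu : u ∈ uG Z hK) {z : Fˣ} (hz : z ^ 2 ≠ 1) :
    ∃ w ∈ uG Z hK, u * torG Z hK z = w * torG Z hK z * w⁻¹ := by
  let f : ↥(uG Z hK) → ↥(uG Z hK) := fun w =>
    ⟨(w : ↥G₁) * (torG Z hK z * (w : ↥G₁)⁻¹ * (torG Z hK z)⁻¹),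
      mul_mem w.2 (conj_mem_uG Z hK (torG_mem_bG Z hK z) (inv_mem w.2))⟩
  have hf : Function.Injective f := by
    rintro ⟨w, hw⟩ ⟨w', hw'⟩ h
    have h' : w * (torG Z hK z * w⁻¹ * (torG Z hK z)⁻¹) = w' * (torG Z hK z * w'⁻¹ * (torG Z hK z)⁻¹) :=
      congrArg Subtype.val h
    have hc : Commute (torG Z hK z) (w⁻¹ * w') := by
      calc torG Z hK z * (w⁻¹ * w')
          = w⁻¹ * (w * (torG Z hK z * w⁻¹ * (torG Z hK z)⁻¹)) * (torG Z hK z * w') := by group
        _ = w⁻¹ * w' * torG Z hK z := by rw [h']; group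
    have h1 : ((w⁻¹ * w' : ↥G₁) : ↥(chevG2.group F)) = 1 :=
      eq_one_of_commute Z hK hz (Subgroup.mem_subgroupOf.1 (mul_mem (inv_mem hw) hw'))
        (hc.map (G₁).subtype)
    exact Subtype.ext (inv_mul_eq_one.1 (Subtype.ext h1))
  obtain ⟨w, hw⟩ := (Finite.injective_iff_surjective.1 hf) ⟨u, hu⟩
  refine ⟨w, w.2, ?_⟩
  rw [← show (w : ↥G₁) * (torG Z hK z * (w : ↥G₁)⁻¹ * (torG Z hK z)⁻¹) = u from congrArg Subtype.val hw]
  group

theorem uG_pow_nine {u : ↥G₁} (hu : u ∈ uG Z hK) : u ^ 9 = 1 := by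
  obtain ⟨t, a, b, e⟩ := (mem_U1_iff Z hK).1 (Subgroup.mem_subgroupOf.1 hu)
  obtain ⟨t', a', b', e'⟩ := (mem_U1_iff Z hK).1 (Subgroup.mem_subgroupOf.1 (pow_mem hu 3))
  rw [Subgroup.coe_pow, e, pow_succ, pow_two, wordU, form_mul_eq Z hK, form_mul_eq Z hK, wordU] at e'
  obtain ⟨-, ht, -⟩ := form_inj Z e'
  have h3 := (pow_facts hK).1
  have ht' : t' = 0 := by linear_combination t * h3 - ht
  subst ht'
  have hu3 : (((u ^ 3 : ↥G₁)) : ↥(chevG2.group F)) = wordU K m 0 a' b' := by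
    rw [Subgroup.coe_pow, e, pow_succ, pow_two, wordU, form_mul_eq Z hK, form_mul_eq Z hK, wordU, e']
  refine Subtype.ext ?_
  rw [show (9 : ℕ) = 3 * 3 from rfl, pow_mul, Subgroup.coe_pow, hu3, Subgroup.coe_one]
  exact (pow_three_eq_one_iff Z hK).2 rfl

theorem card_uG_centralizer :
    Nat.card {u // u ∈ uG Z hK ∧ Commute (aG Z hK) u} = 3 ^ (2 * m + 1) := by
  rw [← hK, ← Nat.card_eq_fintype_card]
  refine (Nat.card_congr (Equiv.ofBijective (fun r =>
    (⟨⟨wordU K m 0 r 0, (Subgroup.mem_inf.1 ((mem_U1_iff Z hK).2 ⟨_, _, _, rfl⟩)).1⟩,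
      Subgroup.mem_subgroupOf.2 ((mem_U1_iff Z hK).2 ⟨_, _, _, rfl⟩), ?_⟩ :
      {u // u ∈ uG Z hK ∧ Commute (aG Z hK) u})) ⟨?_, ?_⟩)).symm
  · refine Subtype.ext (?_ : Commute (hHom Z (-1)) (wordU K m 0 r 0))
    refine (commute_wordU_iff Z hK).2 ⟨Or.inl rfl, Or.inr ?_, Or.inl rfl⟩
    rw [lam_sq_eq_one_iff Z hK]; simp
  · intro r r' h
    exact (wordU_inj Z hK (congrArg (fun z : {u // u ∈ uG Z hK ∧ Commute (aG Z hK) u} =>
      ((z.1 : ↥G₁) : ↥(chevG2.group F))) h)).2.1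
  · rintro ⟨u, hu, hc⟩
    obtain ⟨t, r, v, e⟩ := (mem_U1_iff Z hK).1 (Subgroup.mem_subgroupOf.1 hu)
    have hc' : Commute (hHom Z (-1)) (wordU K m t r v) := e ▸ hc.map (G₁).subtype
    obtain ⟨ht, -, hv⟩ := (commute_wordU_iff Z hK).1 hc'
    have hl : lam Z (-1) ≠ 1 := by
      rw [lam_neg_one Z hK]
      exact fun e => two_ne Z hK (by simpa using congrArg Units.val e)
    obtain rfl := ht.resolve_right hl
    obtain rfl := hv.resolve_right hl
    exact ⟨r, Subtype.ext (Subtype.ext e.symm)⟩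

/-- The orders of the elements of the Borel subgroup by their coordinates. -/
theorem coord_cases {u : ↥G₁} (hu : u ∈ uG Z hK) (z : Fˣ) :
    (z ^ 2 ≠ 1 ∧ orderOf (u * torG Z hK z) = orderOf z ∧
      ∃ w ∈ bG Z hK, u * torG Z hK z = w * torG Z hK z * w⁻¹) ∨
    (z = 1 ∧ u * torG Z hK z = u ∧ orderOf u ∣ 9) ∨
    (z = -1 ∧ ((u * aG Z hK) * (u * aG Z hK) = 1 ∨ orderOf (u * torG Z hK z) = 6)) := by
  by_cases hz : z ^ 2 = 1
  · rcases mul_self_eq_one_iff.1 (show (z : F) * z = 1 by rw [← Units.val_mul, ← sq, hz, Units.val_one]) with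
      e | e
    · obtain rfl : z = 1 := Units.ext e
      exact Or.inr (Or.inl ⟨rfl, by rw [map_one, mul_one], orderOf_dvd_of_pow_eq_one (uG_pow_nine Z hK hu)⟩)
    · obtain rfl : z = -1 := Units.ext (by simpa using e)
      refine Or.inr (Or.inr ⟨rfl, ?_⟩)
      show _ ∨ orderOf (u * aG Z hK) = 6
      set b := u * aG Z hK with hb
      have ha := aG_sq Z hK
      have hab : aG Z hK ∈ bG Z hK := torG_mem_bG Z hK (-1)
      have h2 : b * b ∈ uG Z hK := by
        rw [show b * b = u * (aG Z hK * u * (aG Z hK)⁻¹) * (aG Z hK * aG Z hK) by rw [hb]; group, ha,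
          mul_one]
        exact mul_mem hu (conj_mem_uG Z hK hab hu)
      have h18 : b ^ 18 = 1 := by
        rw [show (18 : ℕ) = 2 * 9 from rfl, pow_mul, sq]
        exact uG_pow_nine Z hK h2
      have hnu : ∀ j : ℕ, b ^ (2 * j + 1) ∉ uG Z hK := by
        intro j hj
        rw [pow_succ, pow_mul, sq] at hj
        have h1 := mul_mem (inv_mem (pow_mem h2 j)) hj
        rw [inv_mul_cancel_left, hb] at h1
        have h2' := mul_mem (inv_mem hu) h1
        rw [inv_mul_cancel_left] at h2'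
        exact aG_ne_one Z hK (orderOf_eq_one_iff.1 (Nat.eq_one_of_dvd_coprimes
          (Nat.coprime_two_left.2 (odd_card_uG Z hK)) (orderOf_dvd_of_pow_eq_one (by rw [sq, ha]))
          (Subgroup.orderOf_dvd_natCard _ h2')))
      -- the involution part is conjugate to `a`
      set i := b ^ 9 with hi
      have hii : i * i = 1 := by rw [hi, ← pow_add, show 9 + 9 = 18 from rfl, h18]
      have hiu : i * (aG Z hK)⁻¹ ∈ uG Z hK := by
        have e9 : b ^ 9 = (b * b) ^ 4 * b := by rw [← sq, ← pow_mul, ← pow_succ]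
        rw [hi, e9, hb, mul_assoc, mul_inv_cancel_right, ← hb]
        exact mul_mem (pow_mem h2 4) hu
      obtain ⟨w, hwU, hw⟩ : ∃ w ∈ uG Z hK, i = w * aG Z hK * w⁻¹ := by
        set v := i * (aG Z hK)⁻¹ with hv
        have hvo := RankOne.odd_orderOf_of_mem (odd_card_uG Z hK) hiu
        have hai := inv_eq_of_mul_eq_one_right ha
        have hav : aG Z hK * v * (aG Z hK)⁻¹ = v⁻¹ := by
          rw [hv, mul_inv_rev, inv_inv, inv_eq_of_mul_eq_one_right hii]
          calc aG Z hK * (i * (aG Z hK)⁻¹) * (aG Z hK)⁻¹ = aG Z hK * i * ((aG Z hK)⁻¹ * (aG Z hK)⁻¹) := by group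
            _ = _ := by rw [hai, ha, mul_one]
        refine ⟨RankOne.sqrt v, RankOne.sqrt_mem hiu, ?_⟩
        have hc : aG Z hK * RankOne.sqrt v * (aG Z hK)⁻¹ = (RankOne.sqrt v)⁻¹ := by
          rw [← RankOne.sqrt_inv]
          exact RankOne.conj_sqrt hvo (by rwa [orderOf_inv]) hav
        calc i = v * aG Z hK := by rw [hv]; group
          _ = RankOne.sqrt v * (RankOne.sqrt v * aG Z hK) := by
            rw [← mul_assoc, RankOne.sqrt_mul_self hvo]
          _ = RankOne.sqrt v * aG Z hK * (RankOne.sqrt v)⁻¹ := by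
            rw [← hc]; simp only [mul_assoc]; rw [← mul_assoc (aG Z hK) (aG Z hK), ha, one_mul, hai]
      set k := w⁻¹ * b ^ 10 * w with hk
      have hkU : k ∈ uG Z hK := by
        rw [show b ^ 10 = (b * b) ^ 5 by rw [← sq, ← pow_mul]] at hk
        rw [hk]
        exact mul_mem (mul_mem (inv_mem hwU) (pow_mem h2 5)) hwU
      have hka : Commute (aG Z hK) k := by
        have e : aG Z hK = w⁻¹ * i * w := by rw [hw]; group
        rw [e, hk]
        have hc : Commute i (b ^ 10) := (Commute.refl b).pow_pow 9 10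
        calc w⁻¹ * i * w * (w⁻¹ * b ^ 10 * w) = w⁻¹ * (i * b ^ 10) * w := by group
          _ = _ := by rw [hc.eq]; group
      have hk3 : k ^ 3 = 1 := by
        obtain ⟨t, r, v, e⟩ := (mem_U1_iff Z hK).1 (Subgroup.mem_subgroupOf.1 hkU)
        have hc' : Commute (hHom Z (-1)) (wordU K m t r v) := e ▸ hka.map (G₁).subtype
        have hl : lam Z (-1) ≠ 1 := by
          rw [lam_neg_one Z hK]
          exact fun e => two_ne Z hK (by simpa using congrArg Units.val e)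
        obtain rfl := ((commute_wordU_iff Z hK).1 hc').1.resolve_right hl
        exact Subtype.ext (by rw [Subgroup.coe_pow, e]; exact (pow_three_eq_one_iff Z hK).2 rfl)
      have h30 : b ^ 30 = 1 := by
        have hb10 : b ^ 10 = w * k * w⁻¹ := by rw [hk]; group
        rw [show (30 : ℕ) = 10 * 3 from rfl, pow_mul, hb10, conj_pow, hk3, mul_one, mul_inv_cancel]
      have h6 : orderOf b ∣ 6 := by
        have := Nat.dvd_gcd (orderOf_dvd_of_pow_eq_one h30) (orderOf_dvd_of_pow_eq_one h18)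
        norm_num at this
        exact this
      by_cases hb2 : b * b = 1
      · exact Or.inl hb2
      refine Or.inr ?_
      have hn2 : ¬ orderOf b ∣ 2 := fun h => hb2 (by rw [← sq]; exact orderOf_dvd_iff_pow_eq_one.1 h)
      have hn3 : ¬ orderOf b ∣ 3 := fun h =>
        hnu 1 (by rw [show b ^ (2 * 1 + 1) = 1 from orderOf_dvd_iff_pow_eq_one.1 h]; exact one_mem _)
      have hle := Nat.le_of_dvd (by norm_num) h6
      interval_cases hq : orderOf b <;> omega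
  · obtain ⟨w, hw, e⟩ := coset_conj Z hK hu hz
    refine Or.inl ⟨hz, ?_, w, uG_le_bG Z hK hw, e⟩
    rw [e, show w * torG Z hK z * w⁻¹ = MulAut.conj w (torG Z hK z) from rfl, MulEquiv.orderOf_eq,
      orderOf_injective _ (torG_inj Z hK)]

end Cfsg.Agent.Twisted.TypeG2
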