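import Cfsg.Agent.Lib.Ree.Centralizer
import Mathlib.LinearAlgebra.Matrix.GeneralLinearGroup.Card
import Mathlib.GroupTheory.Transfer
import Mathlib.Algebra.Module.ZMod

/-!
The centraliser and the normaliser of a Sylow `2`-subgroup of the small Ree group.
-/

set_option autoImplicit false
set_option linter.unusedSectionVars false
set_option linter.unusedSimpArgs false

namespace Cfsg.Agent.Twisted.TypeG2

open ChevGroup ChevIsogeny Cfsg.Lie
open scoped MatrixGroups

/-- the elementary abelian group of order `8` has `168` automorphisms -/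
theorem card_mulAut_eight :
    Nat.card (MulAut (Multiplicative (Fin 3 → ZMod 2))) = 168 := by
  let f : AddAut (Fin 3 → ZMod 2) ≃ ((Fin 3 → ZMod 2) ≃ₗ[ZMod 2] (Fin 3 → ZMod 2)) :=
    { toFun := fun g => { g with map_smul' := ZMod.map_smul g.toAddMonoidHom }
      invFun := fun g => g.toAddEquiv
      left_inv := fun g => AddEquiv.ext fun _ => rfl
      right_inv := fun g => LinearEquiv.ext fun _ => rfl }
  rw [Nat.card_congr ((MulAutMultiplicative (Fin 3 → ZMod 2)).toEquiv.trans (f.trans
    (((Matrix.GeneralLinearGroup.toLin (n := Fin 3) (R := ZMod 2)).trans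
      (LinearMap.GeneralLinearGroup.generalLinearEquiv (ZMod 2) (Fin 3 → ZMod 2))).symm.toEquiv))),
    Matrix.card_GL_field, ZMod.card]
  simp [Fin.prod_univ_three]

variable {F : Type*} [Field F] [Fintype F] {m : ℕ} {K : Rels chevG2 F}

theorem mul_entry (g h : SL(2, F)) (i j : Fin 2) :
    ((g * h : SL(2, F)) : Matrix (Fin 2) (Fin 2) F) i j = g i 0 * h 0 j + g i 1 * h 1 j := by
  rw [Matrix.SpecialLinearGroup.coe_mul, Matrix.mul_apply, Fin.sum_univ_two]

theorem neg_entry (g : SL(2, F)) (i j : Fin 2) :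
    ((-g : SL(2, F)) : Matrix (Fin 2) (Fin 2) F) i j = -g i j := rfl

variable (Z : Frame (T := MT) K PP (3 ^ m) fd) (hK : Fintype.card F = 3 ^ (2 * m + 1))

set_option quotPrecheck false in
local notation "G₁" => genG MT K (g2Words F (3 ^ m))

set_option quotPrecheck false in
local notation "E₈" => (eightHom Z hK).range

/-- the third element of the quaternion group -/
noncomputable def delta (hK : Fintype.card F = 3 ^ (2 * m + 1)) : SL(2, F) :=
  ReeSL2.weyl * gamma (three_eq hK)

/-- an element of order three normalising the four group -/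
noncomputable def threeG : ↥G₁ := slG Z hK (ReeSL2.upper 1)

include Z hK

theorem eightHom_apply (e : Multiplicative (ZMod 2) × (Multiplicative (ZMod 2) × Multiplicative (ZMod 2))) :
    eightHom Z hK e = flip2 (aG Z hK) (aG_sq Z hK) e.1 *
      (flip2 (pG Z hK) (pq_facts Z hK).1 e.2.1 * flip2 (qG Z hK) (pq_facts Z hK).2.1 e.2.2) := rfl

theorem gens_mem : aG Z hK ∈ E₈ ∧ pG Z hK ∈ E₈ ∧ qG Z hK ∈ E₈ := by
  refine ⟨⟨(Multiplicative.ofAdd 1, 1, 1), ?_⟩, ⟨(1, Multiplicative.ofAdd 1, 1), ?_⟩,
    ⟨(1, 1, Multiplicative.ofAdd 1), ?_⟩⟩ <;>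
    simp only [eightHom_apply Z hK, flip2_apply, flip2_one, one_mul, mul_one]

/-- elements of `SL(2, q)` commuting up to sign with the quaternion group lie in it -/
theorem commute_up_to_sign (h : SL(2, F))
    (hw : h * ReeSL2.weyl = ReeSL2.weyl * h ∨ h * ReeSL2.weyl = -(ReeSL2.weyl * h))
    (hg : h * gamma (three_eq hK) = gamma (three_eq hK) * h ∨
      h * gamma (three_eq hK) = -(gamma (three_eq hK) * h)) :
    slG Z hK h ∈ E₈ := by
  have h3 := three_eq hK
  obtain ⟨-, hp, hq⟩ := gens_mem Z hK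
  have h2 : (2 : F) ≠ 0 := fun e => one_ne_zero (show (1 : F) = 0 by linear_combination h3 - e)
  have hx2 : ∀ x : F, x + x = 0 → x = 0 := fun x e =>
    (mul_eq_zero.1 (show (2 : F) * x = 0 by linear_combination e)).resolve_left h2
  have hdet := ReeSL2.det_rel (rankRel Z hK) h
  obtain ⟨a, ea⟩ : ∃ a, h 0 0 = a := ⟨_, rfl⟩
  obtain ⟨b, eb⟩ : ∃ b, h 0 1 = b := ⟨_, rfl⟩
  obtain ⟨c, ec⟩ : ∃ c, h 1 0 = c := ⟨_, rfl⟩
  obtain ⟨d, ed⟩ : ∃ d, h 1 1 = d := ⟨_, rfl⟩
  rw [ea, eb, ec, ed] at hdet
  have hpm : ∀ g : SL(2, F), slG Z hK g ∈ E₈ → (∀ i j, h i j = g i j) ∨ (∀ i j, h i j = -g i j) →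
      slG Z hK h ∈ E₈ := by
    rintro g hgE (e | e)
    · rwa [show h = g from Matrix.SpecialLinearGroup.ext h g e]
    · rw [show h = -g from Matrix.SpecialLinearGroup.ext h (-g) (fun i j => by rw [e]; simp), slG_neg]
      exact hgE
  have hsq : ∀ x : F, x * x = 1 → x = 1 ∨ x = -1 := fun x => mul_self_eq_one_iff.1
  rcases hw with hw | hw
  · have e00 := congrFun₂ (congrArg Subtype.val hw) 0 0
    have e01 := congrFun₂ (congrArg Subtype.val hw) 0 1
    simp only [mul_entry, neg_entry] at e00 e01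
    simp [ReeSL2.weyl_coe, ea, eb, ec, ed] at e00 e01
    obtain rfl : c = -b := by linear_combination -e00
    obtain rfl : d = a := by linear_combination -e01
    rcases hg with hg | hg
    · have g00 := congrFun₂ (congrArg Subtype.val hg) 0 0
      simp only [mul_entry, neg_entry] at g00
      simp [gamma_coe, ea, eb, ec, ed] at g00
      obtain rfl : b = 0 := hx2 b (by linear_combination g00)
      refine hpm 1 (by rw [map_one]; exact one_mem _) ?_
      rcases hsq d (by linear_combination hdet) with rfl | rfl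
      · left; intro i j; fin_cases i <;> fin_cases j <;> simp [ea, eb, ec, ed]
      · right; intro i j; fin_cases i <;> fin_cases j <;> simp [ea, eb, ec, ed]
    · have g00 := congrFun₂ (congrArg Subtype.val hg) 0 0
      simp only [mul_entry, neg_entry] at g00
      simp [gamma_coe, ea, eb, ec, ed] at g00
      obtain rfl : d = 0 := hx2 d (by linear_combination g00)
      refine hpm ReeSL2.weyl hp ?_
      rcases hsq b (by linear_combination hdet) with rfl | rfl
      · left; intro i j; fin_cases i <;> fin_cases j <;> simp [ea, eb, ec, ed, ReeSL2.weyl_coe]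
      · right; intro i j; fin_cases i <;> fin_cases j <;> simp [ea, eb, ec, ed, ReeSL2.weyl_coe]
  · have e00 := congrFun₂ (congrArg Subtype.val hw) 0 0
    have e01 := congrFun₂ (congrArg Subtype.val hw) 0 1
    simp only [mul_entry, neg_entry] at e00 e01
    simp [ReeSL2.weyl_coe, ea, eb, ec, ed] at e00 e01
    obtain rfl : c = b := by linear_combination -e00
    obtain rfl : d = -a := by linear_combination e01
    rcases hg with hg | hg
    · have g01 := congrFun₂ (congrArg Subtype.val hg) 0 1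
      simp only [mul_entry, neg_entry] at g01
      simp [gamma_coe, ea, eb, ec, ed] at g01
      obtain rfl : c = a := by
        have := hx2 (a - c) (by linear_combination g01)
        linear_combination -this
      refine hpm (gamma h3) hq ?_
      rcases hsq c (by linear_combination hdet + (c * c) * h3) with rfl | rfl
      · left; intro i j; fin_cases i <;> fin_cases j <;> simp [ea, eb, ec, ed, gamma_coe]
      · right; intro i j; fin_cases i <;> fin_cases j <;> simp [ea, eb, ec, ed, gamma_coe]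
    · have g00 := congrFun₂ (congrArg Subtype.val hg) 0 0
      simp only [mul_entry, neg_entry] at g00
      simp [gamma_coe, ea, eb, ec, ed] at g00
      obtain rfl : c = -a := by
        have := hx2 (a + c) (by linear_combination g00)
        linear_combination this
      refine hpm (delta hK) (by rw [delta, map_mul]; exact mul_mem hp hq) ?_
      rcases hsq a (by linear_combination hdet + (a * a) * h3) with rfl | rfl
      · left; intro i j
        fin_cases i <;> fin_cases j <;> simp [ea, eb, ec, ed, delta, gamma_coe, ReeSL2.weyl_coe,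
          Matrix.SpecialLinearGroup.coe_mul]
      · right; intro i j
        fin_cases i <;> fin_cases j <;> simp [ea, eb, ec, ed, delta, gamma_coe, ReeSL2.weyl_coe,
          Matrix.SpecialLinearGroup.coe_mul]

theorem eight_comm : ∀ x ∈ E₈, ∀ y ∈ E₈, x * y = y * x := by
  rintro _ ⟨e, rfl⟩ _ ⟨e', rfl⟩
  rw [← map_mul, ← map_mul, mul_comm]

theorem centralizer_eight : Subgroup.centralizer (E₈ : Set ↥G₁) = E₈ := by
  refine le_antisymm (fun x hx => ?_) fun x hx => ?_
  · obtain ⟨ha, hp, hq⟩ := gens_mem Z hK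
    rw [Subgroup.mem_centralizer_iff] at hx
    have hca : x ∈ Subgroup.centralizer {aG Z hK} :=
      Subgroup.mem_centralizer_singleton_iff.2 (hx _ ha).symm
    rw [← centHom_range Z hK] at hca
    obtain ⟨⟨e, g⟩, rfl⟩ := hca
    obtain ⟨g', rfl⟩ := QuotientGroup.mk'_surjective _ g
    rw [centHom, MonoidHom.noncommCoprod_apply, pslG_mk] at hx ⊢
    have hflip : flip2 (aG Z hK) (aG_sq Z hK) e ∈ E₈ := by
      rcases two_cases e with rfl | rfl
      · rw [flip2_one]; exact one_mem _
      · rw [flip2_apply]; exact ha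
    refine mul_mem hflip (commute_up_to_sign Z hK g' ?_ ?_)
    all_goals
      have key : ∀ y : SL(2, F), slG Z hK y ∈ E₈ →
          g' * y = y * g' ∨ g' * y = -(y * g') := by
        intro y hy
        have h1 := hx _ hy
        rw [← mul_assoc, eight_comm Z hK _ hy _ hflip, mul_assoc, mul_assoc, mul_left_cancel_iff] at h1
        have h2 : slG Z hK (g' * y * (y * g')⁻¹) = 1 := by
          rw [map_mul, map_mul, map_inv, map_mul, h1, mul_inv_cancel]
        rcases (slG_eq_one_iff Z hK).1 h2 with h | h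
        · exact Or.inl (mul_inv_eq_one.1 h)
        · exact Or.inr (by rw [mul_inv_eq_iff_eq_mul.1 h, neg_one_mul])
    · exact key _ hp
    · exact key _ hq
  · exact Subgroup.mem_centralizer_iff.2 fun y hy => eight_comm Z hK _ hy _ hx

theorem threeG_rel : threeG Z hK * aG Z hK = aG Z hK * threeG Z hK ∧
    threeG Z hK * pG Z hK = qG Z hK * threeG Z hK ∧
    threeG Z hK * qG Z hK = pG Z hK * qG Z hK * threeG Z hK := by
  have h3 := three_eq hK
  refine ⟨(slG_commute Z hK _).symm.eq, ?_, ?_⟩
  · have e : (ReeSL2.upper 1 : SL(2, F)) * ReeSL2.weyl = -(gamma h3 * ReeSL2.upper 1) := by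
      ext i j
      fin_cases i <;> fin_cases j <;>
        simp [gamma_coe, ReeSL2.weyl_coe, ReeSL2.upper_coe, Matrix.SpecialLinearGroup.coe_mul] <;>
        first | linear_combination h3 | linear_combination -h3 | linear_combination 2 * h3 | linear_combination (-2 : F) * h3
    rw [threeG, pG, qG, ← map_mul, ← map_mul, e, slG_neg]
  · have e : (ReeSL2.upper 1 : SL(2, F)) * gamma h3 =
        -(ReeSL2.weyl * gamma h3 * ReeSL2.upper 1) := by
      ext i j
      fin_cases i <;> fin_cases j <;>
        simp [gamma_coe, ReeSL2.weyl_coe, ReeSL2.upper_coe, Matrix.SpecialLinearGroup.coe_mul] <;>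
        first | linear_combination h3 | linear_combination -h3 | linear_combination 2 * h3 | linear_combination (-2 : F) * h3
    rw [threeG, pG, qG, ← map_mul, ← map_mul, ← map_mul, e, slG_neg]

theorem threeG_normalizes : threeG Z hK ∈ Subgroup.normalizer (E₈ : Set ↥G₁) := by
  obtain ⟨ha, hp, hq⟩ := gens_mem Z hK
  obtain ⟨ra, rp, rq⟩ := threeG_rel Z hK
  refine Subgroup.mem_normalizer_fintype fun x hx => ?_
  obtain ⟨⟨e, e1, e2⟩, rfl⟩ := hx
  show MulAut.conj (threeG Z hK) _ ∈ E₈
  have hconj : ∀ {y y' : ↥G₁}, threeG Z hK * y = y' * threeG Z hK →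
      MulAut.conj (threeG Z hK) y = y' := fun h => by
    rw [MulAut.conj_apply, h, mul_inv_cancel_right]
  rw [eightHom_apply Z hK, map_mul, map_mul]
  refine mul_mem ?_ (mul_mem ?_ ?_)
  · rcases two_cases e with rfl | rfl
    · rw [flip2_one, map_one]; exact one_mem _
    · rw [flip2_apply, hconj ra]; exact ha
  · rcases two_cases e1 with rfl | rfl
    · rw [flip2_one, map_one]; exact one_mem _
    · rw [flip2_apply, hconj rp]; exact hq
  · rcases two_cases e2 with rfl | rfl
    · rw [flip2_one, map_one]; exact one_mem _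
    · rw [flip2_apply, hconj rq]; exact mul_mem hp hq

theorem orderOf_threeG : orderOf (threeG Z hK) = 3 := by
  have := Fact.mk Nat.prime_three
  have h3 := three_eq hK
  refine orderOf_eq_prime ?_ ?_
  · rw [threeG, ← map_pow]
    convert map_one (slG Z hK)
    ext i j
    fin_cases i <;> fin_cases j <;>
      simp [pow_succ, ReeSL2.upper_coe, Matrix.SpecialLinearGroup.coe_mul]
    linear_combination h3
  · intro h
    rcases (slG_eq_one_iff Z hK).1 h with e | e <;>
      have := congrFun₂ (congrArg Subtype.val e) 0 1 <;>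
      simp [ReeSL2.upper] at this

/-- The normaliser of the elementary group of order eight moves `a`. -/
theorem normalizer_not_le (hm : 1 ≤ m) :
    ¬ Subgroup.normalizer (E₈ : Set ↥G₁) ≤ Subgroup.centralizer {aG Z hK} := by
  have := Fact.mk Nat.prime_two
  obtain ⟨ha, -, -⟩ := gens_mem Z hK
  obtain ⟨n, hn, hodd⟩ := card_G1_two Z hK
  intro hle
  obtain ⟨S, hS⟩ := exists_sylow_two Z hK
  have : IsMulCommutative ↥(S : Subgroup ↥G₁) :=
    ⟨⟨fun x y => Subtype.ext (eight_comm Z hK _ (hS ▸ x.2) _ (hS ▸ y.2))⟩⟩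
  let φ : ↥E₈ →* Multiplicative (ZMod 2) × (Multiplicative (ZMod 2) × Multiplicative (ZMod 2)) :=
    (MonoidHom.ofInjective (eightHom_inj Z hK)).symm.toMonoidHom
  have key : ∀ (k : ℕ) (g₀ : ↥G₁), g₀⁻¹ * aG Z hK ^ k * g₀ ∈ E₈ →
      g₀⁻¹ * aG Z hK ^ k * g₀ = aG Z hK ^ k := by
    intro k g₀ hk
    obtain ⟨x, hx, e⟩ := Sylow.conj_eq_normalizer_conj_of_mem S (aG Z hK ^ k) g₀
      (by rw [show (aG Z hK ^ k ∈ S) = (aG Z hK ^ k ∈ (S : Subgroup ↥G₁)) from rfl, hS]
          exact pow_mem ha k)
      (by rw [show (g₀⁻¹ * aG Z hK ^ k * g₀ ∈ S) =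
            (g₀⁻¹ * aG Z hK ^ k * g₀ ∈ (S : Subgroup ↥G₁)) from rfl, hS]
          exact hk)
    have hx' : x ∈ Subgroup.normalizer (E₈ : Set ↥G₁) := by rw [← hS]; exact hx
    have hc : Commute x (aG Z hK) := Subgroup.mem_centralizer_singleton_iff.1 (hle hx')
    rw [e, mul_assoc, ← (hc.pow_right k).eq, inv_mul_cancel_left]
  have h1 : MonoidHom.transfer φ (aG Z hK) = 1 := by
    refine MonoidHom.mem_ker.1 (Abelianization.commutator_subset_ker _ ?_)
    rw [(gens Z hK).data.commutator_eq_top (gens Z hK).split (mem_derived Z hK hm)]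
    trivial
  rw [MonoidHom.transfer_eq_pow φ (aG Z hK) key] at h1
  have hinjφ : Function.Injective φ := (MonoidHom.ofInjective (eightHom_inj Z hK)).symm.injective
  have h2 : aG Z hK ^ (E₈).index = 1 := congrArg Subtype.val (hinjφ (h1.trans (map_one φ).symm))
  have hidx : Odd (E₈).index := by
    have h3 := (E₈).card_mul_index
    rw [card_eight Z hK, hn] at h3
    rw [Nat.eq_of_mul_eq_mul_left (by norm_num) h3]
    exact hodd
  obtain ⟨j, hj⟩ := hidx
  rw [hj, pow_succ, pow_mul, pow_two, aG_sq Z hK, one_pow, one_mul] at h2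
  exact aG_ne_one Z hK h2

/-- Its stabiliser of `a` has index at least `7`. -/
theorem seven_le_index (hm : 1 ≤ m) (h168 : Nat.card ↥(Subgroup.normalizer (E₈ : Set ↥G₁)) = 168) :
    7 ≤ ((Subgroup.centralizer {aG Z hK}).subgroupOf (Subgroup.normalizer (E₈ : Set ↥G₁))).index := by
  set N := Subgroup.normalizer (E₈ : Set ↥G₁) with hN
  set C := (Subgroup.centralizer {aG Z hK}).subgroupOf N with hC
  have ha := (gens_mem Z hK).1
  have h1 := C.card_mul_index
  rw [h168] at h1
  have h8 : 8 ∣ Nat.card ↥C := by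
    have hle : (E₈).subgroupOf N ≤ C := fun x hx => by
      rw [Subgroup.mem_subgroupOf] at hx
      exact Subgroup.mem_centralizer_singleton_iff.2 (eight_comm Z hK _ hx _ ha)
    have h := Subgroup.card_dvd_of_le hle
    rwa [Nat.card_congr (Subgroup.subgroupOfEquivOfLe Subgroup.le_normalizer).toEquiv,
      card_eight Z hK] at h
  have h3 : 3 ∣ Nat.card ↥C := by
    have hc : (⟨_, threeG_normalizes Z hK⟩ : ↥N) ∈ C :=
      Subgroup.mem_centralizer_singleton_iff.2 (threeG_rel Z hK).1
    have h := Subgroup.orderOf_dvd_natCard C hc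
    rwa [Subgroup.orderOf_mk, orderOf_threeG Z hK] at h
  have hne : C.index ≠ 1 := fun e =>
    normalizer_not_le Z hK hm (Subgroup.subgroupOf_eq_top.1 (Subgroup.index_eq_one.1 e))
  obtain ⟨k, hk⟩ := Nat.Coprime.mul_dvd_of_dvd_of_dvd (by norm_num : Nat.Coprime 8 3) h8 h3
  rw [hk] at h1
  rcases (Nat.dvd_prime (by norm_num : Nat.Prime 7)).1 (Dvd.intro_left k (by linarith : k * C.index = 7)) with e | e
  · exact absurd e hne
  · omega

theorem card_normalizer (hm : 1 ≤ m) :
    Nat.card ↥(Subgroup.normalizer (E₈ : Set ↥G₁)) = 168 := by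
  have := Fact.mk Nat.prime_two
  obtain ⟨ha, -, -⟩ := gens_mem Z hK
  obtain ⟨n, hn, hodd⟩ := card_G1_two Z hK
  set N := Subgroup.normalizer (E₈ : Set ↥G₁) with hN
  set C := N ⊓ Subgroup.centralizer {aG Z hK} with hC
  have hEN : E₈ ≤ N := Subgroup.le_normalizer
  have hEC : E₈ ≤ C := le_inf hEN fun x hx =>
    Subgroup.mem_centralizer_singleton_iff.2 (eight_comm Z hK x hx _ ha)
  have h24 : 24 ∣ Nat.card ↥C := by
    have h1 : 8 ∣ Nat.card ↥C := card_eight Z hK ▸ Subgroup.card_dvd_of_le hEC
    have h2 : 3 ∣ Nat.card ↥C := by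
      have hc : threeG Z hK ∈ C :=
        ⟨threeG_normalizes Z hK, Subgroup.mem_centralizer_singleton_iff.2 (threeG_rel Z hK).1⟩
      have h := orderOf_dvd_natCard (⟨_, hc⟩ : ↥C)
      rwa [Subgroup.orderOf_mk, orderOf_threeG Z hK] at h
    omega
  have hlt : ¬ N ≤ C := fun h => normalizer_not_le Z hK hm fun x hx => (h hx).2
  have hdvd : Nat.card ↥N ∣ 8 * 168 := by
    have hker : Nat.card ↥(E₈).normalizerMonoidHom.ker = 8 := by
      rw [Subgroup.normalizerMonoidHom_ker,
        Nat.card_congr (Subgroup.subgroupOfEquivOfLe ?_).toEquiv, centralizer_eight Z hK,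
        card_eight Z hK]
      rw [centralizer_eight Z hK]
      exact Subgroup.le_normalizer
    have h1 := (E₈).normalizerMonoidHom.ker.card_mul_index
    rw [hker, Subgroup.index_ker] at h1
    rw [hN, ← h1]
    refine Nat.mul_dvd_mul_left 8 ((Subgroup.card_subgroup_dvd_card _).trans ?_)
    let ι : Multiplicative (Fin 3 → ZMod 2) ≃*
        Multiplicative (ZMod 2) × (Multiplicative (ZMod 2) × Multiplicative (ZMod 2)) :=
      { toFun := fun v => (Multiplicative.ofAdd (v.toAdd 0), Multiplicative.ofAdd (v.toAdd 1),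
          Multiplicative.ofAdd (v.toAdd 2))
        invFun := fun e => Multiplicative.ofAdd ![e.1.toAdd, e.2.1.toAdd, e.2.2.toAdd]
        left_inv := fun v => by
          apply Multiplicative.toAdd.injective
          funext i
          fin_cases i <;> rfl
        right_inv := fun e => rfl
        map_mul' := fun v w => rfl }
    rw [← card_mulAut_eight,
      Nat.card_congr (MulAut.congr (ι.trans (MonoidHom.ofInjective (eightHom_inj Z hK)))).toEquiv]
  have hNG : Nat.card ↥N ∣ 8 * n := hn ▸ Subgroup.card_subgroup_dvd_card N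
  have h168 : Nat.card ↥N ∣ 168 := by
    have h4 : Nat.card ↥N ∣ Nat.gcd (8 * 168) (8 * n) := Nat.dvd_gcd hdvd hNG
    rw [Nat.gcd_mul_left, show (168 : ℕ) = 8 * 21 from rfl,
      Nat.Coprime.gcd_mul_left_cancel 21 (Nat.Coprime.pow_left 3 (Nat.coprime_two_left.2 hodd))] at h4
    exact h4.trans (Nat.mul_dvd_mul_left 8 (Nat.gcd_dvd_left _ _))
  have hCN : Nat.card ↥C ∣ Nat.card ↥N := Subgroup.card_dvd_of_le inf_le_left
  have hne : Nat.card ↥C ≠ Nat.card ↥N := fun e =>
    hlt (Subgroup.eq_of_le_of_card_ge inf_le_left (le_of_eq e.symm)).ge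
  obtain ⟨i, hi⟩ := h24.trans hCN
  obtain ⟨j, hj⟩ := hCN
  obtain ⟨l, hl⟩ := h24
  have hi7 : i ∣ 7 := by
    rw [hi, show (168 : ℕ) = 24 * 7 from rfl] at h168
    exact Nat.dvd_of_mul_dvd_mul_left (by norm_num) h168
  rcases (Nat.dvd_prime (by norm_num : Nat.Prime 7)).1 hi7 with rfl | rfl
  · refine absurd ?_ hne
    have h5 : Nat.card ↥C ∣ 24 := by rw [show (24 : ℕ) = Nat.card ↥N by omega, hj]; exact dvd_mul_right _ _
    have h6 := Nat.le_of_dvd (by norm_num) h5
    have h7 : 0 < Nat.card ↥C := Nat.card_pos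
    omega
  · omega

/-- transport along an isomorphism -/
theorem transport {G H : Type*} [Group G] [Group H] (f : G ≃* H) {S : Subgroup G} {n : ℕ}
    (h : Subgroup.centralizer (S : Set G) = S ∧ Nat.card ↥(Subgroup.normalizer (S : Set G)) = n) :
    Subgroup.centralizer ((S.map f.toMonoidHom : Subgroup H) : Set H) = S.map f.toMonoidHom ∧
      Nat.card ↥(Subgroup.normalizer ((S.map f.toMonoidHom : Subgroup H) : Set H)) = n := by
  constructor
  · conv_rhs => rw [← h.1]
    ext y
    obtain ⟨x, rfl⟩ := f.surjective y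
    rw [map_mem_iff, Subgroup.mem_centralizer_iff, Subgroup.mem_centralizer_iff]
    constructor
    · intro hy z hz
      exact f.injective (by rw [map_mul, map_mul]; exact hy _ (Subgroup.mem_map_of_mem _ hz))
    · rintro hy _ ⟨z, hz, rfl⟩
      show f z * f x = f x * f z
      rw [← map_mul, ← map_mul, hy z hz]
  · rw [← Subgroup.map_equiv_normalizer_eq, Subgroup.card_map_of_injective f.injective, h.2]

theorem sylow_two_normalizer (hm : 1 ≤ m) (S : Sylow 2 ↥(twistedG2 F (3 ^ m))) :
    Subgroup.centralizer ((S : Subgroup ↥(twistedG2 F (3 ^ m))) : Set ↥(twistedG2 F (3 ^ m))) = S ∧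
      Nat.card ↥(Subgroup.normalizer ((S : Subgroup ↥(twistedG2 F (3 ^ m))) : Set ↥(twistedG2 F (3 ^ m)))) = 168 := by
  have := Fact.mk Nat.prime_two
  set e : ↥G₁ ≃* ↥(twistedG2 F (3 ^ m)) := genEquiv MT K (g2Words F (3 ^ m)) with he
  have hrange : (S : Subgroup ↥(twistedG2 F (3 ^ m))) ≤ e.toMonoidHom.range := fun x _ => by
    rw [MonoidHom.range_eq_top.2 e.surjective]; trivial
  obtain ⟨S₀, hS₀⟩ := exists_sylow_two Z hK
  obtain ⟨g, hg⟩ := MulAction.exists_smul_eq ↥G₁ S₀ (S.comapOfInjective e.toMonoidHom e.injective hrange)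
  have hmap : (S : Subgroup ↥(twistedG2 F (3 ^ m))) =
      (E₈).map ((MulAut.conj g).trans e).toMonoidHom := by
    have h1 : ((g • S₀ : Sylow 2 ↥G₁) : Subgroup ↥G₁) =
        (S : Subgroup ↥(twistedG2 F (3 ^ m))).comap e.toMonoidHom :=
      congrArg Sylow.toSubgroup hg
    rw [Sylow.coe_subgroup_smul, hS₀] at h1
    rw [← Subgroup.map_comap_eq_self hrange, ← h1, Subgroup.pointwise_smul_def]
    exact Subgroup.map_map _ _ _
  rw [hmap]
  exact transport Z hK _ ⟨centralizer_eight Z hK, card_normalizer Z hK hm⟩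

end Cfsg.Agent.Twisted.TypeG2
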