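import Cfsg.Agent.Lib.Ree.TorusFour

/-!
Element orders, counts, cyclic subgroups and centralisers of the tori of the small Ree group.
-/

set_option autoImplicit false
set_option linter.unusedSectionVars false

namespace Cfsg.Agent.Twisted.TypeG2

open ChevGroup ChevIsogeny Cfsg.Lie
open scoped MatrixGroups

theorem card_orderOf_congr {G H : Type*} [Group G] [Group H] (e : G ≃* H) (i : ℕ) :
    Nat.card {y : H // orderOf y = i} = Nat.card {x : G // orderOf x = i} :=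
  (Nat.card_congr (e.toEquiv.subtypeEquiv fun x => by
    rw [MulEquiv.toEquiv_eq_coe, EquivLike.coe_coe, e.orderOf_eq])).symm

variable {F : Type*} [Field F] [Fintype F] {m : ℕ} {K : Rels chevG2 F}

variable (Z : Frame (T := MT) K PP (3 ^ m) fd) (hK : Fintype.card F = 3 ^ (2 * m + 1))

set_option quotPrecheck false in
local notation "G₁" => genG MT K (g2Words F (3 ^ m))

set_option quotPrecheck false in
local notation "G¹" => twistedG2 F (3 ^ m)

set_option quotPrecheck false in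
local notation "q₀" => (3 ^ (2 * m + 1))

include Z hK

/-- the isomorphism of the two models -/
theorem exists_iso : Nonempty (↥G₁ ≃* ↥G¹) := ⟨genEquiv MT K (g2Words F (3 ^ m))⟩

theorem spectrum (hm : 1 ≤ m) (d : ℕ) :
    (∃ g : ↥G¹, orderOf g = d) ↔
      (d ∣ 6 ∨ d ∣ 9 ∨ d ∣ q₀ - 1 ∨ d ∣ (q₀ + 1) / 2 ∨
        d ∣ q₀ - 3 ^ (m + 1) + 1 ∨ d ∣ q₀ + 3 ^ (m + 1) + 1) := by
  obtain ⟨e⟩ := exists_iso Z hK
  obtain ⟨D₁, D₂, -, -, hcov⟩ := pair_data Z hK hm
  constructor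
  · rintro ⟨g, rfl⟩
    obtain ⟨x, rfl⟩ := e.surjective g
    rw [e.orderOf_eq]
    have hk := orderOf_kinds Z hK hm x
    unfold kindOf at hk
    split_ifs at hk with h1 h2 h3 h6 h9 hH hT
    · exact Or.inl (by rw [h1]; exact one_dvd _)
    · exact Or.inl (by rw [h2]; norm_num)
    · exact Or.inl (by rw [h3]; norm_num)
    · exact Or.inl (by rw [h6])
    · exact Or.inr (Or.inl (by rw [h9]))
    · exact Or.inr (Or.inr (Or.inl hH))
    · refine Or.inr (Or.inr (Or.inr (Or.inl ?_)))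
      have hx2 : x ^ 2 ≠ 1 := fun e2 => by
        rcases (Nat.dvd_prime Nat.prime_two).1 (orderOf_dvd_of_pow_eq_one e2) with h | h
        · exact h1 h
        · exact h2 h
      obtain ⟨c, hc⟩ := exists_conj_qTor' Z hK hm (orderOf_dvd_iff_pow_eq_one.1 hT) hx2
      rw [← (MulAut.conj c).orderOf_eq x]
      exact orderOf_dvd_of_pow_eq_one (qTor_pow Z hK hc)
    · rcases hcov x (hk.1 rfl).1 with h | h
      · exact Or.inr (Or.inr (Or.inr (Or.inr (Or.inl h))))
      · exact Or.inr (Or.inr (Or.inr (Or.inr (Or.inr h))))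
  · intro hd
    have key : ∀ n : ℕ, n ≠ 0 → d ∣ n → (∃ x : ↥G₁, orderOf x = n) → ∃ g : ↥G¹, orderOf g = d := by
      rintro n hn hdn ⟨x, hx⟩
      refine ⟨e (x ^ (n / d)), ?_⟩
      rw [e.orderOf_eq, orderOf_pow x, hx, Nat.gcd_eq_right (Nat.div_dvd_of_dvd hdn),
        Nat.div_div_self hdn hn]
    obtain ⟨c2, c3, c6, c9⟩ := small_counts Z hK hm
    have hq : 27 ≤ q₀ :=
      le_trans (by norm_num : 27 ≤ 3 ^ 3) (Nat.pow_le_pow_right (by norm_num) (by omega))
    have hex : ∀ (i N : ℕ), N ≠ 0 → Nat.card {x : ↥G₁ // orderOf x = i} = N → ∃ x : ↥G₁, orderOf x = i := by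
      intro i N hN h
      have : Nonempty {x : ↥G₁ // orderOf x = i} := by
        by_contra hne
        rw [not_nonempty_iff] at hne
        exact hN (h ▸ Nat.card_of_isEmpty)
      exact ⟨_, this.some.2⟩
    have hpos : (q₀ ^ 2 * (q₀ - 1) * (q₀ ^ 3 + 1)) ≠ 0 :=
      Nat.mul_ne_zero (Nat.mul_ne_zero (by positivity) (by omega)) (by omega)
    rcases hd with h | h | h | h | h | h
    · exact key 6 (by norm_num) h (hex 6 _ hpos c6)
    · exact key 9 (by norm_num) h (hex 9 _ hpos c9)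
    · refine key _ (by omega) h ?_
      have := isCyclic_hSub Z hK
      obtain ⟨x, hx⟩ := IsCyclic.exists_ofOrder_eq_natCard (α := ↥(hSub Z hK))
      exact ⟨x, by rw [Subgroup.orderOf_coe, hx, card_hSub Z hK]⟩
    · exact key _ (by omega) h ⟨rrG Z hK, orderOf_rrG Z hK⟩
    · refine key _ (by omega) h ?_
      have := D₁.cyclic
      obtain ⟨x, hx⟩ := IsCyclic.exists_ofOrder_eq_natCard (α := ↥D₁.A)
      exact ⟨x, by rw [Subgroup.orderOf_coe, hx, D₁.card]⟩
    · refine key _ (by omega) h ?_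
      have := D₂.cyclic
      obtain ⟨x, hx⟩ := IsCyclic.exists_ofOrder_eq_natCard (α := ↥D₂.A)
      exact ⟨x, by rw [Subgroup.orderOf_coe, hx, D₂.card]⟩

theorem sylow_cyclic (hm : 1 ≤ m) {p : ℕ} [Fact p.Prime] (hp : 3 < p) (P : Sylow p ↥G¹) :
    IsCyclic (P : Subgroup ↥G¹) := by
  obtain ⟨e⟩ := exists_iso Z hK
  obtain ⟨DH, hDH⟩ := split_data Z hK hm
  obtain ⟨DT, hDT⟩ := quarter_data Z hK hm
  obtain ⟨D₁, D₂, hD₁, hD₂, hcov⟩ := pair_data Z hK hm
  have key : ∀ {k n : ℕ} (D : TorusData ↥G¹ k n), Nat.card ↥D.C ∣ 2 ^ 2 * k → p ∣ k →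
      IsCyclic (P : Subgroup ↥G¹) := by
    intro k n D hCk hpk
    have hA := D.cyclic
    by_cases hP : (P : Subgroup ↥G¹) = ⊥
    · rw [hP]; infer_instance
    have : Nontrivial ↥(P : Subgroup ↥G¹) := (Subgroup.nontrivial_iff_ne_bot _).2 hP
    have := IsPGroup.center_nontrivial P.2
    obtain ⟨⟨z, hz⟩, hz1⟩ := exists_ne (1 : ↥(Subgroup.center ↥(P : Subgroup ↥G¹)))
    -- a central element of order `p`
    obtain ⟨j, hj⟩ := (IsPGroup.iff_orderOf.1 P.2) z
    have hj0 : j ≠ 0 := by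
      rintro rfl
      rw [pow_zero] at hj
      exact hz1 (Subtype.ext (orderOf_eq_one_iff.1 hj))
    set y : ↥(P : Subgroup ↥G¹) := z ^ (p ^ (j - 1)) with hy
    have hyp : orderOf y = p := by
      rw [hy, orderOf_pow z, hj, Nat.gcd_eq_right (pow_dvd_pow p (Nat.sub_le j 1)),
        Nat.pow_div (Nat.sub_le j 1) (Fact.out : p.Prime).pos, show j - (j - 1) = 1 by omega, pow_one]
    obtain ⟨c, hc⟩ := D.conj_mem (y : ↥G¹)
      (orderOf_dvd_iff_pow_eq_one.1 (by rw [Subgroup.orderOf_coe, hyp]; exact hpk))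
    have hc1 : c * (y : ↥G¹) * c⁻¹ ≠ 1 := fun e1 => by
      rw [conj_eq_one_iff] at e1
      have : y = 1 := Subtype.ext e1
      rw [this, orderOf_one] at hyp
      exact (Fact.out : p.Prime).one_lt.ne hyp
    -- so the Sylow subgroup is conjugate into the centraliser
    have hle : (P : Subgroup ↥G¹).map (MulAut.conj c).toMonoidHom ≤ D.C := by
      rintro _ ⟨w, hw, rfl⟩
      rw [← D.centralizer_eq _ hc hc1, Subgroup.mem_centralizer_singleton_iff]
      have hcomm : Commute w (y : ↥G¹) :=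
        congrArg Subtype.val (Subgroup.mem_center_iff.1 (pow_mem hz _ : y ∈ _) ⟨w, hw⟩)
      exact ((Commute.conj_iff c).2 hcomm).eq
    -- whose `p`-elements lie in the cyclic subgroup
    have hleA : (P : Subgroup ↥G¹).map (MulAut.conj c).toMonoidHom ≤ D.A := by
      intro w hw
      have hpA : ¬ p ∣ (D.A.subgroupOf D.C).index := by
        intro h
        have h1 := (D.A.subgroupOf D.C).card_mul_index
        rw [Nat.card_congr (Subgroup.subgroupOfEquivOfLe D.le).toEquiv, D.card] at h1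
        have h2 : (D.A.subgroupOf D.C).index ∣ 2 ^ 2 := by
          rw [← h1, mul_comm (2 ^ 2)] at hCk
          exact Nat.dvd_of_mul_dvd_mul_left (by rw [← D.card]; exact Nat.card_pos) hCk
        have := (Nat.prime_dvd_prime_iff_eq (Fact.out : p.Prime) Nat.prime_two).1
          ((Fact.out : p.Prime).dvd_of_dvd_pow (h.trans h2))
        omega
      have hcomm : IsMulCommutative ↥D.C := ⟨⟨fun a b => Subtype.ext (D.comm _ a.2 _ b.2)⟩⟩
      obtain ⟨w₀, hw₀, rfl⟩ := hw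
      obtain ⟨i, hi⟩ := (IsPGroup.iff_orderOf.1 P.2) ⟨w₀, hw₀⟩
      rw [Subgroup.orderOf_mk] at hi
      have hN : (D.A.subgroupOf D.C).Normal := inferInstance
      have h1 : (⟨_, hle (Subgroup.mem_map_of_mem _ hw₀)⟩ : ↥D.C) ^ (D.A.subgroupOf D.C).index ∈
          D.A.subgroupOf D.C := Subgroup.pow_index_mem _ _
      rw [Subgroup.mem_subgroupOf, Subgroup.coe_pow] at h1
      have h2 : ((MulAut.conj c).toMonoidHom w₀) ^ (p ^ i) ∈ D.A := by
        rw [← map_pow, ← hi, pow_orderOf_eq_one, map_one]; exact one_mem _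
      obtain ⟨a, b, hab⟩ : ∃ a b : ℤ, a * (D.A.subgroupOf D.C).index + b * (p ^ i : ℕ) = 1 := by
        have := Nat.gcd_eq_gcd_ab (D.A.subgroupOf D.C).index (p ^ i)
        rw [(((Nat.Prime.coprime_iff_not_dvd (Fact.out : p.Prime)).2 hpA).pow_left i).symm.gcd_eq_one] at this
        exact ⟨_, _, by rw [mul_comm, mul_comm (Nat.gcdB _ _)]; exact_mod_cast this.symm⟩
      have h3 := mul_mem (zpow_mem h1 a) (zpow_mem h2 b)
      rw [← zpow_natCast, ← zpow_natCast, ← zpow_mul, ← zpow_mul, ← zpow_add, mul_comm, mul_comm _ b,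
        hab, zpow_one] at h3
      exact h3
    have := isCyclic_of_injective (Subgroup.inclusion hleA) (Subgroup.inclusion_injective _)
    exact ((P : Subgroup ↥G¹).equivMapOfInjective _ (MulAut.conj c).injective).isCyclic.2 this
  by_cases hpP : p ∣ Nat.card ↥(P : Subgroup ↥G¹)
  swap
  · have : (P : Subgroup ↥G¹) = ⊥ := by
      rw [Subgroup.eq_bot_iff_card]
      obtain ⟨j, hj⟩ := P.2.exists_card_eq
      rcases j with _ | j
      · rw [hj, pow_zero]
      · exact absurd (hj ▸ dvd_pow_self p (Nat.succ_ne_zero j)) hpP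
    rw [this]; infer_instance
  have hpG : p ∣ Nat.card ↥G₁ :=
    (hpP.trans (Subgroup.card_subgroup_dvd_card _)).trans (Nat.card_congr e.toEquiv).symm.dvd
  obtain ⟨n, s, M, hn, -, hs, -, -, -, hM, -, -, -, -, -, hM'⟩ := q_facts m
  rw [card_genG Z hK, hM'] at hpG
  have hpp : p.Prime := Fact.out
  rcases hpp.dvd_mul.1 hpG with h | h
  · rcases hpp.dvd_mul.1 h with h | h
    · have := (Nat.prime_dvd_prime_iff_eq hpp Nat.prime_three).1 (hpp.dvd_of_dvd_pow (hpp.dvd_of_dvd_pow h))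
      omega
    · refine key (DH.map e) ?_ ?_
      · show Nat.card ↥(DH.C.map e.toMonoidHom) ∣ _
        rw [Subgroup.card_map_of_injective e.injective, hDH, card_hSub Z hK, hn,
          Nat.mul_div_cancel_left _ two_pos]
        exact Dvd.intro 2 (by ring)
      rw [hn, Nat.mul_div_cancel_left _ two_pos]
      rw [hn] at h
      rcases hpp.dvd_mul.1 h with h' | h'
      · have := (Nat.prime_dvd_prime_iff_eq hpp Nat.prime_two).1 h'; omega
      · exact h'
  · rcases hpp.dvd_mul.1 h with h | h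
    · refine key (DT.map e) ?_ ?_
      · show Nat.card ↥(DT.C.map e.toMonoidHom) ∣ _
        rw [Subgroup.card_map_of_injective e.injective, hDT, card_qTor Z hK, hs,
          Nat.mul_div_cancel_left _ (by norm_num)]
        exact dvd_of_eq (by norm_num)
      rw [hs, Nat.mul_div_cancel_left _ (by norm_num)]
      rw [hs] at h
      rcases hpp.dvd_mul.1 h with h' | h'
      · have := (Nat.prime_dvd_prime_iff_eq hpp Nat.prime_two).1 (hpp.dvd_of_dvd_pow (show p ∣ 2 ^ 2 from h'))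
        omega
      · exact h'
    · have := Fact.mk hpp
      obtain ⟨x, hx⟩ := exists_prime_orderOf_dvd_card' (G := ↥G₁) p (by
        rw [card_genG Z hK, hM']; exact (h.mul_left _).mul_left _)
      rcases hcov x (orderOf_dvd_iff_pow_eq_one.1 (by rw [hx, hM]; exact h)) with h' | h'
      · refine key (D₁.map e) ?_ (hx ▸ h')
        show Nat.card ↥(D₁.C.map e.toMonoidHom) ∣ _
        rw [Subgroup.card_map_of_injective e.injective, hD₁, D₁.card]
        exact dvd_mul_left _ _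
      · refine key (D₂.map e) ?_ (hx ▸ h')
        show Nat.card ↥(D₂.C.map e.toMonoidHom) ∣ _
        rw [Subgroup.card_map_of_injective e.injective, hD₂, D₂.card]
        exact dvd_mul_left _ _

theorem torus_subgroups (hm : 1 ≤ m) :
    ∀ kn ∈ ({((q₀ - 1) / 2, 2 * (q₀ - 1)), ((q₀ + 1) / 4, 6 * (q₀ + 1)),
        (q₀ - 3 ^ (m + 1) + 1, 6 * (q₀ - 3 ^ (m + 1) + 1)),
        (q₀ + 3 ^ (m + 1) + 1, 6 * (q₀ + 3 ^ (m + 1) + 1))} : Set (ℕ × ℕ)),
      ∃ A : Subgroup ↥G¹, IsCyclic A ∧ Nat.card A = kn.1 ∧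
        Nat.card (Subgroup.normalizer (A : Set ↥G¹)) = kn.2 ∧
        ∀ A₀ : Subgroup ↥G¹, A₀ ≤ A → A₀ ≠ ⊥ →
          Subgroup.normalizer (A₀ : Set ↥G¹) = Subgroup.normalizer (A : Set ↥G¹) := by
  obtain ⟨e⟩ := exists_iso Z hK
  obtain ⟨DH, -⟩ := split_data Z hK hm
  obtain ⟨DT, -⟩ := quarter_data Z hK hm
  obtain ⟨D₁, D₂, -, -, -⟩ := pair_data Z hK hm
  have key : ∀ {k n : ℕ} (D : TorusData ↥G₁ k n), ∃ A : Subgroup ↥G¹, IsCyclic A ∧ Nat.card A = k ∧
      Nat.card (Subgroup.normalizer (A : Set ↥G¹)) = n ∧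
        ∀ A₀ : Subgroup ↥G¹, A₀ ≤ A → A₀ ≠ ⊥ →
          Subgroup.normalizer (A₀ : Set ↥G¹) = Subgroup.normalizer (A : Set ↥G¹) := fun D =>
    ⟨(D.map e).A, (D.map e).cyclic, (D.map e).card, (D.map e).card_normalizer, (D.map e).normalizer_eq⟩
  intro kn hkn
  simp only [Set.mem_insert_iff, Set.mem_singleton_iff] at hkn
  rcases hkn with rfl | rfl | rfl | rfl
  · exact key DH
  · exact key DT
  · exact key D₁
  · exact key D₂

theorem cyclic_conjugate (hm : 1 ≤ m) (d : ℕ)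
    (hd : d ∣ (q₀ - 1) / 2 ∨ d ∣ (q₀ + 1) / 4 ∨ d ∣ q₀ - 3 ^ (m + 1) + 1 ∨ d ∣ q₀ + 3 ^ (m + 1) + 1)
    (A B : Subgroup ↥G¹) (hA : IsCyclic A) (hB : IsCyclic B) (hAd : Nat.card A = d) (hBd : Nat.card B = d) :
    ∃ g : ↥G¹, B = A.map (MulAut.conj g).toMonoidHom := by
  obtain ⟨e⟩ := exists_iso Z hK
  obtain ⟨DH, -⟩ := split_data Z hK hm
  obtain ⟨DT, -⟩ := quarter_data Z hK hm
  obtain ⟨D₁, D₂, -, -, -⟩ := pair_data Z hK hm
  rcases hd with h | h | h | h
  · exact (DH.map e).conj_of_card_eq A B hA hB (hAd ▸ h) (hBd.trans hAd.symm)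
  · exact (DT.map e).conj_of_card_eq A B hA hB (hAd ▸ h) (hBd.trans hAd.symm)
  · exact (D₁.map e).conj_of_card_eq A B hA hB (hAd ▸ h) (hBd.trans hAd.symm)
  · exact (D₂.map e).conj_of_card_eq A B hA hB (hAd ▸ h) (hBd.trans hAd.symm)

theorem centralizers_tori (hm : 1 ≤ m) (H : Subgroup ↥G¹) (hH : IsCyclic H) :
    (Nat.card H = (q₀ - 1) / 2 →
      IsCyclic ↥(Subgroup.centralizer (H : Set ↥G¹)) ∧
        Nat.card ↥(Subgroup.centralizer (H : Set ↥G¹)) = q₀ - 1 ∧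
        ∀ A : Subgroup ↥G¹, A ≤ H → A ≠ ⊥ →
          Subgroup.centralizer (A : Set ↥G¹) = Subgroup.centralizer (H : Set ↥G¹)) ∧
    (Nat.card H = (q₀ + 1) / 4 →
      IsMulCommutative ↥(Subgroup.centralizer (H : Set ↥G¹)) ∧
        Nat.card ↥(Subgroup.centralizer (H : Set ↥G¹)) = q₀ + 1 ∧
        (∀ x ∈ Subgroup.centralizer (H : Set ↥G¹), orderOf x ≠ 4) ∧
        ∀ A : Subgroup ↥G¹, A ≤ H → A ≠ ⊥ →
          Subgroup.centralizer (A : Set ↥G¹) = Subgroup.centralizer (H : Set ↥G¹)) := by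
  obtain ⟨e⟩ := exists_iso Z hK
  have hq : 27 ≤ q₀ :=
    le_trans (by norm_num : 27 ≤ 3 ^ 3) (Nat.pow_le_pow_right (by norm_num) (by omega))
  constructor
  · intro hc
    obtain ⟨DH, hDH⟩ := split_data Z hK hm
    obtain ⟨D, rfl, g, hg⟩ := (DH.map e).exists_of_cyclic H hH hc
    have hne : D.A ≠ ⊥ := fun h => by
      rw [h, Subgroup.card_bot] at hc; omega
    rw [D.centralizer_subgroup le_rfl hne]
    have hC : D.C = (hSub Z hK).map ((MulAut.conj g).toMonoidHom.comp e.toMonoidHom) := by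
      rw [hg]
      show (DH.C.map e.toMonoidHom).map _ = _
      rw [Subgroup.map_map, hDH]
    have hinj : Function.Injective ((MulAut.conj g).toMonoidHom.comp e.toMonoidHom) :=
      (MulAut.conj g).injective.comp e.injective
    refine ⟨?_, ?_, fun A hA hA1 => D.centralizer_subgroup hA hA1⟩
    · rw [hC]
      exact ((hSub Z hK).equivMapOfInjective _ hinj).isCyclic.1 (isCyclic_hSub Z hK)
    · rw [hC, Subgroup.card_map_of_injective hinj, card_hSub Z hK]
  · intro hc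
    obtain ⟨DT, hDT⟩ := quarter_data Z hK hm
    obtain ⟨D, rfl, g, hg⟩ := (DT.map e).exists_of_cyclic H hH hc
    have hne : D.A ≠ ⊥ := fun h => by
      rw [h, Subgroup.card_bot] at hc; omega
    rw [D.centralizer_subgroup le_rfl hne]
    have hC : D.C = (qTor Z hK).map ((MulAut.conj g).toMonoidHom.comp e.toMonoidHom) := by
      rw [hg]
      show (DT.C.map e.toMonoidHom).map _ = _
      rw [Subgroup.map_map, hDT]
    have hinj : Function.Injective ((MulAut.conj g).toMonoidHom.comp e.toMonoidHom) :=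
      (MulAut.conj g).injective.comp e.injective
    refine ⟨⟨⟨fun a b => Subtype.ext (D.comm _ a.2 _ b.2)⟩⟩, ?_, ?_,
      fun A hA hA1 => D.centralizer_subgroup hA hA1⟩
    · rw [hC, Subgroup.card_map_of_injective hinj, card_qTor Z hK]
    · intro x hx
      rw [hC] at hx
      obtain ⟨y, -, rfl⟩ := Subgroup.mem_map.1 hx
      rw [orderOf_injective _ hinj]
      exact fun h => four_not_dvd_orderOf Z hK y (dvd_of_eq h.symm)

/-- The elements of order `2 i` of the torus of order `q + 1`. -/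
theorem card_two_mul {i : ℕ} (hi : Odd i) (hi1 : 1 < i) (hid : i ∣ (q₀ + 1) / 4) :
    Nat.card {x : ↥G₁ // x ∈ qTor Z hK ∧ orderOf x = 2 * i} = 3 * Nat.totient i := by
  classical
  obtain ⟨j, hj⟩ := hi
  have hV : Nat.card {v : ↥G₁ // v ∈ vFour Z hK ∧ v ∉ (⊥ : Subgroup ↥G₁)} = 3 := by
    have h := card_diff (W := (⊥ : Subgroup ↥G₁)) (T := vFour Z hK) bot_le
    rw [Subgroup.card_bot, card_vFour Z hK] at h
    omega
  refine (Eq.trans ?_ (congrArg₂ (· * ·) hV (card_orderOf_cyclic (qHalf Z hK) (Subgroup.isCyclic_zpowers _)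
    (by rw [card_qHalf Z hK]; exact hid))))
  rw [← Nat.card_prod]
  have hv2 : ∀ v ∈ vFour Z hK, v ^ 2 = 1 := fun v hv => by
    obtain ⟨e, rfl⟩ := hv
    have h2' : ∀ z : Multiplicative (ZMod 2), z ^ 2 = 1 := fun z => by
      rcases two_cases z with rfl | rfl <;> rfl
    rw [← map_pow, show e ^ 2 = 1 from Prod.ext (h2' _) (h2' _), map_one]
  -- the two parts of an element of order `2 i`
  have split : ∀ x : ↥G₁, x ∈ qTor Z hK → orderOf x = 2 * i →
      (x ^ i ∈ vFour Z hK ∧ x ^ i ∉ (⊥ : Subgroup ↥G₁)) ∧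
        (x ^ (i + 1) ∈ qHalf Z hK ∧ orderOf (x ^ (i + 1)) = i) := by
    intro x hx ho
    refine ⟨⟨mem_vFour_of_sq Z hK (pow_mem hx _) ?_, fun h => ?_⟩, ?_, ?_⟩
    · rw [← pow_add, ← two_mul, ← ho, pow_orderOf_eq_one]
    · have := Nat.le_of_dvd (by omega) (orderOf_dvd_of_pow_eq_one (Subgroup.mem_bot.1 h))
      omega
    · rw [hj, show 2 * j + 1 + 1 = 2 * (j + 1) by ring, pow_mul]
      exact pow_mem (sq_mem_qHalf Z hK hx) _
    · rw [orderOf_pow x, ho, show i + 1 = 2 * (j + 1) by omega, Nat.gcd_mul_left,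
        Nat.Coprime.gcd_eq_one (show Nat.Coprime i (j + 1) from ?_), mul_one,
        Nat.mul_div_cancel_left _ two_pos]
      rw [hj, show 2 * j + 1 = j + (j + 1) by ring, Nat.coprime_add_self_left,
        Nat.coprime_self_add_right]
      exact Nat.coprime_one_right j
  have join : ∀ v t : ↥G₁, v ∈ vFour Z hK → v ∉ (⊥ : Subgroup ↥G₁) → t ∈ qHalf Z hK → orderOf t = i →
      orderOf (v * t) = 2 * i ∧ (v * t) ^ i = v ∧ (v * t) ^ (i + 1) = t := by
    intro v t hv hv1 ht hto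
    have hc : Commute v t := qTor_comm Z hK (vFour_le Z hK hv) (qHalf_le Z hK ht)
    have hvo : orderOf v = 2 := by
      have := Fact.mk Nat.prime_two
      exact orderOf_eq_prime (hv2 v hv) fun e => hv1 (Subgroup.mem_bot.2 e)
    have hvi : v ^ i = v := by rw [hj, pow_succ, pow_mul, hv2 v hv, one_pow, one_mul]
    have hti : t ^ i = 1 := by rw [← hto, pow_orderOf_eq_one]
    refine ⟨?_, by rw [hc.mul_pow, hvi, hti, mul_one], ?_⟩
    · rw [hc.orderOf_mul_eq_mul_orderOf_of_coprime (by rw [hvo, hto]; exact Nat.coprime_two_left.2 ⟨j, hj⟩),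
        hvo, hto]
    · rw [hc.mul_pow, pow_succ, pow_succ, hvi, hti, one_mul, ← sq, hv2 v hv, one_mul]
  exact Nat.card_congr
    { toFun := fun x => (⟨_, (split x.1 x.2.1 x.2.2).1⟩, ⟨_, (split x.1 x.2.1 x.2.2).2⟩)
      invFun := fun p => ⟨p.1.1 * p.2.1, mul_mem (vFour_le Z hK p.1.2.1) (qHalf_le Z hK p.2.2.1),
        (join _ _ p.1.2.1 p.1.2.2 p.2.2.1 p.2.2.2).1⟩
      left_inv := fun x => Subtype.ext (by
        show x.1 ^ i * x.1 ^ (i + 1) = x.1
        rw [← pow_add, show i + (i + 1) = 2 * i + 1 by ring, pow_succ,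
          orderOf_dvd_iff_pow_eq_one.1 (dvd_of_eq x.2.2), one_mul])
      right_inv := fun p => Prod.ext (Subtype.ext (join _ _ p.1.2.1 p.1.2.2 p.2.2.1 p.2.2.2).2.1)
        (Subtype.ext (join _ _ p.1.2.1 p.1.2.2 p.2.2.1 p.2.2.2).2.2) }

theorem order_counts (hm : 1 ≤ m) :
    Nat.card {g : ↥G¹ // orderOf g = 2} = q₀ ^ 2 * (q₀ ^ 2 - q₀ + 1) ∧
    Nat.card {g : ↥G¹ // orderOf g = 3} = (q₀ ^ 2 - 1) * (q₀ ^ 3 + 1) ∧
    Nat.card {g : ↥G¹ // orderOf g = 6} = q₀ ^ 2 * (q₀ - 1) * (q₀ ^ 3 + 1) ∧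
    Nat.card {g : ↥G¹ // orderOf g = 9} = q₀ ^ 2 * (q₀ - 1) * (q₀ ^ 3 + 1) ∧
    (∀ i : ℕ, 2 < i → i ∣ q₀ - 1 →
      2 * Nat.card {g : ↥G¹ // orderOf g = i} = Nat.totient i * q₀ ^ 3 * (q₀ ^ 3 + 1)) ∧
    (∀ i : ℕ, 1 < i → i ∣ (q₀ + 1) / 4 →
      6 * Nat.card {g : ↥G¹ // orderOf g = i} =
          Nat.totient i * q₀ ^ 3 * (q₀ - 1) * (q₀ ^ 2 - q₀ + 1) ∧
        2 * Nat.card {g : ↥G¹ // orderOf g = 2 * i} =
          Nat.totient i * q₀ ^ 3 * (q₀ - 1) * (q₀ ^ 2 - q₀ + 1)) ∧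
    (∀ i : ℕ, 1 < i → i ∣ q₀ - 3 ^ (m + 1) + 1 →
      6 * Nat.card {g : ↥G¹ // orderOf g = i} =
        Nat.totient i * q₀ ^ 3 * (q₀ ^ 2 - 1) * (q₀ + 3 ^ (m + 1) + 1)) ∧
    (∀ i : ℕ, 1 < i → i ∣ q₀ + 3 ^ (m + 1) + 1 →
      6 * Nat.card {g : ↥G¹ // orderOf g = i} =
        Nat.totient i * q₀ ^ 3 * (q₀ ^ 2 - 1) * (q₀ - 3 ^ (m + 1) + 1)) := by
  obtain ⟨e⟩ := exists_iso Z hK
  simp only [card_orderOf_congr e]
  obtain ⟨c2, c3, c6, c9⟩ := small_counts Z hK hm
  obtain ⟨DT, hDT⟩ := quarter_data Z hK hm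
  obtain ⟨D₁, D₂, -, -, -⟩ := pair_data Z hK hm
  obtain ⟨n, s, M, hn, -, hs, hsodd, -, -, hM, -, -, -, -, -, hM'⟩ := q_facts m
  have hG := card_genG Z hK
  rw [hM', ← hM] at hG
  have hq : 27 ≤ q₀ :=
    le_trans (by norm_num : 27 ≤ 3 ^ 3) (Nat.pow_le_pow_right (by norm_num) (by omega))
  have hq2 : q₀ ^ 2 - 1 = (q₀ - 1) * (q₀ + 1) := by
    rw [mul_comm (q₀ - 1), ← Nat.sq_sub_sq, one_pow]
  have hr : (3 ^ (m + 1)) ^ 2 = 3 * q₀ := by rw [← pow_mul, ← pow_succ']; congr 1; ring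
  have hrq : 3 ^ (m + 1) ≤ q₀ := Nat.pow_le_pow_right (by norm_num) (by omega)
  have hpair : (q₀ - 3 ^ (m + 1) + 1) * (q₀ + 3 ^ (m + 1) + 1) = q₀ ^ 2 - q₀ + 1 := by
    have h2 : q₀ ≤ q₀ ^ 2 := Nat.le_self_pow two_ne_zero _
    zify [hrq, h2]
    have hr' : ((3 : ℤ) ^ (m + 1)) ^ 2 = 3 * (3 : ℤ) ^ (2 * m + 1) := by exact_mod_cast hr
    linear_combination -hr'
  refine ⟨c2, c3, c6, c9, fun i hi hid => ?_, fun i hi hid => ⟨?_, ?_⟩, fun i hi hid => ?_,
    fun i hi hid => ?_⟩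
  · have h := card_split Z hK (fun x => orderOf x = i)
      (fun c x hx => ((MulAut.conj c).orderOf_eq x).trans hx) fun x hx =>
        ⟨orderOf_dvd_iff_pow_eq_one.1 (hx ▸ hid), fun h2 => by
          have := Nat.le_of_dvd two_pos (hx ▸ orderOf_dvd_of_pow_eq_one h2); omega⟩
    rw [card_orderOf_cyclic _ (isCyclic_hSub Z hK) (by rw [card_hSub Z hK]; exact hid), hG] at h
    refine Nat.eq_of_mul_eq_mul_right (show 0 < q₀ - 1 by omega) ?_
    rw [hM', ← hM]
    linear_combination h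
  · have h := DT.card_orderOf hi hid
    rw [hG] at h
    refine Nat.eq_of_mul_eq_mul_right (show 0 < q₀ + 1 by omega) ?_
    linear_combination h
  · have hi' : Odd i := hsodd.of_dvd_nat (by rwa [hs, Nat.mul_div_cancel_left _ (by norm_num)] at hid)
    have hid' : 2 * i ∣ q₀ + 1 := by
      rw [hs] at hid ⊢
      rw [Nat.mul_div_cancel_left _ (by norm_num)] at hid
      exact Nat.mul_dvd_mul (by norm_num) hid
    have h := card_quarter Z hK hm (fun x => orderOf x = 2 * i)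
      (fun c x hx => ((MulAut.conj c).orderOf_eq x).trans hx) fun x hx =>
        ⟨orderOf_dvd_iff_pow_eq_one.1 (hx ▸ hid'), fun h2 => by
          have := Nat.le_of_dvd two_pos (hx ▸ orderOf_dvd_of_pow_eq_one h2); omega⟩
    rw [card_two_mul Z hK hi' hi hid, hG] at h
    refine Nat.eq_of_mul_eq_mul_right (show 0 < 3 * (q₀ + 1) by omega) ?_
    linear_combination h
  · have h := D₁.card_orderOf hi hid
    rw [hG, ← hpair] at h
    rw [hq2]
    refine Nat.eq_of_mul_eq_mul_right (show 0 < q₀ - 3 ^ (m + 1) + 1 by omega) ?_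
    linear_combination h
  · have h := D₂.card_orderOf hi hid
    rw [hG, ← hpair] at h
    rw [hq2]
    refine Nat.eq_of_mul_eq_mul_right (show 0 < q₀ + 3 ^ (m + 1) + 1 by positivity) ?_
    linear_combination h

end Cfsg.Agent.Twisted.TypeG2
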