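import Mathlib.FieldTheory.Finite.Basic
import Mathlib.FieldTheory.Finite.Trace
import Mathlib.FieldTheory.Galois.Basic
import Mathlib.FieldTheory.IntermediateField.Basic
import Mathlib.LinearAlgebra.FiniteDimensional.Lemmas
import Mathlib.GroupTheory.Coset.Card
import Mathlib.GroupTheory.PGroup
import Mathlib.GroupTheory.Sylow
import Mathlib.RingTheory.IntegralDomain
import Mathlib.RingTheory.Adjoin.Basic

/-!
An element of prime order `p` with `q` of order `6` modulo `p` in a group with a faithful representation of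
dimension at most `7` over the field with `q` elements: its centraliser is cyclic and has index dividing `6`
in the normaliser, when that centraliser has order prime to `q - 1`.
-/

set_option autoImplicit false
set_option linter.unusedSectionVars false
set_option linter.style.haveILetI false

namespace Cfsg.Agent.ReeLinear

open Module

variable {F : Type*} [Field F] {V : Type*} [AddCommGroup V] [Module F V]

/-- the endomorphisms commuting with `t` -/
def commAlg (t : Module.End F V) : Subalgebra F (Module.End F V) :=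
  Subalgebra.centralizer F {t}

theorem mem_commAlg {t f : Module.End F V} : f ∈ commAlg t ↔ t * f = f * t := by
  simp [commAlg, Subalgebra.mem_centralizer_iff]

/-- An element of prime order acting without fixed points: the dimension of an invariant subspace. -/
theorem card_mod [Finite V] {p : ℕ} [Fact p.Prime] (t : Module.End F V) (ht : t ^ p = 1)
    (hfix : ∀ v, t v = v → v = 0) : p ∣ Nat.card V - 1 := by
  classical
  have := Fintype.ofFinite V
  have hinj : Function.Injective t := by
    intro a b hab
    have h := congrArg (⇑(t ^ (p - 1))) hab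
    have hp : p - 1 + 1 = p := Nat.succ_pred_eq_of_pos (Nat.Prime.pos Fact.out)
    rwa [← Module.End.mul_apply, ← Module.End.mul_apply, ← pow_succ, hp, ht, Module.End.one_apply,
      Module.End.one_apply] at h
  let e : Equiv.Perm V := Equiv.ofBijective t (Finite.injective_iff_bijective.1 hinj)
  have hpow : ∀ n v, (e ^ n) v = (t ^ n) v := by
    intro n
    induction n with
    | zero => intro v; simp
    | succ n ih => intro v; rw [pow_succ', pow_succ', Equiv.Perm.mul_apply, ih, Module.End.mul_apply]; rfl
  have hG : IsPGroup p ↥(Subgroup.zpowers e) := by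
    refine IsPGroup.of_card_dvd_pow (n := 1) ?_
    rw [Nat.card_zpowers, pow_one]
    refine orderOf_dvd_of_pow_eq_one (Equiv.ext fun v => ?_)
    rw [hpow, ht]; rfl
  have h := hG.card_modEq_card_fixedPoints V
  have h1 : Nat.card (MulAction.fixedPoints ↥(Subgroup.zpowers e) V) = 1 := by
    rw [Nat.card_eq_one_iff_unique]
    refine ⟨⟨?_⟩, ⟨⟨0, ?_⟩⟩⟩
    · intro a b
      have h0 : ∀ c : MulAction.fixedPoints ↥(Subgroup.zpowers e) V, (c : V) = 0 := fun c =>
        hfix _ (c.2 ⟨e, Subgroup.mem_zpowers e⟩)
      exact Subtype.ext ((h0 a).trans (h0 b).symm)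
    · rintro ⟨g, hg⟩
      obtain ⟨n, rfl⟩ := Submonoid.mem_powers_iff _ _ |>.1 (mem_powers_iff_mem_zpowers.2 hg)
      show (e ^ n) 0 = 0
      rw [hpow, map_zero]
  rw [h1] at h
  exact (Nat.modEq_iff_dvd' Nat.card_pos).1 h.symm

section Irreducible

variable [Finite F] [FiniteDimensional F V] {p : ℕ} [Fact p.Prime] (t : Module.End F V)

/-- A fixed point free element of order `p` on a space of dimension at most `11` is irreducible. -/
theorem irreducible_of_fpf (ht : t ^ p = 1) (hfix : ∀ v, t v = v → v = 0)
    (hord : ∀ d, p ∣ Nat.card F ^ d - 1 → 6 ∣ d) (hdim : finrank F V ≤ 11) :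
    ∀ U : Submodule F V, (∀ u ∈ U, t u ∈ U) → U = ⊥ ∨ U = ⊤ := by
  have : Finite V := Module.finite_of_finite F
  intro U hU
  rcases eq_or_ne U ⊥ with h | h
  · exact Or.inl h
  · right
    have hV : 6 ∣ finrank F V := by
      refine hord _ ?_
      rw [← Module.natCard_eq_pow_finrank]
      exact card_mod t ht hfix
    have hUd : 6 ∣ finrank F U := by
      refine hord _ ?_
      rw [← Module.natCard_eq_pow_finrank]
      refine card_mod (t.restrict hU) ?_ fun v hv => Subtype.ext (hfix _ (congrArg Subtype.val hv))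
      refine LinearMap.ext fun v => Subtype.ext ?_
      rw [Module.End.pow_restrict, LinearMap.coe_restrict_apply, ht]
      rfl
    have h1 : 0 < finrank F U := Nat.pos_of_ne_zero fun e => h (Submodule.finrank_eq_zero.1 e)
    have h2 : finrank F U ≤ finrank F V := Submodule.finrank_le U
    exact Submodule.eq_top_of_finrank_eq (by omega)

variable {t} (hirr : ∀ U : Submodule F V, (∀ u ∈ U, t u ∈ U) → U = ⊥ ∨ U = ⊤)

include hirr

theorem exists_adjoin {v : V} (hv : v ≠ 0) (x : V) :
    ∃ f ∈ Algebra.adjoin F {t}, f v = x := by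
  let U : Submodule F V :=
    (Algebra.adjoin F {t}).toSubmodule.map (LinearMap.applyₗ v : Module.End F V →ₗ[F] V)
  have hU : U = ⊤ := by
    refine (hirr U ?_).resolve_left fun h => hv ?_
    · rintro _ ⟨f, hf, rfl⟩
      exact ⟨t * f, (Subalgebra.mem_toSubmodule _).2
        (mul_mem (Algebra.self_mem_adjoin_singleton F t) ((Subalgebra.mem_toSubmodule _).1 hf)), rfl⟩
    · have h1 : v ∈ U := ⟨1, (Subalgebra.mem_toSubmodule _).2 (one_mem _), rfl⟩
      rwa [h, Submodule.mem_bot] at h1
  have hx : x ∈ U := by rw [hU]; trivial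
  obtain ⟨f, hf, e⟩ := hx
  exact ⟨f, (Subalgebra.mem_toSubmodule _).1 hf, e⟩

theorem adjoin_le_commAlg : Algebra.adjoin F {t} ≤ commAlg t :=
  Algebra.adjoin_le (Set.singleton_subset_iff.2 (mem_commAlg.2 rfl))

theorem eq_zero_of_comm {f : Module.End F V} (hf : f ∈ commAlg t) {v : V} (hv : v ≠ 0)
    (h : f v = 0) : f = 0 := by
  refine LinearMap.ker_eq_top.1 ((hirr _ fun u hu => ?_).resolve_left fun e => hv ?_)
  · rw [LinearMap.mem_ker] at hu ⊢
    rw [← Module.End.mul_apply, ← mem_commAlg.1 hf, Module.End.mul_apply, hu, map_zero]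
  · have h1 : v ∈ LinearMap.ker f := h
    rwa [e, Submodule.mem_bot] at h1

theorem commAlg_eq [Nontrivial V] : commAlg t = Algebra.adjoin F {t} := by
  refine le_antisymm (fun f hf => ?_) (adjoin_le_commAlg hirr)
  obtain ⟨v, hv⟩ := exists_ne (0 : V)
  obtain ⟨g, hg, e⟩ := exists_adjoin hirr hv (f v)
  have h := eq_zero_of_comm hirr (sub_mem hf (adjoin_le_commAlg hirr hg)) hv
    (by rw [LinearMap.sub_apply, e, sub_self])
  rwa [sub_eq_zero.1 h]

theorem commAlg_comm [Nontrivial V] {f g : Module.End F V} (hf : f ∈ commAlg t) (hg : g ∈ commAlg t) :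
    f * g = g * f := by
  rw [commAlg_eq hirr] at hg
  induction hg using Algebra.adjoin_induction with
  | mem x hx =>
    rw [Set.mem_singleton_iff.1 hx]
    exact (mem_commAlg.1 hf).symm
  | algebraMap r => exact (Algebra.commutes r f).symm
  | add a b _ _ ha hb => rw [mul_add, add_mul, ha, hb]
  | mul a b _ _ ha hb => rw [← mul_assoc, ha, mul_assoc, hb, mul_assoc]

end Irreducible

section Rep

variable [Finite F] [FiniteDimensional F V] {G : Type*} [Group G] [Finite G] (ρ : G →* Module.End F V)

/-- the moved space of an element -/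
noncomputable def mov (g : G) : Submodule F V := LinearMap.range (ρ g - 1)

/-- the fixed space of an element -/
noncomputable def fxd (g : G) : Submodule F V := LinearMap.ker (ρ g - 1)

variable {ρ}

theorem mem_fxd {g : G} {v : V} : v ∈ fxd ρ g ↔ ρ g v = v := by
  rw [fxd, LinearMap.mem_ker, LinearMap.sub_apply, Module.End.one_apply, sub_eq_zero]

theorem mov_fxd_disjoint {g : G} {p : ℕ} (hg : orderOf g = p) (hpF : (p : F) ≠ 0) {v : V}
    (h1 : v ∈ mov ρ g) (h2 : ρ g v = v) : v = 0 := by
  obtain ⟨w, hw⟩ := h1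
  rw [LinearMap.sub_apply, Module.End.one_apply, sub_eq_iff_eq_add] at hw
  have key : ∀ n : ℕ, ρ (g ^ n) w = n • v + w := by
    intro n
    induction n with
    | zero => simp
    | succ n ih =>
      rw [pow_succ', map_mul, Module.End.mul_apply, ih, map_add, map_nsmul, h2, hw, succ_nsmul]
      abel
  have h := key p
  rw [← hg, pow_orderOf_eq_one, map_one, Module.End.one_apply, hg, eq_comm, add_eq_right,
    ← Nat.cast_smul_eq_nsmul F] at h
  exact (smul_eq_zero.1 h).resolve_left hpF

theorem mov_invariant {g x : G} {j : ℕ} (h : x * g = g ^ j * x) :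
    ∀ u ∈ mov ρ g, ρ x u ∈ mov ρ g := by
  rintro _ ⟨w, rfl⟩
  have key : ∀ n : ℕ, ∀ y : V, ρ (g ^ n) y - y ∈ mov ρ g := by
    intro n
    induction n with
    | zero => intro y; simp
    | succ n ih =>
      intro y
      have e : ρ (g ^ (n + 1)) y - y = (ρ g (ρ (g ^ n) y) - ρ (g ^ n) y) + (ρ (g ^ n) y - y) := by
        rw [pow_succ', map_mul, Module.End.mul_apply]; abel
      rw [e]
      exact add_mem ⟨ρ (g ^ n) y, rfl⟩ (ih y)
  have e : ρ x ((ρ g - 1) w) = ρ (g ^ j) (ρ x w) - ρ x w := by
    rw [LinearMap.sub_apply, Module.End.one_apply, map_sub, ← Module.End.mul_apply, ← map_mul, h,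
      map_mul, Module.End.mul_apply]
  rw [e]
  exact key j _

theorem sup_eq_top {g : G} {p : ℕ} (hg : orderOf g = p) (hpF : (p : F) ≠ 0) :
    mov ρ g ⊔ fxd ρ g = ⊤ ∧ finrank F (mov ρ g) + finrank F (fxd ρ g) = finrank F V := by
  have h1 : finrank F (mov ρ g) + finrank F (fxd ρ g) = finrank F V :=
    LinearMap.finrank_range_add_finrank_ker _
  have hd : mov ρ g ⊓ fxd ρ g = ⊥ :=
    (Submodule.eq_bot_iff _).2 fun v hv => mov_fxd_disjoint hg hpF hv.1 (mem_fxd.1 hv.2)
  refine ⟨Submodule.eq_top_of_finrank_eq ?_, h1⟩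
  have h2 := Submodule.finrank_sup_add_finrank_inf_eq (mov ρ g) (fxd ρ g)
  rw [hd, finrank_bot, add_zero] at h2
  rw [h2, h1]

/-- The centraliser of an element of prime order `p` with `q` of order `6` modulo `p` is cyclic, and its
index in the normaliser of the cyclic subgroup divides `6`. -/
theorem torus_of_rep (hinj : Function.Injective ρ) (hdim : finrank F V ≤ 7) {g : G} {p : ℕ}
    [Fact p.Prime] (hg : orderOf g = p) (hpF : (p : F) ≠ 0)
    (hord : ∀ d, p ∣ Nat.card F ^ d - 1 → 6 ∣ d)
    (hcop : Nat.Coprime (Nat.card ↥(Subgroup.centralizer {g})) (Nat.card F - 1)) :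
    IsCyclic ↥(Subgroup.centralizer {g}) ∧
      ∃ k, k ∣ 6 ∧ Nat.card ↥(Subgroup.normalizer (Subgroup.zpowers g : Set G)) =
        k * Nat.card ↥(Subgroup.centralizer {g}) := by
  classical
  have hVfin : Finite V := Module.finite_of_finite F
  set W := mov ρ g with hW
  obtain ⟨htop, hsum⟩ := sup_eq_top (ρ := ρ) hg hpF
  have hWg : ∀ u ∈ W, ρ g u ∈ W := mov_invariant (j := 1) (by rw [pow_one])
  let τ : Module.End F W := (ρ g).restrict hWg
  have hτp : τ ^ p = 1 := by
    refine LinearMap.ext fun v => Subtype.ext ?_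
    rw [Module.End.pow_restrict, LinearMap.coe_restrict_apply, ← map_pow, ← hg, pow_orderOf_eq_one,
      map_one]
    rfl
  have hfix : ∀ v : W, τ v = v → v = 0 := fun v hv =>
    Subtype.ext (mov_fxd_disjoint hg hpF v.2 (congrArg Subtype.val hv))
  have hg1 : g ≠ 1 := by
    intro e
    rw [e, orderOf_one] at hg
    exact (Fact.out : p.Prime).one_lt.ne hg
  have hW0 : W ≠ ⊥ := by
    intro e
    refine hg1 (hinj ?_)
    rw [map_one, ← sub_eq_zero]
    exact LinearMap.range_eq_bot.1 e
  have h6 : 6 ∣ finrank F W := by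
    refine hord _ ?_
    rw [← Module.natCard_eq_pow_finrank]
    exact card_mod τ hτp hfix
  have hWpos : 0 < finrank F W := Nat.pos_of_ne_zero fun e => hW0 (Submodule.finrank_eq_zero.1 e)
  rw [← hW] at hsum
  have hW6 : finrank F W = 6 := by omega
  have hΦ1 : finrank F (fxd ρ g) ≤ 1 := by omega
  have hirr := irreducible_of_fpf τ hτp hfix hord (by omega)
  have : Nontrivial W := Module.nontrivial_of_finrank_pos (R := F) (by omega)
  have hext : ∀ a b : Module.End F V, (∀ v ∈ W, a v = b v) → (∀ v ∈ fxd ρ g, a v = b v) → a = b := by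
    intro a b h1 h2
    refine LinearMap.ext fun v => ?_
    have hv : v ∈ W ⊔ fxd ρ g := by rw [htop]; trivial
    obtain ⟨u, hu, f, hf, rfl⟩ := Submodule.mem_sup.1 hv
    rw [map_add, map_add, h1 u hu, h2 f hf]
  let A := commAlg τ
  letI iA : CommRing A :=
    { (inferInstance : Ring A) with mul_comm := fun a b => Subtype.ext (commAlg_comm hirr a.2 b.2) }
  have : NoZeroDivisors A := ⟨fun {a b} hab => by
    by_contra hne
    rw [not_or] at hne
    obtain ⟨v, hv⟩ := exists_ne (0 : W)
    have hbv : (b : Module.End F W) v ≠ 0 := fun e =>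
      hne.2 (Subtype.ext (eq_zero_of_comm hirr b.2 hv e))
    refine hne.1 (Subtype.ext (eq_zero_of_comm hirr a.2 hbv ?_))
    exact LinearMap.congr_fun (congrArg Subtype.val hab) v⟩
  have : Nontrivial A := ⟨⟨0, 1, fun e => by
    obtain ⟨v, hv⟩ := exists_ne (0 : W)
    exact hv (LinearMap.congr_fun (congrArg Subtype.val e) v).symm⟩⟩
  have : IsDomain A := NoZeroDivisors.to_isDomain A
  have hCW : ∀ x : ↥(Subgroup.centralizer {g}), ∀ u ∈ W, ρ (x : G) u ∈ W := fun x =>
    mov_invariant (j := 1) (by rw [pow_one, Subgroup.mem_centralizer_singleton_iff.1 x.2])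
  have hCA : ∀ x : ↥(Subgroup.centralizer {g}), (ρ (x : G)).restrict (hCW x) ∈ A := fun x =>
    mem_commAlg.2 (LinearMap.ext fun v => Subtype.ext (by
      show ρ g (ρ (x : G) v) = ρ (x : G) (ρ g v)
      rw [← Module.End.mul_apply, ← map_mul, ← Subgroup.mem_centralizer_singleton_iff.1 x.2, map_mul,
        Module.End.mul_apply]))
  let φ : ↥(Subgroup.centralizer {g}) →* A :=
    { toFun := fun x => ⟨_, hCA x⟩
      map_one' := Subtype.ext (LinearMap.ext fun v => Subtype.ext (by
        show ρ (1 : G) (v : V) = v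
        rw [map_one]; rfl))
      map_mul' := fun x y => Subtype.ext (LinearMap.ext fun v => Subtype.ext (by
        show ρ ((x : G) * y) (v : V) = ρ (x : G) (ρ (y : G) v)
        rw [map_mul]; rfl)) }
  have hφ : Function.Injective φ := by
    rw [injective_iff_map_eq_one]
    intro x hx
    refine Subtype.ext (hinj ?_)
    rw [Subgroup.coe_one, map_one]
    refine hext _ _ (fun v hv => ?_) fun v hv => ?_
    · exact congrArg Subtype.val (LinearMap.congr_fun (congrArg Subtype.val hx) ⟨v, hv⟩)
    · rcases eq_or_ne v 0 with rfl | hv0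
      · simp
      have hspan : ∀ w ∈ fxd ρ g, ∃ c : F, c • v = w := by
        intro w hw
        have h1 : Submodule.span F {v} = fxd ρ g := by
          refine Submodule.eq_of_le_of_finrank_le ?_ ?_
          · rwa [Submodule.span_singleton_le_iff_mem]
          · rw [finrank_span_singleton hv0]; omega
        rwa [← h1, Submodule.mem_span_singleton] at hw
      have hxv : ρ (x : G) v ∈ fxd ρ g := by
        rw [mem_fxd, ← Module.End.mul_apply, ← map_mul, ← Subgroup.mem_centralizer_singleton_iff.1 x.2,
          map_mul, Module.End.mul_apply, mem_fxd.1 hv]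
      obtain ⟨c, hc⟩ := hspan _ hxv
      have hpow : ∀ n : ℕ, ρ ((x : G) ^ n) v = c ^ n • v := by
        intro n
        induction n with
        | zero => simp
        | succ n ih =>
          rw [pow_succ', map_mul, Module.End.mul_apply, ih, map_smul, ← hc, smul_smul, ← pow_succ]
      have hc0 : c ^ orderOf (x : G) = 1 := by
        have h := hpow (orderOf (x : G))
        rw [pow_orderOf_eq_one, map_one, Module.End.one_apply] at h
        by_contra hne
        exact hv0 ((smul_eq_zero.1 (show (c ^ orderOf (x : G) - 1) • v = 0 by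
          rw [sub_smul, one_smul, ← h, sub_self])).resolve_left (sub_ne_zero.2 hne))
      have hc1 : c = 1 := by
        have hcne : c ≠ 0 := fun e => by
          rw [e, zero_pow (orderOf_pos _).ne'] at hc0
          exact zero_ne_one hc0
        have h1 : orderOf (Units.mk0 c hcne) ∣ orderOf (x : G) :=
          orderOf_dvd_of_pow_eq_one (Units.ext (by rw [Units.val_pow_eq_pow_val]; exact hc0))
        have h2 : orderOf (Units.mk0 c hcne) ∣ Nat.card F - 1 := by
          rw [← Nat.card_units]; exact orderOf_dvd_natCard _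
        have h3 : orderOf (x : G) ∣ Nat.card ↥(Subgroup.centralizer {g}) := by
          rw [← Subgroup.orderOf_mk (x : G) x.2]; exact orderOf_dvd_natCard _
        have h4 := Nat.eq_one_of_dvd_coprimes hcop (h1.trans h3) h2
        exact congrArg Units.val (orderOf_eq_one_iff.1 h4)
      rw [Module.End.one_apply, ← hc, hc1, one_smul]
  refine ⟨isCyclic_of_injective_ringHom φ hφ, ?_⟩
  have hNj : ∀ x : ↥(Subgroup.normalizer (Subgroup.zpowers g : Set G)),
      ∃ j : ℕ, (x : G) * g = g ^ j * x := by
    intro x
    have h : (x : G) * g * (x : G)⁻¹ ∈ Subgroup.zpowers g :=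
      (Subgroup.mem_normalizer_iff.1 x.2 g).1 (Subgroup.mem_zpowers g)
    obtain ⟨j, hj⟩ := (Submonoid.mem_powers_iff _ _).1 (mem_powers_iff_mem_zpowers.2 h)
    exact ⟨j, by rw [hj]; group⟩
  have hNW : ∀ x : ↥(Subgroup.normalizer (Subgroup.zpowers g : Set G)), ∀ u ∈ W, ρ (x : G) u ∈ W :=
    fun x => by obtain ⟨j, hj⟩ := hNj x; exact mov_invariant hj
  let X : ↥(Subgroup.normalizer (Subgroup.zpowers g : Set G)) →* Module.End F W :=
    { toFun := fun x => (ρ (x : G)).restrict (hNW x)
      map_one' := LinearMap.ext fun v => Subtype.ext (by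
        show ρ (1 : G) (v : V) = v
        rw [map_one]; rfl)
      map_mul' := fun x y => LinearMap.ext fun v => Subtype.ext (by
        show ρ ((x : G) * y) (v : V) = ρ (x : G) (ρ (y : G) v)
        rw [map_mul]; rfl) }
  have hXg : ∀ x j, (x : ↥(Subgroup.normalizer (Subgroup.zpowers g : Set G))).1 * g = g ^ j * x.1 →
      X x * τ = τ ^ j * X x := by
    intro x j hj
    refine LinearMap.ext fun v => Subtype.ext ?_
    rw [Module.End.mul_apply, Module.End.mul_apply, Module.End.pow_restrict,
      LinearMap.coe_restrict_apply, ← map_pow]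
    show ρ (x : G) (ρ g v) = ρ (g ^ j) (ρ (x : G) v)
    rw [← Module.End.mul_apply, ← map_mul, hj, map_mul, Module.End.mul_apply]
  have hmem : ∀ x (f : A), X x * f * X x⁻¹ ∈ A := by
    intro x f
    obtain ⟨j, hj⟩ := hNj x⁻¹
    have e : τ * X x = X x * τ ^ j := by
      have h := congrArg (fun z => X x * z * X x) (hXg _ _ hj)
      simp only [mul_assoc] at h
      rwa [← map_mul, inv_mul_cancel, map_one, mul_one, ← mul_assoc (X x) (X x⁻¹), ← map_mul,
        mul_inv_cancel, map_one, one_mul] at h
    have e' : τ ^ j * X x⁻¹ = X x⁻¹ * τ := by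
      have h := congrArg (fun z => X x⁻¹ * z * X x⁻¹) e
      simp only [mul_assoc] at h
      rw [← map_mul, mul_inv_cancel, map_one, mul_one] at h
      rw [h, ← mul_assoc, ← map_mul, inv_mul_cancel, map_one, one_mul]
    refine mem_commAlg.2 ?_
    have hf : τ ^ j * (f : Module.End F W) = f * τ ^ j :=
      ((Commute.pow_left (mem_commAlg.1 f.2 : Commute τ (f : Module.End F W))) j).eq
    calc τ * (X x * f * X x⁻¹) = X x * (τ ^ j * f) * X x⁻¹ := by
          rw [← mul_assoc, ← mul_assoc, e]; simp only [mul_assoc]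
      _ = X x * f * (τ ^ j * X x⁻¹) := by rw [hf]; simp only [mul_assoc]
      _ = X x * f * X x⁻¹ * τ := by rw [e']; simp only [mul_assoc]
  have : Finite (Module.End F W) := Module.finite_of_finite F
  have : Finite A := Subtype.finite
  letI : Fintype A := Fintype.ofFinite A
  letI iF : Field A := Fintype.fieldOfDomain A
  let Ψ : ↥(Subgroup.normalizer (Subgroup.zpowers g : Set G)) →* (A →ₐ[F] A) :=
    { toFun := fun x =>
        { toFun := fun f => ⟨X x * f * X x⁻¹, hmem x f⟩
          map_one' := Subtype.ext (by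
            show X x * 1 * X x⁻¹ = 1
            rw [mul_one, ← map_mul, mul_inv_cancel, map_one])
          map_mul' := fun a b => Subtype.ext (by
            show X x * ((a : Module.End F W) * b) * X x⁻¹ = X x * a * X x⁻¹ * (X x * b * X x⁻¹)
            rw [mul_assoc (X x * a), ← mul_assoc (X x⁻¹), ← mul_assoc (X x⁻¹), ← map_mul, inv_mul_cancel,
              map_one, one_mul]
            simp only [mul_assoc])
          map_zero' := Subtype.ext (by
            show X x * 0 * X x⁻¹ = 0
            simp)
          map_add' := fun a b => Subtype.ext (by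
            show X x * ((a : Module.End F W) + b) * X x⁻¹ = X x * a * X x⁻¹ + X x * b * X x⁻¹
            rw [mul_add, add_mul])
          commutes' := fun r => Subtype.ext (by
            show X x * algebraMap F (Module.End F W) r * X x⁻¹ = algebraMap F (Module.End F W) r
            rw [← Algebra.commutes, mul_assoc, ← map_mul, mul_inv_cancel, map_one, mul_one]) }
      map_one' := AlgHom.ext fun f => Subtype.ext (by
        show X 1 * (f : Module.End F W) * X 1⁻¹ = f
        rw [inv_one, map_one, one_mul, mul_one])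
      map_mul' := fun x y => AlgHom.ext fun f => Subtype.ext (by
        show X (x * y) * (f : Module.End F W) * X (x * y)⁻¹ = X x * (X y * f * X y⁻¹) * X x⁻¹
        rw [mul_inv_rev, map_mul, map_mul]
        simp only [mul_assoc]) }
  have hker : ∀ x, x ∈ Ψ.toHomUnits.ker ↔ (x : G) ∈ Subgroup.centralizer {g} := by
    intro x
    rw [MonoidHom.mem_ker, Units.ext_iff, MonoidHom.coe_toHomUnits, Units.val_one]
    constructor
    · intro hx
      rw [Subgroup.mem_centralizer_singleton_iff]
      have hτA : τ ∈ A := mem_commAlg.2 rfl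
      have h1 : X x * τ * X x⁻¹ = τ := congrArg Subtype.val (AlgHom.congr_fun hx ⟨τ, hτA⟩)
      have h2 : X x * τ = τ * X x := by
        conv_rhs => rw [← h1]
        rw [mul_assoc (X x * τ), ← map_mul, inv_mul_cancel, map_one, mul_one]
      obtain ⟨j, hj⟩ := hNj x
      have h3 : g ^ j = g := by
        refine hinj (hext _ _ (fun v hv => ?_) fun v hv => ?_)
        · have h4 : τ ^ j = τ := by
            have h5 := congrArg (· * X x⁻¹) ((hXg x j hj).symm.trans h2)
            simpa [mul_assoc, ← map_mul] using h5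
          have := congrArg Subtype.val (LinearMap.congr_fun h4 ⟨v, hv⟩)
          rw [Module.End.pow_restrict, LinearMap.coe_restrict_apply, ← map_pow] at this
          exact this
        · rw [map_pow, Module.End.pow_apply]
          rw [Function.iterate_fixed (mem_fxd.1 hv) j, mem_fxd.1 hv]
      rw [hj, h3]
    · intro hx
      refine AlgHom.ext fun f => Subtype.ext ?_
      show X x * (f : Module.End F W) * X x⁻¹ = f
      have hXA : X x ∈ A := hCA ⟨x.1, hx⟩
      rw [commAlg_comm hirr hXA f.2, mul_assoc, ← map_mul, mul_inv_cancel, map_one, mul_one]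
  obtain ⟨v, hv⟩ := exists_ne (0 : W)
  have hfinA : finrank F A = 6 := by
    rw [← hW6]
    let ev : A →ₗ[F] W :=
      { toFun := fun f => (f : Module.End F W) v
        map_add' := fun _ _ => rfl
        map_smul' := fun _ _ => rfl }
    refine (LinearEquiv.ofBijective ev ⟨?_, ?_⟩).finrank_eq
    · intro a b hab
      refine Subtype.ext (sub_eq_zero.1 (eq_zero_of_comm hirr (sub_mem a.2 b.2) hv ?_))
      rw [LinearMap.sub_apply, sub_eq_zero]
      exact hab
    · intro w
      obtain ⟨f, hf, e⟩ := exists_adjoin hirr hv w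
      exact ⟨⟨f, adjoin_le_commAlg hirr hf⟩, e⟩
  have hGal : Nat.card (A →ₐ[F] A)ˣ = 6 := by
    rw [← hfinA, ← IsGalois.card_aut_eq_finrank F A]
    exact Nat.card_congr (AlgEquiv.algHomUnitsEquiv F A).toEquiv
  have hrange := Ψ.toHomUnits.range.card_subgroup_dvd_card
  rw [hGal] at hrange
  refine ⟨Nat.card ↥Ψ.toHomUnits.range, hrange, ?_⟩
  have h1 := Ψ.toHomUnits.ker.card_mul_index
  rw [Subgroup.index_ker] at h1
  rw [← h1, mul_comm]
  congr 1
  have hCN : Subgroup.centralizer {g} ≤ Subgroup.normalizer (Subgroup.zpowers g : Set G) := by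
    intro x hx
    refine Subgroup.centralizer_le_normalizer _ (Subgroup.mem_centralizer_iff.2 ?_)
    rintro _ ⟨i, rfl⟩
    exact ((show Commute g x from (Subgroup.mem_centralizer_singleton_iff.1 hx).symm).zpow_left i).eq
  exact Nat.card_congr ((Equiv.subtypeEquivRight hker).trans
    (Subgroup.subgroupOfEquivOfLe hCN).toEquiv)

end Rep

end Cfsg.Agent.ReeLinear
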