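import Cfsg.Agent.Lib.Ree.Normalizer
import Cfsg.Agent.Lib.Ree.Linear

/-!
The representation of dimension `7` of the small Ree group on the ideal of the short roots in characteristic `3`.
-/

set_option autoImplicit false
set_option linter.unusedSectionVars false

namespace Cfsg.Agent.Twisted.TypeG2

open ChevGroup ChevIsogeny Cfsg.Lie

/-- the coordinates of the short root ideal -/
def shortIdx (i : Fin 7) : chevG2.Idx :=
  [Sum.inl (⟨0, by decide⟩ : Fin chevG2.rank), Sum.inr ⟨2, by decide⟩, Sum.inr ⟨3, by decide⟩,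
    Sum.inr ⟨4, by decide⟩, Sum.inr ⟨7, by decide⟩, Sum.inr ⟨8, by decide⟩,
    Sum.inr (⟨9, by decide⟩ : Fin chevG2.nroots)].getD i.val (Sum.inl ⟨0, by decide⟩)

theorem shortIdx_inj : Function.Injective shortIdx := by decide +kernel

/-- the short roots -/
def shortL : List ℕ := [2, 3, 4, 7, 8, 9]

theorem short_facts : (∀ r : Fin chevG2.nroots,
      r.val ∉ shortL → ((chevG2.cartanSR.getD 0 #[]).getD r.val 0) % 3 = 0) ∧
    (∀ r : Fin chevG2.nroots, chevG2.negIdx.getD r.val 0 ∈ shortL →
      r.val ∈ shortL ∧ ((chevG2.coroot.getD r.val #[]).getD 1 0) % 3 = 0) ∧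
    ∀ r s u : Fin chevG2.nroots, s.val ∈ shortL → u.val ∉ shortL →
      ∀ km ∈ chevG2.chainCoeff r.val s.val u.val, km.2 % 3 = 0 := by
  decide +kernel

theorem mem_range_shortIdx : ∀ k : chevG2.Idx, k ∈ Set.range shortIdx ↔
    (match k with | Sum.inl i => i.val = 0 | Sum.inr s => s.val ∈ shortL) := by
  intro k
  rcases k with i | s
  · revert i; decide +kernel
  · revert s; decide +kernel

variable {F : Type*} [Field F] [Fintype F] {m : ℕ} {K : Rels chevG2 F}

/-- a matrix leaves the short root ideal invariant -/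
def Stab7 (M : Matrix chevG2.Idx chevG2.Idx F) : Prop :=
  ∀ k, k ∉ Set.range shortIdx → ∀ j, M k (shortIdx j) = 0

/-- the action on the short root ideal -/
def res7 (M : Matrix chevG2.Idx chevG2.Idx F) : Matrix (Fin 7) (Fin 7) F :=
  M.submatrix shortIdx shortIdx

theorem res7_mul {A B : Matrix chevG2.Idx chevG2.Idx F} (hB : Stab7 B) :
    res7 (A * B) = res7 A * res7 B := by
  classical
  ext i j
  simp only [res7, Matrix.submatrix_apply, Matrix.mul_apply]
  rw [← Finset.sum_subset (Finset.subset_univ (Finset.univ.image shortIdx)) (fun k _ hk => ?_),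
    Finset.sum_image fun a _ b _ h => shortIdx_inj h]
  rw [hB k (fun ⟨a, ha⟩ => hk (Finset.mem_image.2 ⟨a, Finset.mem_univ a, ha⟩)) j, mul_zero]

theorem Stab7.mul {A B : Matrix chevG2.Idx chevG2.Idx F} (hA : Stab7 A) (hB : Stab7 B) :
    Stab7 (A * B) := by
  intro k hk j
  rw [Matrix.mul_apply]
  refine Finset.sum_eq_zero fun l _ => ?_
  by_cases hl : l ∈ Set.range shortIdx
  · obtain ⟨i, rfl⟩ := hl
    rw [hA k hk i, zero_mul]
  · rw [hB l hl j, mul_zero]

theorem Stab7.one : Stab7 (1 : Matrix chevG2.Idx chevG2.Idx F) := fun k hk j =>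
  Matrix.one_apply_ne fun e => hk ⟨j, e.symm⟩

theorem cast_zero_of_mod (h3 : (3 : F) = 0) {z : ℤ} (hz : z % 3 = 0) : (z : F) = 0 := by
  obtain ⟨w, rfl⟩ := Int.dvd_of_emod_eq_zero hz
  rw [Int.cast_mul, Int.cast_ofNat, h3, zero_mul]

theorem stab7_x (h3 : (3 : F) = 0) (r : ℕ) (t : F) : Stab7 (chevG2.x F r t) := by
  rw [ChevalleyDatum.x]
  split_ifs with hr
  swap
  · exact Stab7.one
  obtain ⟨f1, f2, f3⟩ := short_facts
  intro k hk j
  rw [mem_range_shortIdx] at hk
  have hj : shortIdx j ∈ Set.range shortIdx := ⟨j, rfl⟩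
  rw [mem_range_shortIdx] at hj
  revert hj
  generalize shortIdx j = l
  intro hl
  rcases l with i | s
  · simp only at hl
    rcases k with i' | u
    · simp only at hk
      show (if i' = i then (1 : F) else 0) = 0
      rw [if_neg (show ¬ i' = i from fun e => hk (e ▸ hl))]
    · simp only at hk
      show (if u = ⟨r, hr⟩ then _ else (0 : F)) = 0
      split_ifs with e
      · subst e
        rw [hl, cast_zero_of_mod h3 (f1 ⟨r, hr⟩ hk), neg_zero, zero_mul]
      · rfl
  · simp only at hl
    simp only [ChevalleyDatum.xMat, Matrix.of_apply]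
    split_ifs with e1 e2
    · subst e1
      rcases k with i' | u
      · rfl
      · simp only at hk ⊢
        rw [if_neg (show ¬ u = _ from fun e => hk (e ▸ hl))]
    · have hrs := f2 ⟨r, hr⟩ (e2 ▸ hl)
      rcases k with i' | u
      · simp only at hk ⊢
        have hi : i'.val = 1 := by
          have := i'.isLt
          change i'.val < 2 at this
          omega
        rw [hi, cast_zero_of_mod h3 hrs.2, zero_mul]
      · simp only at hk ⊢
        rw [if_neg (show ¬ u = s from fun e => hk (e ▸ hl)),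
          if_neg (show ¬ u = ⟨r, hr⟩ from fun e => hk (e ▸ hrs.1))]
    · rcases k with i' | u
      · rfl
      · simp only at hk ⊢
        rw [if_neg (show ¬ u = s from fun e => hk (e ▸ hl)), zero_add]
        refine List.sum_eq_zero fun y hy => ?_
        obtain ⟨km, hkm, rfl⟩ := List.mem_map.1 hy
        rw [cast_zero_of_mod h3 (f3 ⟨r, hr⟩ s u hl hk km hkm), zero_mul]

variable (Z : Frame (T := MT) K PP (3 ^ m) fd) (hK : Fintype.card F = 3 ^ (2 * m + 1))

set_option quotPrecheck false in
local notation "G₁" => genG MT K (g2Words F (3 ^ m))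

include Z hK

theorem stab7_mem {g : ↥(chevG2.group F)} (hg : g ∈ G₁) : Stab7 (Model.mat g) := by
  have h3 := three_eq hK
  have hm1 : Model.mat (1 : ↥(chevG2.group F)) = 1 := rfl
  induction hg using Subgroup.closure_induction'' with
  | mem y hy =>
    obtain ⟨w, -, rfl⟩ := hy
    rw [mat_wv]
    induction w with
    | nil => exact Stab7.one
    | cons p w ih =>
      simp only [ChevalleyDatum.wordMat, List.map_cons, List.prod_cons] at ih ⊢
      exact (stab7_x h3 _ _).mul ih
  | inv_mem y hy =>
    have hy' : Stab7 (Model.mat y) := by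
      obtain ⟨w, -, rfl⟩ := hy
      rw [mat_wv]
      induction w with
      | nil => exact Stab7.one
      | cons p w ih =>
        simp only [ChevalleyDatum.wordMat, List.map_cons, List.prod_cons] at ih ⊢
        exact (stab7_x h3 _ _).mul ih
    have key : ∀ n : ℕ, Stab7 (Model.mat (y ^ n)) := by
      intro n
      induction n with
      | zero => rw [pow_zero, hm1]; exact Stab7.one
      | succ n ih => rw [pow_succ, Model.mat_mul]; exact ih.mul hy'
    have := key (orderOf y - 1)
    rwa [← inv_eq_of_mul_eq_one_right (show y * y ^ (orderOf y - 1) = 1 by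
      rw [← pow_succ', Nat.sub_add_cancel (orderOf_pos y), pow_orderOf_eq_one])] at this
  | one => rw [hm1]; exact Stab7.one
  | mul a b _ _ ha hb => rw [Model.mat_mul]; exact ha.mul hb

/-- the representation on the short root ideal -/
noncomputable def rep7 : ↥G₁ →* Module.End F (Fin 7 → F) :=
  (Matrix.toLinAlgEquiv' : Matrix (Fin 7) (Fin 7) F ≃ₐ[F] Module.End F (Fin 7 → F)).toMonoidHom.comp
    { toFun := fun g => res7 (Model.mat (g : ↥(chevG2.group F)))
      map_one' := by
        show Matrix.submatrix (1 : Matrix chevG2.Idx chevG2.Idx F) shortIdx shortIdx = 1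
        exact Matrix.submatrix_one _ shortIdx_inj
      map_mul' := fun g g' => by
        show res7 (Model.mat ((g : ↥(chevG2.group F)) * (g' : ↥(chevG2.group F)))) = _
        rw [Model.mat_mul]
        exact res7_mul (stab7_mem Z hK g'.2) }

theorem simple_G1 (hm : 1 ≤ m) : IsSimpleGroup ↥G₁ := by
  haveI : IsSimpleGroup ↥(chevG2.genSubgroup F (g2Words F (3 ^ m))) := (simple Z hK hm).1
  exact (genEquiv MT K (g2Words F (3 ^ m))).isSimpleGroup

theorem rep7_injective (hm : 1 ≤ m) : Function.Injective (rep7 Z hK) := by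
  have := simple_G1 Z hK hm
  let ρ := (rep7 Z hK).toHomUnits
  have hne : ρ.ker ≠ ⊤ := by
    intro htop
    let g : ↥G₁ := ⟨rx m K 1, (Subgroup.mem_inf.1 (rx_mem Z hK 1)).1⟩
    have h1 : ρ g = 1 := MonoidHom.mem_ker.1 (htop ▸ Subgroup.mem_top g)
    have h2 : rep7 Z hK g = 1 := congrArg Units.val h1
    have h3 : res7 (Model.mat (rx m K (1 : F))) = 1 :=
      (Matrix.toLinAlgEquiv' : Matrix (Fin 7) (Fin 7) F ≃ₐ[F] _).injective (h2.trans (map_one _).symm)
    have hB : ∀ k : chevG2.Idx, chevG2.x F 10 (1 : F) k (shortIdx 4) = if k = shortIdx 4 then 1 else 0 := by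
      intro k
      rw [ChevalleyDatum.x, dif_pos (by decide)]
      show chevG2.xMat F _ _ k (Sum.inr ⟨7, by decide⟩) = _
      simp only [ChevalleyDatum.xMat, Matrix.of_apply]
      rw [if_neg (by decide), if_neg (by decide)]
      rcases k with i | u
      · rw [if_neg (show (Sum.inl i : chevG2.Idx) ≠ shortIdx 4 by simp [shortIdx])]
      · have hc : ∀ u : Fin chevG2.nroots, chevG2.chainCoeff 10 7 u.val = [] := by decide +kernel
        simp only [hc, List.map_nil, List.sum_nil, add_zero]
        simp [shortIdx]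
    have h4 := congrFun₂ h3 6 4
    rw [res7, Matrix.submatrix_apply, Matrix.one_apply_ne (by decide), rx, one_pow, Model.mat_mul,
      show Model.mat ((MT.rel K).x 8 (1 : F)) = chevG2.x F 8 1 from MT.mat_xG K 8 1,
      show Model.mat ((MT.rel K).x 10 (1 : F)) = chevG2.x F 10 1 from MT.mat_xG K 10 1,
      Matrix.mul_apply] at h4
    simp only [hB, mul_ite, mul_one, mul_zero, Finset.sum_ite_eq', Finset.mem_univ, if_true] at h4
    rw [ChevalleyDatum.x, dif_pos (by decide)] at h4
    change chevG2.xMat F _ _ (Sum.inr ⟨9, by decide⟩) (Sum.inr ⟨7, by decide⟩) = 0 at h4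
    simp only [ChevalleyDatum.xMat, Matrix.of_apply] at h4
    rw [if_neg (by decide), if_neg (by decide)] at h4
    have hc : chevG2.chainCoeff 8 7 9 = [(1, 2)] := by decide +kernel
    simp only [hc, List.map_cons, List.map_nil, List.sum_cons, List.sum_nil] at h4
    rw [if_neg (by decide)] at h4
    have h5 := three_eq hK
    exact one_ne_zero (show (1 : F) = 0 by push_cast at h4; linear_combination h5 - h4)
  have hk : ρ.ker = ⊥ := (ρ.normal_ker.eq_bot_or_eq_top).resolve_right hne
  intro a b hab
  exact (MonoidHom.ker_eq_bot_iff ρ).1 hk (Units.ext hab)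

end Cfsg.Agent.Twisted.TypeG2
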