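import Cfsg.Agent.Lib.Ree.Normalizer

/-!
The split torus of the small Ree group: its centralisers and normalisers.
-/

set_option autoImplicit false
set_option linter.unusedSectionVars false

namespace Cfsg.Agent.Twisted.TypeG2

open ChevGroup ChevIsogeny Cfsg.Lie
open scoped MatrixGroups

variable {F : Type*} [Field F] [Fintype F] {m : ℕ} {K : Rels chevG2 F}

variable (Z : Frame (T := MT) K PP (3 ^ m) fd) (hK : Fintype.card F = 3 ^ (2 * m + 1))

set_option quotPrecheck false in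
local notation "G₁" => genG MT K (g2Words F (3 ^ m))

set_option quotPrecheck false in
local notation "𝔻" => (gens Z hK).data

/-- the torus as a homomorphism into the group -/
noncomputable def torG : Fˣ →* ↥G₁ :=
  (hHom Z).codRestrict G₁ fun z => (Subgroup.mem_inf.1 (hHom_mem_H1 Z hK z)).1

/-- the Weyl element in the group -/
noncomputable def nG : ↥G₁ := slG Z hK ReeSL2.weyl

/-- the subgroup of the torus -/
noncomputable def hSub : Subgroup ↥G₁ := (torG Z hK).range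

include Z hK

theorem torG_inj : Function.Injective (torG Z hK) := fun _ _ h =>
  hHom_inj Z hK (congrArg Subtype.val h)

theorem isCyclic_hSub : IsCyclic ↥(hSub Z hK) :=
  isCyclic_of_surjective (torG Z hK).rangeRestrict (MonoidHom.rangeRestrict_surjective _)

theorem card_hSub : Nat.card ↥(hSub Z hK) = 3 ^ (2 * m + 1) - 1 := by
  rw [hSub, ← Nat.card_congr (MonoidHom.ofInjective (torG_inj Z hK)).toEquiv, card_units_q Z hK]

theorem nG_val : (nG Z hK : ↥(chevG2.group F)) = (𝔻).nJ 0 := by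
  rw [nJ_eq_nw Z hK]
  exact ReeSL2.hom_weyl (rankRel Z hK)

theorem nw_hd_inv {c : F} (hc : c ≠ 0) :
    (𝔻).nJ 0 * ReeSL2.hd (rx m K) (ry m K) c =
      ReeSL2.hd (rx m K) (ry m K) c⁻¹ * (𝔻).nJ 0 := by
  rw [nJ_eq_nw Z hK, ReeSL2.nw_mul_hd (rankRel Z hK) hc, ← ReeSL2.nw_eq (rankRel Z hK)]

/-- The Weyl element inverts the torus. -/
theorem nJ_hHom (z : Fˣ) : (𝔻).nJ 0 * hHom Z z = hHom Z z⁻¹ * (𝔻).nJ 0 := by
  have key : ∀ u : Fˣ, (𝔻).nJ 0 * hHom Z (u ^ (3 * 3 ^ m + 1)) =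
      hHom Z (u ^ (3 * 3 ^ m + 1))⁻¹ * (𝔻).nJ 0 := by
    intro u
    have h := nw_hd_inv Z hK u.ne_zero
    rw [hd_eq_tor Z hK u.ne_zero, hd_eq_tor Z hK (inv_ne_zero u.ne_zero), Units.mk0_val] at h
    rw [h, ← inv_pow]
    congr 3
    exact Units.ext (by simp)
  obtain ⟨u, hu | hu⟩ := eq_pow_or_neg Z hK z
  · rw [← hu]; exact key u
  · have hz : z = -1 * u ^ (3 * 3 ^ m + 1) := by rw [hu]; simp
    have ha : Commute ((𝔻).nJ 0) (hHom Z (-1)) := by
      rw [nJ_eq_nw Z hK]; exact (invA_commute_nw Z hK 1).symm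
    rw [hz, map_mul, ← mul_assoc, ha.eq, mul_assoc, key u, ← mul_assoc, ← map_mul, mul_inv, inv_neg,
      inv_one]

/-- An element carrying a torus element of order above `2` into the torus lies in the torus or its
coset of the Weyl element. -/
theorem conj_cases {x : ↥(chevG2.group F)} (hx : x ∈ G₁) {z z' : Fˣ} (hz : z ^ 2 ≠ 1)
    (h : x * hHom Z z = hHom Z z' * x) :
    (∃ w, x = hHom Z w ∧ z' = z) ∨ ∃ w, x = hHom Z w * (𝔻).nJ 0 ∧ z' = z⁻¹ := by
  have hH := fun w => (𝔻).H1_le_B1 (hHom_mem_H1 Z hK w)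
  have hsplit : ∀ {v : ↥(chevG2.group F)} {k z₁ z₂ : Fˣ}, v ∈ (𝔻).U1 → z₁ ^ 2 ≠ 1 →
      v * hHom Z k * hHom Z z₁ = hHom Z z₂ * (v * hHom Z k) → v = 1 ∧ z₂ = z₁ := by
    intro v k z₁ z₂ hv hz₁ e
    have e0 : v * hHom Z z₁ = hHom Z z₂ * v := by
      have e1 : v * hHom Z k * hHom Z z₁ = v * hHom Z z₁ * hHom Z k := by
        rw [mul_assoc, ← map_mul, mul_comm k, map_mul, mul_assoc]
      rw [e1, ← mul_assoc (hHom Z z₂)] at e
      exact mul_right_cancel e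
    have h1 : v * (hHom Z z₁ * v⁻¹ * (hHom Z z₁)⁻¹) ∈ (𝔻).U1 :=
      mul_mem hv (B1_conj_U1 Z hK (hH z₁) (inv_mem hv))
    have h2 : v * (hHom Z z₁ * v⁻¹ * (hHom Z z₁)⁻¹) = hHom Z (z₂ * z₁⁻¹) := by
      rw [map_mul, map_inv, ← mul_assoc, ← mul_assoc, e0, mul_inv_cancel_right]
    have h3 : hHom Z (z₂ * z₁⁻¹) = 1 :=
      (MT.shapeR K).U_inter_H (Subgroup.mem_inf.1 (h2 ▸ h1)).2
        (Subgroup.mem_inf.1 (hHom_mem_H1 Z hK _)).2
    have h4 : z₂ = z₁ := mul_inv_eq_one.1 (hHom_inj Z hK (h3.trans (map_one _).symm))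
    refine ⟨eq_one_of_commute Z hK hz₁ hv ?_, h4⟩
    rw [h4] at e0
    exact e0.symm
  rcases mem_B1_or_bigCell Z hK hx with hb | ⟨b, hb, u, hu, rfl⟩
  · obtain ⟨v, hv, k', hk, rfl⟩ := (𝔻).exists_U1_H1 (MT.shapeR K) ((gens Z hK).longest long_ok) hb
    obtain ⟨k, rfl⟩ := exists_hHom Z hK hk
    obtain ⟨rfl, e⟩ := hsplit hv hz h
    exact Or.inl ⟨k, by rw [one_mul], e⟩
  · have hu' : (hHom Z z)⁻¹ * u * hHom Z z ∈ (𝔻).U1 := by
      have := B1_conj_U1 Z hK (inv_mem (hH z)) hu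
      rwa [inv_inv] at this
    have e : b * hHom Z z⁻¹ * (𝔻).nJ 0 * ((hHom Z z)⁻¹ * u * hHom Z z) =
        hHom Z z' * b * (𝔻).nJ 0 * u := by
      rw [mul_assoc b, ← nJ_hHom Z hK z, mul_assoc (hHom Z z') b, mul_assoc (hHom Z z'), ← h]
      group
    obtain ⟨eb, eu⟩ := bigCell_unique Z hK (mul_mem hb (hH _)) (mul_mem (hH _) hb) hu' hu e
    have hcu : Commute (hHom Z z) u := by
      show hHom Z z * u = u * hHom Z z
      conv_lhs => rw [← eu]
      group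
    obtain rfl := eq_one_of_commute Z hK hz hu hcu
    obtain ⟨v, hv, k', hk, rfl⟩ := (𝔻).exists_U1_H1 (MT.shapeR K) ((gens Z hK).longest long_ok) hb
    obtain ⟨k, rfl⟩ := exists_hHom Z hK hk
    have hz' : z⁻¹ ^ 2 ≠ 1 := by rwa [inv_pow, inv_ne_one]
    obtain ⟨rfl, e'⟩ := hsplit hv hz' eb
    exact Or.inr ⟨k, by rw [one_mul, mul_one], e'⟩

theorem torG_centralizer {z : Fˣ} (hz : z ^ 2 ≠ 1) :
    Subgroup.centralizer {torG Z hK z} = hSub Z hK := by
  ext x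
  rw [Subgroup.mem_centralizer_singleton_iff]
  constructor
  · intro h
    rcases conj_cases Z hK x.2 hz (congrArg Subtype.val h) with ⟨w, hw, -⟩ | ⟨w, -, hw⟩
    · exact ⟨w, Subtype.ext hw.symm⟩
    · exact absurd (by rw [pow_two]; nth_rw 1 [hw]; rw [inv_mul_cancel]) hz
  · rintro ⟨w, rfl⟩
    rw [← map_mul, ← map_mul, mul_comm]

theorem nG_mul_torG (z : Fˣ) : nG Z hK * torG Z hK z = torG Z hK z⁻¹ * nG Z hK :=
  Subtype.ext (by rw [Subgroup.coe_mul, Subgroup.coe_mul, nG_val Z hK]; exact nJ_hHom Z hK z)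

theorem nG_notMem_hSub : nG Z hK ∉ hSub Z hK := by
  rintro ⟨z, hz⟩
  refine nJ_notMem_B1 Z hK ?_
  rw [← nG_val Z hK, ← hz]
  exact (𝔻).H1_le_B1 (hHom_mem_H1 Z hK z)

theorem nG_sq : nG Z hK * nG Z hK = 1 := (pq_facts Z hK).1

theorem mem_normalizer_hSub {A : Subgroup ↥G₁} (hA : A ≤ hSub Z hK) {z : Fˣ} (hz : z ^ 2 ≠ 1)
    (hzA : torG Z hK z ∈ A) (x : ↥G₁) :
    x ∈ Subgroup.normalizer (A : Set ↥G₁) ↔ x ∈ hSub Z hK ∨ x * nG Z hK ∈ hSub Z hK := by
  constructor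
  · intro hx
    obtain ⟨z', hz'⟩ := hA ((Subgroup.mem_normalizer_iff.1 hx _).1 hzA)
    have e : (x : ↥(chevG2.group F)) * hHom Z z = hHom Z z' * x := by
      have h : torG Z hK z' * x = x * torG Z hK z := by rw [hz']; group
      exact (congrArg Subtype.val h).symm
    rcases conj_cases Z hK x.2 hz e with ⟨w, hw, -⟩ | ⟨w, hw, -⟩
    · exact Or.inl ⟨w, Subtype.ext hw.symm⟩
    · refine Or.inr ⟨w, ?_⟩
      have hx' : x = torG Z hK w * nG Z hK :=
        Subtype.ext (by rw [Subgroup.coe_mul, nG_val Z hK]; exact hw)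
      rw [hx', mul_assoc, nG_sq Z hK, mul_one]
  · intro hx
    refine Subgroup.mem_normalizer_fintype fun y hy => ?_
    obtain ⟨c, rfl⟩ := hA hy
    rcases hx with ⟨w, rfl⟩ | ⟨w, hw⟩
    · rwa [← map_mul, mul_comm w, map_mul, mul_inv_cancel_right]
    · have hx' : x = torG Z hK w * nG Z hK := by rw [hw, mul_assoc, nG_sq Z hK, mul_one]
      rw [hx', mul_inv_rev, mul_assoc (torG Z hK w), nG_mul_torG Z hK,
        inv_eq_of_mul_eq_one_right (nG_sq Z hK)]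
      have e : torG Z hK w * (torG Z hK c⁻¹ * nG Z hK) * (nG Z hK * (torG Z hK w)⁻¹) =
          torG Z hK c⁻¹ := by
        calc torG Z hK w * (torG Z hK c⁻¹ * nG Z hK) * (nG Z hK * (torG Z hK w)⁻¹)
            = torG Z hK w * torG Z hK c⁻¹ * (nG Z hK * nG Z hK) * (torG Z hK w)⁻¹ := by group
          _ = _ := by rw [nG_sq Z hK, mul_one, ← map_mul, mul_comm, map_mul, mul_inv_cancel_right]
      rw [e, map_inv]
      exact inv_mem hy

/-- the half of the torus -/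
noncomputable def hHalf : Subgroup ↥G₁ :=
  ((powMonoidHom 2 : Fˣ →* Fˣ).range).map (torG Z hK)

theorem hHalf_le : hHalf Z hK ≤ hSub Z hK := by
  exact Subgroup.map_le_range _ _

theorem card_hHalf : Nat.card ↥(hHalf Z hK) = (3 ^ (2 * m + 1) - 1) / 2 := by
  rw [hHalf, Subgroup.card_map_of_injective (torG_inj Z hK)]
  obtain ⟨n, hn, -⟩ := odd_half (m := m) hK
  have hc := (powMonoidHom 2 : Fˣ →* Fˣ).ker.card_mul_index
  rw [IsCyclic.card_powMonoidHom_ker, Subgroup.index_ker, card_units_q Z hK, hn,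
    Nat.gcd_eq_right (dvd_mul_right 2 n)] at hc
  rw [hn, Nat.mul_div_cancel_left _ (by norm_num)]
  exact Nat.eq_of_mul_eq_mul_left (by norm_num) hc

theorem isCyclic_hHalf : IsCyclic ↥(hHalf Z hK) :=
  have := isCyclic_hSub Z hK
  isCyclic_of_injective (Subgroup.inclusion (hHalf_le Z hK)) (Subgroup.inclusion_injective _)

/-- Every element of the half other than `1` has order above `2`. -/
theorem hHalf_ne {x : ↥G₁} (hx : x ∈ hHalf Z hK) (hx1 : x ≠ 1) :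
    ∃ z : Fˣ, z ^ 2 ≠ 1 ∧ torG Z hK z = x := by
  rw [hHalf] at hx
  obtain ⟨y, hy, hyx⟩ := Subgroup.mem_map.1 hx
  obtain ⟨z, hz⟩ := MonoidHom.mem_range.1 hy
  rw [powMonoidHom_apply] at hz
  subst hz
  refine ⟨z ^ 2, fun h => hx1 ?_, hyx⟩
  rw [← hyx]
  obtain ⟨n, hn, hodd⟩ := odd_half (m := m) hK
  have h1 : (z ^ 2) ^ n = 1 := by rw [← pow_mul, ← hn, ← card_units_q Z hK, pow_card_eq_one']
  have h2 : orderOf (z ^ 2) = 1 := Nat.eq_one_of_dvd_coprimes (Nat.coprime_two_left.2 hodd)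
    (orderOf_dvd_of_pow_eq_one h) (orderOf_dvd_of_pow_eq_one h1)
  show torG Z hK (z ^ 2) = 1
  rw [orderOf_eq_one_iff.1 h2, map_one]

theorem card_normalizer_hSub {A : Subgroup ↥G₁} (hA : A ≤ hSub Z hK) {z : Fˣ} (hz : z ^ 2 ≠ 1)
    (hzA : torG Z hK z ∈ A) :
    Nat.card ↥(Subgroup.normalizer (A : Set ↥G₁)) = 2 * (3 ^ (2 * m + 1) - 1) := by
  have hiff := mem_normalizer_hSub Z hK hA hz hzA
  have hle : hSub Z hK ≤ Subgroup.normalizer (A : Set ↥G₁) := fun x hx => (hiff x).2 (Or.inl hx)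
  rw [← card_hSub Z hK, ← Nat.card_congr (Subgroup.subgroupOfEquivOfLe hle).toEquiv,
    ← ((hSub Z hK).subgroupOf (Subgroup.normalizer (A : Set ↥G₁))).card_mul_index,
    mul_comm 2]
  congr 1
  rw [Subgroup.index_eq_two_iff]
  refine ⟨⟨nG Z hK, (hiff _).2 (Or.inr (by rw [nG_sq Z hK]; exact one_mem _))⟩, fun b => ?_⟩
  simp only [Subgroup.mem_subgroupOf, Subgroup.coe_mul]
  rcases (hiff b).1 b.2 with h | h
  · refine Or.inr ⟨h, fun h' => nG_notMem_hSub Z hK ?_⟩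
    simpa using mul_mem (inv_mem h) h'
  · refine Or.inl ⟨h, fun h' => nG_notMem_hSub Z hK ?_⟩
    simpa using mul_mem (inv_mem h') h

end Cfsg.Agent.Twisted.TypeG2
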