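import Cfsg.Agent.Twisted.Groups.G2Inst

/-!
Elements of the small Ree group: the torus as the image of the multiplicative group of the field, its action
on the unipotent subgroup, and the multiplication of the normal forms.
-/

set_option autoImplicit false
set_option linter.unusedSectionVars false

namespace Cfsg.Agent.Twisted.TypeG2

open ChevGroup ChevIsogeny Cfsg.Lie

variable {F : Type*} [Field F] [Fintype F] {m : ℕ} {K : Rels chevG2 F}

variable (Z : Frame (T := MT) K PP (3 ^ m) fd) (hK : Fintype.card F = 3 ^ (2 * m + 1))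

set_option quotPrecheck false in
local notation "G₁" => genG MT K (g2Words F (3 ^ m))

/-- the torus of the small Ree group as a homomorphism from the units of the field -/
noncomputable def hHom : Fˣ →* ↥(chevG2.group F) :=
  Z.torHom.comp (MonoidHom.mk' (cvec Z) (cvec_mul Z))

theorem hHom_apply (z : Fˣ) : hHom Z z = tor MT K (cvec Z z) := rfl

/-- the value of a torus element on the long fundamental root -/
noncomputable def lam (z : Fˣ) : Fˣ := chi MT (cvec Z z) 6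

theorem lam_eq (z : Fˣ) : lam Z z = (z ^ 3 ^ m) ^ (-3 : ℤ) * z ^ (2 : ℤ) := by
  have p : ∀ i : Fin 2,
      chevG2.pairing ((MT.S).simple i).val (6 : Fin MT.tab.n).val =
        ([-3, 2] : List ℤ).getD i.val 0 := by
    decide +kernel
  show chi MT (cvec Z z) 6 = _
  refine (Finset.prod_congr rfl fun i _ => congrArg _ (p i)).trans ?_
  exact Fin.prod_univ_two _

theorem lam_mul (z z' : Fˣ) : lam Z (z * z') = lam Z z * lam Z z' := by
  simp only [lam_eq, mul_pow, mul_zpow]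
  exact mul_mul_mul_comm _ _ _ _

theorem lam_one : lam Z 1 = 1 := by simp [lam_eq]

include Z hK

theorem hHom_inj : Function.Injective (hHom Z) := by
  rw [injective_iff_map_eq_one]
  intro z hz
  have h3 := congrFun (Z.pow_eq_one_of_tor torOk inv_ok (c := cvec Z z) hz) 1
  simp only [pow_one, Pi.one_apply] at h3
  exact h3

theorem hHom_range : (hHom Z).range = (gens Z hK).data.H1 := by
  refine Eq.trans ?_ ((gens Z hK).H1_eq torOk (pre_eq Z) inv_ok (m := 2) (by decide) (per Z hK)).symm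
  have e : (MonoidHom.mk' (cvec Z) (cvec_mul Z)).range = Z.fixedPar pre := by
    ext c
    rw [MonoidHom.mem_range, Z.mem_fixedPar]
    constructor
    · rintro ⟨z, rfl⟩
      exact sig_cvec Z hK z
    · intro hc
      exact ⟨c 1, (fixed_eq_cvec Z hc).symm⟩
  rw [hHom, MonoidHom.range_comp, e]

theorem hHom_mem_H1 (z : Fˣ) : hHom Z z ∈ (gens Z hK).data.H1 := by
  rw [← hHom_range Z hK]
  exact ⟨z, rfl⟩

theorem exists_hHom {h : ↥(chevG2.group F)} (hh : h ∈ (gens Z hK).data.H1) : ∃ z, hHom Z z = h := by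
  rwa [← hHom_range Z hK] at hh

theorem lam_inj : Function.Injective (lam Z) := by
  intro z z' h
  obtain ⟨k7, -⟩ := chi_cvec Z hK z
  obtain ⟨k7', -⟩ := chi_cvec Z hK z'
  refine hHom_inj Z hK ?_
  refine Z.tor_ext fun s => ?_
  rw [Z.chi_eq torOk _ s, Z.chi_eq torOk _ s]
  refine Finset.prod_congr rfl fun j _ => congrArg (· ^ fd.O.vec s j) ?_
  match j with
  | 0 =>
    show chi MT (cvec Z z) 7 = chi MT (cvec Z z') 7
    rw [k7, k7']
    exact congrArg (· ^ 3 ^ m) h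
  | 1 => exact h

theorem lam_eq_one_iff {z : Fˣ} : lam Z z = 1 ↔ z = 1 :=
  ⟨fun h => lam_inj Z hK (h.trans (lam_one Z).symm), fun h => h ▸ lam_one Z⟩

theorem frob (x : F) : x ^ (3 * 3 ^ m * 3 ^ m) = x := by
  obtain ⟨-, -, -, -, -, hper⟩ := pow_facts hK
  exact hper x

theorem neg_one_pow_q : (-1 : Fˣ) ^ 3 ^ m = -1 := by
  obtain ⟨-, -, -, hz1, -, -⟩ := pow_facts hK
  exact Units.ext (by simpa using hz1 (-1))

theorem lam_neg_one : lam Z (-1) = -1 := by
  rw [lam_eq, neg_one_pow_q Z hK]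
  exact Units.ext (by norm_num)

/-- conjugation of a normal form of the fixed unipotent group by the torus -/
theorem hHom_conj_wordU (z : Fˣ) (t u v : F) :
    hHom Z z * wordU K m t u v * (hHom Z z)⁻¹ =
      wordU K m ((lam Z z : F) * t) ((lam Z z : F) ^ (3 * 3 ^ m + 1) * u)
        ((lam Z z : F) ^ (3 * 3 ^ m + 2) * v) := by
  obtain ⟨k7, k8, k9, k10, k11⟩ := chi_cvec Z hK z
  obtain ⟨-, ha1, -, -, -, hper⟩ := pow_facts hK
  rw [hHom_apply, wordU, wordU, tor_form Z, k7, mul_pow, Units.val_pow_eq_pow_val]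
  show form K ((lam Z z : F) ^ 3 ^ m * t ^ 3 ^ m) ((lam Z z : F) * t) _ = _
  rw [form, form]
  congr 1
  refine Z.prodX_congr fun r hr => ?_
  simp only [NL, List.mem_cons, List.not_mem_nil, or_false] at hr
  set l : F := (lam Z z : F) with hl
  have hq : ∀ n : ℕ, l ^ (3 * 3 ^ m * 3 ^ m + n) = l * l ^ n := fun n => by
    rw [pow_add, hper]
  rcases hr with rfl | rfl | rfl | rfl
  · show ((chi MT (cvec Z z) 8 : Fˣ) : F) * (t ^ (3 ^ m + 1) + u ^ 3 ^ m) =
      (l * t) ^ (3 ^ m + 1) + (l ^ (3 * 3 ^ m + 1) * u) ^ 3 ^ m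
    rw [k8, Units.val_pow_eq_pow_val]
    show l ^ (3 ^ m + 1) * _ = _
    rw [mul_pow, mul_pow, ← pow_mul, add_mul (3 * 3 ^ m), one_mul, hq, pow_succ' l (3 ^ m)]
    ring
  · show ((chi MT (cvec Z z) 9 : Fˣ) : F) * (t ^ (2 * 3 ^ m + 1) + v ^ 3 ^ m) =
      (l * t) ^ (2 * 3 ^ m + 1) + (l ^ (3 * 3 ^ m + 2) * v) ^ 3 ^ m
    rw [k9, Units.val_pow_eq_pow_val]
    show l ^ (2 * 3 ^ m + 1) * _ = _
    rw [mul_pow, mul_pow, ← pow_mul, add_mul (3 * 3 ^ m), hq, pow_succ' l (2 * 3 ^ m)]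
    ring
  · show ((chi MT (cvec Z z) 10 : Fˣ) : F) * u = l ^ (3 * 3 ^ m + 1) * u
    rw [k10, Units.val_pow_eq_pow_val]
    rfl
  · show ((chi MT (cvec Z z) 11 : Fˣ) : F) * v = l ^ (3 * 3 ^ m + 2) * v
    rw [k11, Units.val_pow_eq_pow_val]
    rfl

/-- moving `x_a(s)` to the left through the commuting part -/
theorem pushA (a b c d s : F) :
    prodX MT K NL (nv a b c d) * (MT.rel K).x 7 s =
      (MT.rel K).x 7 s * prodX MT K NL (nv a (b + 2 * a * s) c d) := by
  obtain ⟨h3, -⟩ := pow_facts hK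
  have hc : ∀ r : Fin MT.tab.n, r ∈ NL → ∀ u : F,
      (MT.rel K).x 7 (-s) * (MT.rel K).x r u * (MT.rel K).x 7 s = (MT.rel K).x r u *
        ((chevG2.commTerms 7 r.val).map (IsoHyp.val MT K (-s) u)).prod := by
    intro r hr u
    obtain ⟨h1, h2, -⟩ := NL_closed 7 (by simp) r hr
    have h := IsoHyp.conj_eq (T := MT) (K := K) Z.iso.comm (MT.lt 7) (MT.lt r) h1 h2 (-s) u
    rw [IsoHyp.xN_val, IsoHyp.xN_val, IsoHyp.xN_val, neg_neg] at h
    exact h
  have e : chevG2.commTerms 7 8 = [(9, -2, 1, 1), (10, -3, 2, 1), (11, 3, 1, 2)] ∧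
      chevG2.commTerms 7 9 = [(10, 3, 1, 1)] ∧ chevG2.commTerms 7 10 = [] ∧
      chevG2.commTerms 7 11 = [] := by decide +kernel
  have h8 := hc 8 (by simp [NL]) a
  have h9 := hc 9 (by simp [NL]) b
  have h10 := hc 10 (by simp [NL]) c
  have h11 := hc 11 (by simp [NL]) d
  rw [show (8 : Fin MT.tab.n).val = 8 from rfl, e.1] at h8
  rw [show (9 : Fin MT.tab.n).val = 9 from rfl, e.2.1] at h9
  rw [show (10 : Fin MT.tab.n).val = 10 from rfl, e.2.2.1] at h10
  rw [show (11 : Fin MT.tab.n).val = 11 from rfl, e.2.2.2] at h11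
  simp only [List.map_cons, List.map_nil, List.prod_cons, List.prod_nil, mul_one, IsoHyp.val,
    Int.cast_neg, Int.cast_ofNat, h3, neg_zero, zero_mul, IsoHyp.xN_zero] at h8 h9 h10 h11
  rw [show IsoHyp.xN MT K 9 _ = (MT.rel K).x 9 _ from IsoHyp.xN_val (9 : Fin MT.tab.n) _] at h8
  have hcj : ∀ g : ↥(chevG2.group F),
      (MT.rel K).x 7 (-s) * g * (MT.rel K).x 7 s = MulAut.conj ((MT.rel K).x 7 (-s)) g := fun g => by
    rw [MulAut.conj_apply, (MT.rel K).x_neg 7 s, inv_inv]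
  rw [hcj] at h8 h9 h10 h11
  have key : (MT.rel K).x 7 (-s) * prodX MT K NL (nv a b c d) * (MT.rel K).x 7 s =
      prodX MT K NL (nv a (b + 2 * a * s) c d) := by
    obtain ⟨⟨n8, n9, n10, n11⟩, -⟩ := nv_val a b c d
    obtain ⟨⟨m8, m9, m10, m11⟩, -⟩ := nv_val a (b + 2 * a * s) c d
    rw [hcj]
    simp only [prodX, NL, List.map_cons, List.map_nil, List.prod_cons, List.prod_nil, mul_one,
      map_mul, n8, n9, n10, n11, m8, m9, m10, m11, h8, h9, h10, h11, pow_one]
    rw [mul_assoc, ← mul_assoc ((MT.rel K).x 9 _) ((MT.rel K).x 9 b), ← (MT.rel K).x_add]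
    ring_nf
  rw [← key, (MT.rel K).x_neg]
  group

/-- moving `x_b(t)` to the left through the commuting part -/
theorem pushB (a b c d t : F) :
    prodX MT K NL (nv a b c d) * (MT.rel K).x 6 t =
      (MT.rel K).x 6 t * prodX MT K NL (nv a b c (d - c * t)) := by
  have hc : ∀ r : Fin MT.tab.n, r ∈ NL → ∀ u : F,
      (MT.rel K).x 6 (-t) * (MT.rel K).x r u * (MT.rel K).x 6 t = (MT.rel K).x r u *
        ((chevG2.commTerms 6 r.val).map (IsoHyp.val MT K (-t) u)).prod := by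
    intro r hr u
    obtain ⟨h1, h2, -⟩ := NL_closed 6 (by simp) r hr
    have h := IsoHyp.conj_eq (T := MT) (K := K) Z.iso.comm (MT.lt 6) (MT.lt r) h1 h2 (-t) u
    rw [IsoHyp.xN_val, IsoHyp.xN_val, IsoHyp.xN_val, neg_neg] at h
    exact h
  have e : chevG2.commTerms 6 8 = [] ∧ chevG2.commTerms 6 9 = [] ∧
      chevG2.commTerms 6 10 = [(11, 1, 1, 1)] ∧ chevG2.commTerms 6 11 = [] := by decide +kernel
  have h8 := hc 8 (by simp [NL]) a
  have h9 := hc 9 (by simp [NL]) b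
  have h10 := hc 10 (by simp [NL]) c
  have h11 := hc 11 (by simp [NL]) d
  rw [show (8 : Fin MT.tab.n).val = 8 from rfl, e.1] at h8
  rw [show (9 : Fin MT.tab.n).val = 9 from rfl, e.2.1] at h9
  rw [show (10 : Fin MT.tab.n).val = 10 from rfl, e.2.2.1] at h10
  rw [show (11 : Fin MT.tab.n).val = 11 from rfl, e.2.2.2] at h11
  simp only [List.map_cons, List.map_nil, List.prod_cons, List.prod_nil, mul_one, IsoHyp.val,
    Int.cast_one, one_mul, pow_one] at h8 h9 h10 h11
  rw [show IsoHyp.xN MT K 11 _ = (MT.rel K).x 11 _ from IsoHyp.xN_val (11 : Fin MT.tab.n) _] at h10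
  have hcj : ∀ g : ↥(chevG2.group F),
      (MT.rel K).x 6 (-t) * g * (MT.rel K).x 6 t = MulAut.conj ((MT.rel K).x 6 (-t)) g := fun g => by
    rw [MulAut.conj_apply, (MT.rel K).x_neg 6 t, inv_inv]
  rw [hcj] at h8 h9 h10 h11
  have key : (MT.rel K).x 6 (-t) * prodX MT K NL (nv a b c d) * (MT.rel K).x 6 t =
      prodX MT K NL (nv a b c (d - c * t)) := by
    obtain ⟨⟨n8, n9, n10, n11⟩, -⟩ := nv_val a b c d
    obtain ⟨⟨m8, m9, m10, m11⟩, -⟩ := nv_val a b c (d - c * t)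
    rw [hcj]
    simp only [prodX, NL, List.map_cons, List.map_nil, List.prod_cons, List.prod_nil, mul_one,
      map_mul, n8, n9, n10, n11, m8, m9, m10, m11, h8, h9, h10, h11]
    rw [mul_assoc ((MT.rel K).x 10 c), ← (MT.rel K).x_add]
    ring_nf
  rw [← key, (MT.rel K).x_neg]
  group

/-- the product of two normal forms -/
theorem form_mul_eq (s t a b c d s' t' a' b' c' d' : F) :
    form K s t (nv a b c d) * form K s' t' (nv a' b' c' d') =
      form K (s + s') (t + t') (nv (a + a' + s' * t) (b + b' + 2 * a * s' + s' ^ 2 * t)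
        (c + c' - s' ^ 3 * t) (d + d' - s' ^ 3 * t ^ 2 - (c - s' ^ 3 * t) * t')) := by
  have hsw := swapU Z s' t
  rw [form] at hsw
  calc form K s t (nv a b c d) * form K s' t' (nv a' b' c' d')
      = (MT.rel K).x 7 s * (MT.rel K).x 6 t * (prodX MT K NL (nv a b c d) * (MT.rel K).x 7 s') *
          (MT.rel K).x 6 t' * prodX MT K NL (nv a' b' c' d') := by simp only [form, mul_assoc]
    _ = (MT.rel K).x 7 s * ((MT.rel K).x 6 t * (MT.rel K).x 7 s') *
          prodX MT K NL (nv a (b + 2 * a * s') c d) *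
          (MT.rel K).x 6 t' * prodX MT K NL (nv a' b' c' d') := by
      rw [pushA Z hK]; simp only [mul_assoc]
    _ = (MT.rel K).x 7 s * (MT.rel K).x 7 s' * (MT.rel K).x 6 t *
          (prodX MT K NL (nv (s' * t + a) (s' ^ 2 * t + (b + 2 * a * s')) (-(s' ^ 3 * t) + c)
            (-(s' ^ 3 * t ^ 2) + d)) * (MT.rel K).x 6 t') * prodX MT K NL (nv a' b' c' d') := by
      rw [hsw, ← nv_add, ← NL_mul Z]; simp only [mul_assoc]
    _ = (MT.rel K).x 7 (s + s') * ((MT.rel K).x 6 t * (MT.rel K).x 6 t') *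
          (prodX MT K NL (nv (s' * t + a) (s' ^ 2 * t + (b + 2 * a * s')) (-(s' ^ 3 * t) + c)
            (-(s' ^ 3 * t ^ 2) + d - (-(s' ^ 3 * t) + c) * t')) *
            prodX MT K NL (nv a' b' c' d')) := by
      rw [pushB Z hK, ← (MT.rel K).x_add 7]; simp only [mul_assoc]
    _ = _ := by
      rw [← (MT.rel K).x_add, NL_mul Z, nv_add, form]
      congr 2
      congr 1 <;> ring

theorem wordU_zero : wordU K m 0 0 0 = 1 := by
  have z0 : ∀ n : ℕ, 0 < n → (0 : F) ^ n = 0 := fun n hn => zero_pow hn.ne'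
  have hp : 0 < 3 ^ m := pow_pos (by norm_num) m
  rw [wordU, form, z0 _ hp, z0 _ (Nat.succ_pos _), z0 _ (Nat.succ_pos _)]
  simp [prodX, NL, nv, (MT.rel K).x_zero]

theorem mem_U1_iff {g : ↥(chevG2.group F)} :
    g ∈ (gens Z hK).data.U1 ↔ ∃ t u v, g = wordU K m t u v := by
  constructor
  · intro hg
    have hgs : g ∈ Sg (MT.rel K) (· ∈ fd.O.cls 0) :=
      Sg_mono _ (fun r hr => (by revert hr; revert r; decide +kernel)) hg.2
    exact cls0 Z hK hgs ((gens Z hK).fixed g hg.1)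
  · rintro ⟨t, u, v, rfl⟩
    exact Subgroup.mem_inf.2 ⟨wordU_mem Z t u v,
      Sg_mono _ (fun r hr => (by revert hr; revert r; decide +kernel)) (wordU_mem_Uk Z t u v)⟩

theorem wordU_eq_one_iff {t u v : F} : wordU K m t u v = 1 ↔ t = 0 ∧ u = 0 ∧ v = 0 :=
  ⟨fun h => wordU_inj Z hK (h.trans (wordU_zero Z hK).symm),
    fun ⟨h1, h2, h3⟩ => by subst h1 h2 h3; exact wordU_zero Z hK⟩

end Cfsg.Agent.Twisted.TypeG2
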