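import Cfsg.Agent.Lib.Ree.Involution

/-!
`C(a) ≅ Z₂ × PSL₂(q)` and the Sylow `2`-subgroups of the small Ree group.
-/

set_option autoImplicit false
set_option linter.unusedSectionVars false

namespace Cfsg.Agent.Twisted.TypeG2

open ChevGroup ChevIsogeny Cfsg.Lie
open scoped MatrixGroups

variable {F : Type*} [Field F] [Fintype F] {m : ℕ} {K : Rels chevG2 F}

variable (Z : Frame (T := MT) K PP (3 ^ m) fd) (hK : Fintype.card F = 3 ^ (2 * m + 1))

set_option quotPrecheck false in
local notation "G₁" => genG MT K (g2Words F (3 ^ m))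

omit [Fintype F] in
theorem flip2_one {G : Type*} [Group G] (a : G) (ha : a * a = 1) : flip2 a ha 1 = 1 := map_one _

/-- the involution in the group -/
noncomputable def aG : ↥G₁ := ⟨invA Z, invA_mem Z hK⟩

/-- the homomorphism from `SL(2, q)` into the group -/
noncomputable def slG : SL(2, F) →* ↥G₁ :=
  (sl2Hom Z hK).codRestrict G₁ fun g => (sl2Hom_mem Z hK g).1

theorem slG_commute (g : SL(2, F)) : Commute (aG Z hK) (slG Z hK g) :=
  Subtype.ext (sl2Hom_mem Z hK g).2.eq

theorem aG_sq : aG Z hK * aG Z hK = 1 := Subtype.ext (invA_sq Z hK)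

theorem slG_eq_one_iff {g : SL(2, F)} : slG Z hK g = 1 ↔ g = 1 ∨ g = -1 :=
  Subtype.ext_iff.trans (sl2Hom_eq_one_iff Z hK)

theorem slG_ne_aG (g : SL(2, F)) : slG Z hK g ≠ aG Z hK := fun h =>
  invA_notMem_range Z hK g (congrArg Subtype.val h)

theorem aG_ne_one : aG Z hK ≠ 1 := fun h => slG_ne_aG Z hK 1 ((map_one _).trans h.symm)

/-- the homomorphism from `PSL(2, q)` into the group -/
noncomputable def pslG : Matrix.ProjectiveSpecialLinearGroup (Fin 2) F →* ↥G₁ :=
  QuotientGroup.lift (Subgroup.center (SL(2, F))) (slG Z hK) fun g hg => by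
    rw [MonoidHom.mem_ker, slG_eq_one_iff]
    obtain ⟨r, hr, e⟩ := Matrix.SpecialLinearGroup.mem_center_iff.1 hg
    rw [Fintype.card_fin, pow_two] at hr
    rcases mul_self_eq_one_iff.1 hr with rfl | rfl
    · left
      exact Subtype.ext (e.symm.trans (map_one (Matrix.scalar (Fin 2))))
    · right
      refine Subtype.ext (e.symm.trans ?_)
      rw [map_neg, map_one]
      simp

theorem pslG_mk (g : SL(2, F)) :
    pslG Z hK (QuotientGroup.mk' (Subgroup.center (SL(2, F))) g) = slG Z hK g := rfl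

theorem pslG_commute (e : Multiplicative (ZMod 2)) (g : Matrix.ProjectiveSpecialLinearGroup (Fin 2) F) :
    Commute (flip2 (aG Z hK) (aG_sq Z hK) e) (pslG Z hK g) := by
  obtain ⟨g', rfl⟩ := QuotientGroup.mk'_surjective _ g
  rcases two_cases e with rfl | rfl
  · rw [flip2_one]; exact Commute.one_left _
  · rw [flip2_apply, pslG_mk]; exact slG_commute Z hK g'

/-- the homomorphism onto the centraliser -/
noncomputable def centHom :
    Multiplicative (ZMod 2) × Matrix.ProjectiveSpecialLinearGroup (Fin 2) F →* ↥G₁ :=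
  (flip2 (aG Z hK) (aG_sq Z hK)).noncommCoprod (pslG Z hK) (pslG_commute Z hK)

theorem centHom_inj : Function.Injective (centHom Z hK) := by
  rw [injective_iff_map_eq_one]
  rintro ⟨e, g⟩ h
  obtain ⟨g', rfl⟩ := QuotientGroup.mk'_surjective _ g
  rw [centHom, MonoidHom.noncommCoprod_apply, pslG_mk] at h
  rcases two_cases e with rfl | rfl
  · rw [flip2_one, one_mul] at h
    refine Prod.ext rfl ((QuotientGroup.eq_one_iff g').2 ?_)
    rw [Subgroup.mem_center_iff]
    rcases (slG_eq_one_iff Z hK).1 h with rfl | rfl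
    · simp
    · intro x
      ext i j
      simp
  · rw [flip2_apply] at h
    exact absurd ((eq_inv_of_mul_eq_one_right h).trans
      (inv_eq_of_mul_eq_one_right (aG_sq Z hK))) (slG_ne_aG Z hK g')

theorem centHom_range : (centHom Z hK).range = Subgroup.centralizer {aG Z hK} := by
  ext x
  rw [Subgroup.mem_centralizer_singleton_iff, MonoidHom.mem_range]
  constructor
  · rintro ⟨⟨e, g⟩, rfl⟩
    rw [centHom, MonoidHom.noncommCoprod_apply]
    obtain ⟨g', rfl⟩ := QuotientGroup.mk'_surjective _ g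
    rw [pslG_mk]
    have h1 : Commute (aG Z hK) (flip2 (aG Z hK) (aG_sq Z hK) e) := by
      rcases two_cases e with rfl | rfl
      · rw [flip2_one]; exact Commute.one_right _
      · rw [flip2_apply]
    exact (h1.mul_right (slG_commute Z hK g')).symm.eq
  · intro h
    have hc : Commute (invA Z) (x : ↥(chevG2.group F)) := (congrArg Subtype.val h).symm
    obtain ⟨g, hg | hg⟩ := centralizer_cases Z hK x.2 hc
    · refine ⟨(1, QuotientGroup.mk' _ g), ?_⟩
      rw [centHom, MonoidHom.noncommCoprod_apply, flip2_one, one_mul, pslG_mk]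
      exact Subtype.ext hg.symm
    · refine ⟨(Multiplicative.ofAdd 1, QuotientGroup.mk' _ g), ?_⟩
      rw [centHom, MonoidHom.noncommCoprod_apply, flip2_apply, pslG_mk]
      exact Subtype.ext hg.symm

/-- a second element generating the four group with the Weyl element -/
def gamma (h3 : (3 : F) = 0) : SL(2, F) :=
  ⟨!![1, 1; 1, -1], by rw [Matrix.det_fin_two_of]; linear_combination -h3⟩

theorem gamma_coe (h3 : (3 : F) = 0) :
    (gamma h3 : Matrix (Fin 2) (Fin 2) F) = !![1, 1; 1, -1] := rfl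

theorem three_eq (hK : Fintype.card F = 3 ^ (2 * m + 1)) : (3 : F) = 0 := (pow_facts hK).1

/-- the image of the Weyl element -/
noncomputable def pG : ↥G₁ := slG Z hK ReeSL2.weyl

/-- the image of `gamma` -/
noncomputable def qG : ↥G₁ := slG Z hK (gamma (three_eq hK))

theorem sl_facts :
    (ReeSL2.weyl : SL(2, F)) * ReeSL2.weyl = -1 ∧
      gamma (three_eq hK) * gamma (three_eq hK) = -1 ∧
      (ReeSL2.weyl : SL(2, F)) * gamma (three_eq hK) = -(gamma (three_eq hK) * ReeSL2.weyl) := by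
  have h3 := three_eq hK
  refine ⟨?_, ?_, ?_⟩ <;> ext i j <;> fin_cases i <;> fin_cases j <;>
    simp [gamma_coe, ReeSL2.weyl_coe, Matrix.SpecialLinearGroup.coe_mul, Matrix.mul_apply,
      Fin.sum_univ_two] <;> linear_combination h3

theorem slG_neg (g : SL(2, F)) : slG Z hK (-g) = slG Z hK g := by
  rw [← neg_one_mul, map_mul, (slG_eq_one_iff Z hK).2 (Or.inr rfl), one_mul]

theorem pq_facts : pG Z hK * pG Z hK = 1 ∧ qG Z hK * qG Z hK = 1 ∧
    Commute (pG Z hK) (qG Z hK) := by
  obtain ⟨h1, h2, h3⟩ := sl_facts (F := F) hK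
  refine ⟨?_, ?_, ?_⟩
  · rw [pG, ← map_mul, h1]; exact (slG_eq_one_iff Z hK).2 (Or.inr rfl)
  · rw [qG, ← map_mul, h2]; exact (slG_eq_one_iff Z hK).2 (Or.inr rfl)
  · show slG Z hK _ * slG Z hK _ = slG Z hK _ * slG Z hK _
    rw [← map_mul, ← map_mul, h3, slG_neg]

theorem flip_commute {a b : ↥G₁} (ha : a * a = 1) (hb : b * b = 1) (h : Commute a b)
    (e e' : Multiplicative (ZMod 2)) : Commute (flip2 a ha e) (flip2 b hb e') := by
  rcases two_cases e with rfl | rfl
  · rw [flip2_one]; exact Commute.one_left _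
  · rcases two_cases e' with rfl | rfl
    · rw [flip2_one]; exact Commute.one_right _
    · rwa [flip2_apply, flip2_apply]

/-- the four group of `PSL(2, q)` inside -/
noncomputable def fourHom : Multiplicative (ZMod 2) × Multiplicative (ZMod 2) →* ↥G₁ :=
  (flip2 (pG Z hK) (pq_facts Z hK).1).noncommCoprod (flip2 (qG Z hK) (pq_facts Z hK).2.1)
    (flip_commute (pq_facts Z hK).1 (pq_facts Z hK).2.1 (pq_facts Z hK).2.2)

theorem fourHom_range (e : Multiplicative (ZMod 2) × Multiplicative (ZMod 2)) :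
    ∃ g, fourHom Z hK e = slG Z hK g ∧ (g = 1 ∨ g = -1 → e = 1) := by
  have h3 := three_eq hK
  have hne : (1 : F) ≠ 0 := one_ne_zero
  obtain ⟨e1, e2⟩ := e
  simp only [fourHom, MonoidHom.noncommCoprod_apply]
  rcases two_cases e1 with rfl | rfl <;> rcases two_cases e2 with rfl | rfl
  · exact ⟨1, by simp, fun _ => rfl⟩
  · refine ⟨gamma h3, by rw [flip2_one, one_mul, flip2_apply]; rfl, ?_⟩
    rintro (h | h) <;>
      have := congrFun₂ (congrArg Subtype.val h) 0 1 <;>
      simp [gamma] at this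
  · refine ⟨ReeSL2.weyl, by rw [flip2_one, mul_one, flip2_apply]; rfl, ?_⟩
    rintro (h | h) <;>
      have := congrFun₂ (congrArg Subtype.val h) 0 1 <;>
      simp [ReeSL2.weyl] at this
  · refine ⟨ReeSL2.weyl * gamma h3, by rw [flip2_apply, flip2_apply, map_mul]; rfl, ?_⟩
    rintro (h | h) <;>
      have := congrFun₂ (congrArg Subtype.val h) 1 0 <;>
      simp [gamma_coe, ReeSL2.weyl_coe, Matrix.SpecialLinearGroup.coe_mul, Matrix.mul_apply,
        Fin.sum_univ_two] at this

/-- the elementary group of order `8` -/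
noncomputable def eightHom :
    Multiplicative (ZMod 2) × (Multiplicative (ZMod 2) × Multiplicative (ZMod 2)) →* ↥G₁ :=
  (flip2 (aG Z hK) (aG_sq Z hK)).noncommCoprod (fourHom Z hK) fun e e' => by
    obtain ⟨g, hg, -⟩ := fourHom_range Z hK e'
    rw [hg]
    rcases two_cases e with rfl | rfl
    · rw [flip2_one]; exact Commute.one_left _
    · rw [flip2_apply]; exact slG_commute Z hK g

theorem eightHom_inj : Function.Injective (eightHom Z hK) := by
  rw [injective_iff_map_eq_one]
  rintro ⟨e, f⟩ h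
  rw [eightHom, MonoidHom.noncommCoprod_apply] at h
  obtain ⟨g, hg, hg1⟩ := fourHom_range Z hK f
  rw [hg] at h
  rcases two_cases e with rfl | rfl
  · rw [flip2_one, one_mul] at h
    exact Prod.ext rfl (hg1 ((slG_eq_one_iff Z hK).1 h))
  · rw [flip2_apply] at h
    exact absurd ((eq_inv_of_mul_eq_one_right h).trans
      (inv_eq_of_mul_eq_one_right (aG_sq Z hK))) (slG_ne_aG Z hK g)

include Z hK

theorem card_G1_two : ∃ n, Nat.card ↥G₁ = 8 * n ∧ Odd n := by
  rw [card_genG Z hK]
  have h8 : 3 ^ (2 * m + 1) % 8 = 3 := by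
    rw [pow_succ, pow_mul, Nat.mul_mod, Nat.pow_mod]
    norm_num
  obtain ⟨s, hs⟩ : ∃ s, 3 ^ (2 * m + 1) = 8 * s + 3 := ⟨3 ^ (2 * m + 1) / 8, by omega⟩
  rw [hs]
  obtain ⟨k, hk⟩ : ∃ k, (8 * s + 3) ^ 3 + 1 = 4 * (2 * k + 1) := by
    refine ⟨64 * s ^ 3 + 72 * s ^ 2 + 27 * s + 3, ?_⟩
    ring
  refine ⟨(8 * s + 3) ^ 3 * (4 * s + 1) * (2 * k + 1), ?_, ?_⟩
  · rw [hk, show 8 * s + 3 - 1 = 2 * (4 * s + 1) by omega]; ring
  · exact ((Odd.pow ⟨4 * s + 1, by ring⟩).mul ⟨2 * s, by ring⟩).mul ⟨k, rfl⟩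

theorem card_eight : Nat.card ↥(eightHom Z hK).range = 8 := by
  rw [← Nat.card_congr (MonoidHom.ofInjective (eightHom_inj Z hK)).toEquiv]
  simp [Nat.card_eq_fintype_card]

/-- a Sylow `2`-subgroup that is elementary abelian -/
theorem exists_sylow_two : ∃ S : Sylow 2 ↥G₁, (S : Subgroup ↥G₁) = (eightHom Z hK).range := by
  have := Fact.mk Nat.prime_two
  have hp : IsPGroup 2 ↥(eightHom Z hK).range := IsPGroup.of_card (n := 3) (card_eight Z hK)
  obtain ⟨n, hn, hodd⟩ := card_G1_two Z hK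
  refine ⟨hp.toSylow ?_, rfl⟩
  intro hd
  have h1 := (eightHom Z hK).range.card_mul_index
  rw [card_eight Z hK, hn] at h1
  rw [Nat.eq_of_mul_eq_mul_left (by norm_num) h1] at hd
  exact Nat.not_even_iff_odd.2 hodd (even_iff_two_dvd.2 hd)

theorem sylow_two_G1 (S : Sylow 2 ↥G₁) : Nat.card S = 8 ∧ ∀ x ∈ S, x * x = 1 := by
  have := Fact.mk Nat.prime_two
  obtain ⟨S₀, hS₀⟩ := exists_sylow_two Z hK
  have h0 : ∀ x ∈ (S₀ : Subgroup ↥G₁), x * x = 1 := by
    rw [hS₀]
    rintro _ ⟨e, rfl⟩
    rw [← map_mul]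
    have h2 : ∀ x : Multiplicative (ZMod 2), x * x = 1 := fun x => by
      rcases two_cases x with rfl | rfl <;> rfl
    have h : e * e = 1 := Prod.ext (h2 _) (Prod.ext (h2 _) (h2 _))
    rw [h, map_one]
  obtain ⟨g, rfl⟩ := MulAction.exists_smul_eq ↥G₁ S₀ S
  constructor
  · refine (Sylow.card_eq_multiplicity (g • S₀)).trans ((Sylow.card_eq_multiplicity S₀).symm.trans ?_)
    show Nat.card ↥(S₀ : Subgroup ↥G₁) = 8
    rw [hS₀, card_eight Z hK]
  · intro x hx
    change x ∈ ((g • S₀ : Sylow 2 ↥G₁) : Subgroup ↥G₁) at hx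
    rw [Sylow.coe_subgroup_smul, Subgroup.mem_pointwise_smul_iff_inv_smul_mem] at hx
    have h := h0 _ hx
    rw [← smul_mul', smul_eq_iff_eq_inv_smul, inv_inv, smul_one] at h
    exact h

/-- The isomorphism with the subgroup of the general linear group sends `aG` to the given involution. -/
theorem eq_aG (a : ↥(twistedG2 F (3 ^ m)))
    (haH : (a : GL chevG2.Idx F) ∈ chevG2.diagonalSubgroup F) (ha1 : a ≠ 1) (ha2 : a * a = 1) :
    genEquiv MT K (g2Words F (3 ^ m)) (aG Z hK) = a := by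
  have h1 : (a : GL chevG2.Idx F) ∈ ((chevG2.group F).subtype.comp (hHom Z)).range := by
    rw [← diag_inf Z hK]; exact ⟨haH, a.2⟩
  obtain ⟨z, hz⟩ := h1
  have hinj : Function.Injective ((chevG2.group F).subtype.comp (hHom Z)) :=
    Subtype.coe_injective.comp (hHom_inj Z hK)
  have hz2 : z * z = 1 := hinj (by
    rw [map_mul, hz, map_one, ← Subgroup.coe_mul, ha2, Subgroup.coe_one])
  have hz1 : z ≠ 1 := fun e => ha1 (Subtype.ext (by rw [← hz, e, map_one]; rfl))
  rcases mul_self_eq_one_iff.1 (show (z : F) * z = 1 by rw [← Units.val_mul, hz2, Units.val_one]) with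
    e | e
  · exact absurd (Units.ext e) hz1
  · obtain rfl : z = -1 := Units.ext (by simpa using e)
    exact Subtype.ext hz

theorem centralizer_twisted (a : ↥(twistedG2 F (3 ^ m)))
    (haH : (a : GL chevG2.Idx F) ∈ chevG2.diagonalSubgroup F) (ha1 : a ≠ 1) (ha2 : a * a = 1) :
    Nonempty (↥(Subgroup.centralizer {a}) ≃*
      Multiplicative (ZMod 2) × Matrix.ProjectiveSpecialLinearGroup (Fin 2) F) ∧
      ∀ S : Sylow 2 ↥(twistedG2 F (3 ^ m)), Nat.card S = 8 ∧ ∀ x ∈ S, x * x = 1 := by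
  set e : ↥G₁ ≃* ↥(twistedG2 F (3 ^ m)) := genEquiv MT K (g2Words F (3 ^ m)) with he
  have hea : e (aG Z hK) = a := eq_aG Z hK a haH ha1 ha2
  constructor
  · have hmap : (Subgroup.centralizer {aG Z hK}).map e.toMonoidHom = Subgroup.centralizer {a} := by
      ext y
      obtain ⟨x, rfl⟩ := e.surjective y
      rw [map_mem_iff, Subgroup.mem_centralizer_singleton_iff, Subgroup.mem_centralizer_singleton_iff,
        ← hea, ← map_mul, ← map_mul, e.injective.eq_iff]
    refine ⟨MulEquiv.symm ?_⟩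
    refine ((MonoidHom.ofInjective (centHom_inj Z hK)).trans
      (MulEquiv.subgroupCongr (centHom_range Z hK))).trans ?_
    exact ((Subgroup.centralizer {aG Z hK}).equivMapOfInjective e.toMonoidHom e.injective).trans
      (MulEquiv.subgroupCongr hmap)
  · intro S
    have hrange : (S : Subgroup ↥(twistedG2 F (3 ^ m))) ≤ e.toMonoidHom.range := fun x _ => by
      rw [MonoidHom.range_eq_top.2 e.surjective]; trivial
    obtain ⟨h1, h2⟩ := sylow_two_G1 Z hK (S.comapOfInjective e.toMonoidHom e.injective hrange)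
    constructor
    · rw [← h1]
      exact (Nat.card_congr
        { toFun := fun x => ⟨e x.1, x.2⟩
          invFun := fun y => ⟨e.symm y.1, show e (e.symm y.1) ∈ S by rw [e.apply_symm_apply]; exact y.2⟩
          left_inv := fun x => Subtype.ext (e.symm_apply_apply _)
          right_inv := fun y => Subtype.ext (e.apply_symm_apply _) }).symm
    · intro x hx
      have h := h2 (e.symm x) (show e (e.symm x) ∈ S by rw [e.apply_symm_apply]; exact hx)
      have h' := congrArg e h
      rwa [map_mul, e.apply_symm_apply, map_one] at h'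

end Cfsg.Agent.Twisted.TypeG2
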