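import Cfsg.Agent.Lib.Ree.Borel

/-!
The element classes of the small Ree group outside the two remaining tori.
-/

set_option autoImplicit false
set_option linter.unusedSectionVars false

namespace Cfsg.Agent.Twisted.TypeG2

open ChevGroup ChevIsogeny Cfsg.Lie
open scoped MatrixGroups

/-- The arithmetic of `q`. -/
theorem q_facts (m : ℕ) : ∃ n s M, 3 ^ (2 * m + 1) - 1 = 2 * n ∧ Odd n ∧
    3 ^ (2 * m + 1) + 1 = 4 * s ∧ Odd s ∧ ¬ 3 ∣ n ∧ ¬ 3 ∣ s ∧
    (3 ^ (2 * m + 1)) ^ 2 - 3 ^ (2 * m + 1) + 1 = M ∧ Odd M ∧ ¬ 3 ∣ M ∧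
    Nat.Coprime M (3 ^ (2 * m + 1) - 1) ∧ Nat.Coprime M (3 ^ (2 * m + 1) + 1) ∧
    Nat.Coprime M (3 ^ (2 * m + 1)) ∧
    (3 ^ (2 * m + 1)) ^ 3 + 1 = (3 ^ (2 * m + 1) + 1) * M := by
  obtain ⟨s, hs, hsodd, -, -⟩ := quarter (m := m)
  set q := 3 ^ (2 * m + 1) with hq
  have h3 : 3 ∣ q := dvd_pow_self _ (Nat.succ_ne_zero _)
  have h4 : q % 4 = 3 := by omega
  obtain ⟨k, hk⟩ : ∃ k, q = k + 1 := ⟨q - 1, by omega⟩
  have hsq : q ≤ q ^ 2 := Nat.le_self_pow two_ne_zero q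
  refine ⟨(q - 1) / 2, s, q ^ 2 - q + 1, by omega, Nat.odd_iff.2 (by omega), hs, hsodd, ?_, ?_, rfl,
    ?_, ?_, ?_, ?_, ?_, ?_⟩
  · intro h; omega
  · intro h; omega
  all_goals
    have e : q ^ 2 - q + 1 = k * (k + 1) + 1 := by
      rw [hk, sq, ← Nat.sub_one_mul, Nat.add_sub_cancel]
  · rw [e]
    exact (Nat.even_mul_succ_self k).add_one
  · rw [e, ← hk]
    intro h
    have h5 : 3 ∣ k * q := h3.mul_left k
    omega
  · rw [e, show q - 1 = k by omega, Nat.coprime_comm, Nat.coprime_mul_left_add_right]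
    exact Nat.coprime_one_right k
  · refine Nat.coprime_of_dvd' fun l hl h1 h2 => ?_
    rw [e] at h1
    have h5 : l ∣ 3 := by
      have h6 : (l : ℤ) ∣ ((k * (k + 1) + 1 : ℕ) : ℤ) := by exact_mod_cast h1
      have h7 : (l : ℤ) ∣ ((k + 1 + 1 : ℕ) : ℤ) := by rw [← hk]; exact_mod_cast h2
      have h8 := dvd_sub h6 (h7.mul_right ((k : ℤ) - 1))
      push_cast at h8
      ring_nf at h8
      exact_mod_cast h8
    rcases (Nat.dvd_prime Nat.prime_three).1 h5 with e' | e'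
    · exact e' ▸ dvd_rfl
    · subst e'; omega
  · rw [e, ← hk, Nat.coprime_comm, Nat.coprime_mul_right_add_right]
    exact Nat.coprime_one_right q
  · rw [e, hk]; ring

/-- A subgroup of index prime to `l`. -/
theorem not_dvd_index_of_card {G : Type*} [Group G] [Finite G] (T : Subgroup G) {X l : ℕ}
    (h : Nat.card G = Nat.card T * X) (hl : ¬ l ∣ X) : ¬ l ∣ T.index := by
  rw [← T.card_mul_index] at h
  rwa [Nat.eq_of_mul_eq_mul_left Nat.card_pos h]

theorem card_three_values {α : Type*} [Finite α] (f : α → ℕ) (hf : ∀ x, f x = 1 ∨ f x = 3 ∨ f x = 9) :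
    Nat.card α = Nat.card {x // f x = 1} + Nat.card {x // f x = 3} + Nat.card {x // f x = 9} := by
  classical
  have := Fintype.ofFinite α
  simp only [Nat.card_eq_fintype_card, Fintype.card_subtype]
  have e := Finset.card_eq_sum_card_fiberwise (f := f) (s := (Finset.univ : Finset α))
    (t := ({1, 3, 9} : Finset ℕ)) fun x _ => by rcases hf x with h | h | h <;> simp [h]
  rw [Finset.card_univ] at e
  rw [e, Finset.sum_insert (by simp), Finset.sum_insert (by simp), Finset.sum_singleton, add_assoc]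

theorem exists_odd_prime_of_not_dvd_two {d n : ℕ} (hn : Odd n) (hd : ∃ k, d ∣ 2 ^ k * n ∧ k ≤ 2)
    (h4 : ¬ 4 ∣ d) (h : ¬ d ∣ 2) : ∃ l, Nat.Prime l ∧ l ∣ d ∧ l ∣ n := by
  obtain ⟨k, hk, hk2⟩ := hd
  by_contra hne
  simp only [not_exists, not_and] at hne
  have hcop : Nat.Coprime d n := Nat.coprime_of_dvd fun l hl h1 h2 => hne l hl h1 h2
  have h1 : d ∣ 2 ^ k := hcop.dvd_of_dvd_mul_right hk
  obtain ⟨j, -, rfl⟩ := (Nat.dvd_prime_pow Nat.prime_two).1 h1
  rcases j with _ | _ | j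
  · exact h (by norm_num)
  · exact h (by norm_num)
  · exact h4 ⟨2 ^ j, by ring⟩

variable {F : Type*} [Field F] [Fintype F] {m : ℕ} {K : Rels chevG2 F}

variable (Z : Frame (T := MT) K PP (3 ^ m) fd) (hK : Fintype.card F = 3 ^ (2 * m + 1))

set_option quotPrecheck false in
local notation "G₁" => genG MT K (g2Words F (3 ^ m))

set_option quotPrecheck false in
local notation "𝔻" => (gens Z hK).data

include Z hK

/-- Every involution is conjugate to `a`. -/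
theorem exists_conj_aG (hm : 1 ≤ m) {x : ↥G₁} (hx : x * x = 1) (hx1 : x ≠ 1) :
    ∃ c, c * aG Z hK * c⁻¹ = x := by
  have := Fact.mk Nat.prime_two
  obtain ⟨S₀, hS₀⟩ := exists_sylow_two Z hK
  have hp : IsPGroup 2 ↥(Subgroup.zpowers x) := IsPGroup.of_card (n := 1) (by
    rw [Nat.card_zpowers, pow_one]
    exact orderOf_eq_prime (by rw [sq, hx]) hx1)
  obtain ⟨S, hS⟩ := hp.exists_le_sylow
  obtain ⟨g, rfl⟩ := MulAction.exists_smul_eq ↥G₁ S₀ S
  have h1 := hS (Subgroup.mem_zpowers x)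
  rw [Sylow.coe_subgroup_smul, hS₀, Subgroup.mem_pointwise_smul_iff_inv_smul_mem] at h1
  have h1' : g⁻¹ * x * g ∈ (eightHom Z hK).range := by
    simpa [MulAut.smul_def, MulAut.conj_inv_apply] using h1
  obtain ⟨c, hc⟩ := exists_conj_eight Z hK hm h1' fun e => hx1 (by
    have := congrArg (fun z => g * z * g⁻¹) e
    simpa [mul_assoc] using this)
  refine ⟨g * c, ?_⟩
  calc g * c * aG Z hK * (g * c)⁻¹ = g * (c * aG Z hK * c⁻¹) * g⁻¹ := by group
    _ = x := by rw [hc]; group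

theorem card_centralizer_aG :
    Nat.card ↥(Subgroup.centralizer {aG Z hK}) =
      3 ^ (2 * m + 1) * ((3 ^ (2 * m + 1)) ^ 2 - 1) := by
  rw [← centHom_range Z hK, ← Nat.card_congr (MonoidHom.ofInjective (centHom_inj Z hK)).toEquiv,
    Nat.card_prod]
  have h := LinearGroup.gcd_mul_card_PSL_two (F := F)
  rw [Nat.card_eq_fintype_card (α := F), hK] at h
  obtain ⟨n, hn, -⟩ := odd_half (m := m) hK
  rw [hn, Nat.gcd_eq_left (dvd_mul_right 2 n)] at h
  rw [← h, Nat.card_eq_fintype_card (α := Multiplicative (ZMod 2))]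
  rfl

/-- The elements of order divisible by three lie in Borel subgroups. -/
theorem exists_conj_bG {x : ↥G₁} (h : 3 ∣ orderOf x) : ∃ c, c * x * c⁻¹ ∈ bG Z hK := by
  have := Fact.mk Nat.prime_three
  set y := x ^ (orderOf x / 3) with hy
  have hy3 : orderOf y = 3 := by
    rw [hy, orderOf_pow x, Nat.gcd_eq_right (Nat.div_dvd_of_dvd h),
      Nat.div_div_self h (orderOf_pos x).ne']
  obtain ⟨n, s, M, hn, -, hs, -, hn3, hs3, hM, -, hM3, -, -, -, hM'⟩ := q_facts m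
  have hidx : ¬ 3 ∣ (uG Z hK).index := by
    refine not_dvd_index_of_card _
      (X := (3 ^ (2 * m + 1) - 1) * ((3 ^ (2 * m + 1)) ^ 3 + 1)) ?_ ?_
    · rw [card_genG Z hK, card_uG Z hK, mul_assoc]
    · rw [hn, hM', hs, Nat.prime_three.dvd_mul, Nat.prime_three.dvd_mul, Nat.prime_three.dvd_mul,
        Nat.prime_three.dvd_mul]
      simp [hn3, hs3, hM3]
  obtain ⟨c, hc⟩ := exists_conj_mem_of_index _ hidx (y := y)
    (orderOf_dvd_iff_pow_eq_one.1 (dvd_of_eq hy3))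
  refine ⟨c, uG_ti Z hK hc (fun e => ?_) ?_⟩
  · rw [conj_eq_one_iff] at e
    rw [e, orderOf_one] at hy3
    omega
  · rwa [show c * x * c⁻¹ * (c * y * c⁻¹) * (c * x * c⁻¹)⁻¹ = c * y * c⁻¹ by rw [hy]; group]

/-- The elements of the Borel subgroup of order `3` or `9` are the unipotent ones. -/
theorem bG_orders {b : ↥G₁} (hb : b ∈ bG Z hK) (h : 3 ∣ orderOf b) :
    (orderOf b = 3 ∨ orderOf b = 6 ∨ orderOf b = 9) ∧ (orderOf b = 3 → b ∈ uG Z hK) := by
  obtain ⟨u, hu, z, rfl⟩ := exists_coord Z hK hb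
  rcases coord_cases Z hK hu z with ⟨-, ho, -⟩ | ⟨-, e, h9⟩ | ⟨hz, h2 | h6⟩
  · exfalso
    rw [ho] at h
    have h1 : orderOf z ∣ 3 ^ (2 * m + 1) - 1 := by
      rw [← card_units_q Z hK]; exact orderOf_dvd_natCard z
    obtain ⟨n, -, -, hn, -, -, -, hn3, -⟩ := q_facts m
    rcases Nat.prime_three.dvd_mul.1 (hn ▸ h.trans h1) with h' | h'
    · omega
    · exact hn3 h'
  · rw [e] at h ⊢
    refine ⟨?_, fun _ => hu⟩
    rcases (Nat.dvd_prime_pow Nat.prime_three).1 (show orderOf u ∣ 3 ^ 2 from h9) with ⟨j, hj, hj'⟩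
    rw [hj'] at h ⊢
    interval_cases j <;> simp_all
  · exfalso
    subst hz
    have h2' : orderOf (u * torG Z hK (-1)) ∣ 2 := orderOf_dvd_of_pow_eq_one (by rw [sq]; exact h2)
    have := Nat.le_of_dvd (by norm_num) (h.trans h2')
    omega
  · exact ⟨Or.inr (Or.inl h6), fun e => absurd (h6.symm.trans e) (by norm_num)⟩

theorem orderOf_cases_three {x : ↥G₁} (h : 3 ∣ orderOf x) :
    orderOf x = 3 ∨ orderOf x = 6 ∨ orderOf x = 9 := by
  obtain ⟨c, hc⟩ := exists_conj_bG Z hK h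
  have e : orderOf (c * x * c⁻¹) = orderOf x := (MulAut.conj c).orderOf_eq x
  have := (bG_orders Z hK hc (e ▸ h)).1
  rwa [e] at this

/-- Counting elements of a given order divisible by three. -/
theorem card_order_of_bG {d : ℕ} (hd : 3 ∣ d) (hd0 : d ≠ 0) :
    Nat.card {x : ↥G₁ // orderOf x = d} =
      Nat.card {b // b ∈ bG Z hK ∧ orderOf b = d} * ((3 ^ (2 * m + 1)) ^ 3 + 1) := by
  have hsame : ∀ c x : ↥G₁, orderOf (c * x * c⁻¹) = orderOf x := fun c x =>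
    (MulAut.conj c).orderOf_eq x
  have h := card_conj_set (fun b => b ∈ bG Z hK ∧ orderOf b = d) (bG Z hK)
    (fun n hn b hb => ⟨mul_mem (mul_mem hn hb.1) (inv_mem hn), (hsame n b).trans hb.2⟩) ?_
  · have e : Nat.card {x : ↥G₁ // ∃ c, c * x * c⁻¹ ∈ bG Z hK ∧ orderOf (c * x * c⁻¹) = d} =
        Nat.card {x : ↥G₁ // orderOf x = d} := by
      refine Nat.card_congr (Equiv.subtypeEquivRight fun x => ?_)
      constructor
      · rintro ⟨c, -, h2⟩; exact (hsame c x).symm.trans h2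
      · intro h2
        obtain ⟨c, hc⟩ := exists_conj_bG Z hK (h2 ▸ hd)
        exact ⟨c, hc, (hsame c x).trans h2⟩
    rw [e, card_bG Z hK, card_genG Z hK] at h
    have hpos : 0 < (3 ^ (2 * m + 1)) ^ 3 * (3 ^ (2 * m + 1) - 1) :=
      (card_bG Z hK) ▸ Nat.card_pos
    refine Nat.eq_of_mul_eq_mul_right hpos ?_
    rw [h]; ring
  · rintro c b ⟨hb, rfl⟩ ⟨hb', -⟩
    have := Fact.mk Nat.prime_three
    set y := b ^ (orderOf b / 3) with hy
    have hy3 : orderOf y = 3 := by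
      rw [hy, orderOf_pow b, Nat.gcd_eq_right (Nat.div_dvd_of_dvd hd),
        Nat.div_div_self hd (orderOf_pos b).ne']
    have hy' : orderOf (c * y * c⁻¹) = 3 := (hsame c y).trans hy3
    refine uG_ti Z hK (d := y) ((bG_orders Z hK (pow_mem hb _) ?_).2 hy3) ?_
      ((bG_orders Z hK ?_ (dvd_of_eq hy'.symm)).2 hy')
    · rw [hy3]
    · intro e; rw [e, orderOf_one] at hy3; omega
    · rw [hy, ← conj_pow]; exact pow_mem hb' _

theorem card_bG_six : Nat.card {b // b ∈ bG Z hK ∧ orderOf b = 6} =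
    (3 ^ (2 * m + 1)) ^ 3 - (3 ^ (2 * m + 1)) ^ 2 := by
  classical
  have : Fintype ↥(uG Z hK) := Fintype.ofFinite _
  rw [card_subtype_bG Z hK]
  have key : ∀ p : ↥(uG Z hK) × Fˣ, orderOf ((p.1 : ↥G₁) * torG Z hK p.2) = 6 ↔
      p.2 = -1 ∧ ¬ ((p.1 : ↥G₁) * aG Z hK) * ((p.1 : ↥G₁) * aG Z hK) = 1 := by
    rintro ⟨⟨u, hu⟩, z⟩
    show orderOf (u * torG Z hK z) = 6 ↔ z = -1 ∧ ¬ (u * aG Z hK) * (u * aG Z hK) = 1
    constructor
    · intro h6
      rcases coord_cases Z hK hu z with ⟨-, ho, -⟩ | ⟨-, e, h9⟩ | ⟨hz, -⟩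
      · exfalso
        have h1 : orderOf z ∣ 3 ^ (2 * m + 1) - 1 := by
          rw [← card_units_q Z hK]; exact orderOf_dvd_natCard z
        rw [← ho, h6] at h1
        obtain ⟨n, -, -, hn, -, -, -, hn3, -⟩ := q_facts m
        omega
      · rw [e] at h6; rw [h6] at h9; norm_num at h9
      · refine ⟨hz, fun h2 => ?_⟩
        subst hz
        have h2' : orderOf (u * torG Z hK (-1)) ∣ 2 := orderOf_dvd_of_pow_eq_one (by rw [sq]; exact h2)
        rw [h6] at h2'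
        norm_num at h2'
    · rintro ⟨rfl, h2⟩
      rcases coord_cases Z hK hu (-1 : Fˣ) with ⟨h, -, -⟩ | ⟨h, -, -⟩ | ⟨-, h | h⟩
      · simp at h
      · exact absurd (by simpa using congrArg Units.val h) (two_ne Z hK)
      · exact absurd h h2
      · exact h
  have e : Nat.card {p : ↥(uG Z hK) × Fˣ // orderOf ((p.1 : ↥G₁) * torG Z hK p.2) = 6} =
      Nat.card {u : ↥(uG Z hK) // ¬ ((u : ↥G₁) * aG Z hK) * ((u : ↥G₁) * aG Z hK) = 1} := by
    refine Nat.card_congr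
      { toFun := fun p => ⟨p.1.1, ((key p.1).1 p.2).2⟩
        invFun := fun u => ⟨(u.1, -1), (key _).2 ⟨rfl, u.2⟩⟩
        left_inv := fun p => Subtype.ext (Prod.ext rfl ((key p.1).1 p.2).1.symm)
        right_inv := fun u => rfl }
  rw [e, Nat.card_eq_fintype_card, Fintype.card_subtype_compl, ← Nat.card_eq_fintype_card,
    ← Nat.card_eq_fintype_card, card_uG Z hK]
  congr 1
  have h := card_coset_invol (odd_card_uG Z hK) (aG_sq Z hK) fun u hu =>
    conj_mem_uG Z hK (torG_mem_bG Z hK (-1) : aG Z hK ∈ bG Z hK) hu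
  rw [card_uG Z hK, card_uG_centralizer Z hK] at h
  rw [Nat.card_congr (Equiv.subtypeSubtypeEquivSubtypeInter (· ∈ uG Z hK)
    (fun u => u * aG Z hK * (u * aG Z hK) = 1))]
  refine Nat.eq_of_mul_eq_mul_right (pow_pos (by norm_num : 0 < 3) (2 * m + 1)) ?_
  rw [h]; ring

theorem card_bG_three_nine : Nat.card {b // b ∈ bG Z hK ∧ orderOf b = 3} = (3 ^ (2 * m + 1)) ^ 2 - 1 ∧
    Nat.card {b // b ∈ bG Z hK ∧ orderOf b = 9} = (3 ^ (2 * m + 1)) ^ 3 - (3 ^ (2 * m + 1)) ^ 2 := by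
  classical
  have key : ∀ d, d = 3 ∨ d = 9 → Nat.card {b // b ∈ bG Z hK ∧ orderOf b = d} =
      Nat.card {u : ↥(uG Z hK) // orderOf u = d} := by
    intro d hd
    rw [card_subtype_bG Z hK]
    have key : ∀ p : ↥(uG Z hK) × Fˣ, orderOf ((p.1 : ↥G₁) * torG Z hK p.2) = d ↔
        p.2 = 1 ∧ orderOf p.1 = d := by
      rintro ⟨⟨u, hu⟩, z⟩
      show orderOf (u * torG Z hK z) = d ↔ z = 1 ∧ orderOf (⟨u, hu⟩ : ↥(uG Z hK)) = d
      rw [Subgroup.orderOf_mk u hu]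
      constructor
      · intro hord
        rcases coord_cases Z hK hu z with ⟨-, ho, -⟩ | ⟨hz, e, -⟩ | ⟨hz, h2 | h6⟩
        · exfalso
          have h1 : orderOf z ∣ 3 ^ (2 * m + 1) - 1 := by
            rw [← card_units_q Z hK]; exact orderOf_dvd_natCard z
          rw [← ho, hord] at h1
          obtain ⟨n, -, -, hn, -, -, -, hn3, -⟩ := q_facts m
          rcases hd with rfl | rfl <;> omega
        · exact ⟨hz, e ▸ hord⟩
        · exfalso
          subst hz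
          have h2' : orderOf (u * torG Z hK (-1)) ∣ 2 := orderOf_dvd_of_pow_eq_one (by rw [sq]; exact h2)
          rw [hord] at h2'
          rcases hd with rfl | rfl <;> norm_num at h2'
        · omega
      · rintro ⟨rfl, h⟩
        rwa [map_one, mul_one]
    exact Nat.card_congr
      { toFun := fun p => ⟨p.1.1, ((key p.1).1 p.2).2⟩
        invFun := fun u => ⟨(u.1, 1), (key _).2 ⟨rfl, u.2⟩⟩
        left_inv := fun p => Subtype.ext (Prod.ext rfl ((key p.1).1 p.2).1.symm)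
        right_inv := fun u => rfl }
  have h3 : Nat.card {u : ↥(uG Z hK) // orderOf u = 3} = (3 ^ (2 * m + 1)) ^ 2 - 1 := by
    rw [← card_order_three Z hK]
    exact Nat.card_congr
      { toFun := fun u => ⟨((u.1 : ↥G₁) : ↥(chevG2.group F)), Subgroup.mem_subgroupOf.1 u.1.2, by
          rw [Subgroup.orderOf_coe, Subgroup.orderOf_coe, u.2]⟩
        invFun := fun x => ⟨⟨⟨x.1, (Subgroup.mem_inf.1 x.2.1).1⟩, Subgroup.mem_subgroupOf.2 x.2.1⟩,
          (Subgroup.orderOf_mk _ _).trans ((Subgroup.orderOf_mk _ _).trans x.2.2)⟩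
        left_inv := fun u => rfl
        right_inv := fun x => rfl }
  refine ⟨(key 3 (Or.inl rfl)).trans h3, (key 9 (Or.inr rfl)).trans ?_⟩
  have hu : ∀ u : ↥(uG Z hK), orderOf u = 1 ∨ orderOf u = 3 ∨ orderOf u = 9 := by
    intro u
    have h9 : orderOf u ∣ 3 ^ 2 := orderOf_dvd_of_pow_eq_one (Subtype.ext (uG_pow_nine Z hK u.2))
    obtain ⟨j, hj, e⟩ := (Nat.dvd_prime_pow Nat.prime_three).1 h9
    interval_cases j <;> simp only [e] <;> norm_num
  have h := card_three_values (α := ↥(uG Z hK)) (fun u => orderOf u) hu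
  have h1 : Nat.card {u : ↥(uG Z hK) // orderOf u = 1} = 1 := by
    rw [Nat.card_eq_one_iff_unique]
    exact ⟨⟨fun x y => Subtype.ext ((orderOf_eq_one_iff.1 x.2).trans (orderOf_eq_one_iff.1 y.2).symm)⟩,
      ⟨⟨1, orderOf_one⟩⟩⟩
  rw [card_uG Z hK, h1, h3] at h
  have := Nat.one_le_pow 2 _ (pow_pos (by norm_num : 0 < 3) (2 * m + 1))
  omega

/-- The numbers of elements of order `2`, `3`, `6` and `9`. -/
theorem small_counts (hm : 1 ≤ m) :
    Nat.card {x : ↥G₁ // orderOf x = 2} =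
        (3 ^ (2 * m + 1)) ^ 2 * ((3 ^ (2 * m + 1)) ^ 2 - 3 ^ (2 * m + 1) + 1) ∧
      Nat.card {x : ↥G₁ // orderOf x = 3} =
        ((3 ^ (2 * m + 1)) ^ 2 - 1) * ((3 ^ (2 * m + 1)) ^ 3 + 1) ∧
      Nat.card {x : ↥G₁ // orderOf x = 6} =
        (3 ^ (2 * m + 1)) ^ 2 * (3 ^ (2 * m + 1) - 1) * ((3 ^ (2 * m + 1)) ^ 3 + 1) ∧
      Nat.card {x : ↥G₁ // orderOf x = 9} =
        (3 ^ (2 * m + 1)) ^ 2 * (3 ^ (2 * m + 1) - 1) * ((3 ^ (2 * m + 1)) ^ 3 + 1) := by
  classical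
  have := Fact.mk Nat.prime_two
  have e : (3 ^ (2 * m + 1)) ^ 3 - (3 ^ (2 * m + 1)) ^ 2 =
      (3 ^ (2 * m + 1)) ^ 2 * (3 ^ (2 * m + 1) - 1) := by
    rw [Nat.mul_sub_one, ← pow_succ]
  refine ⟨?_, ?_, ?_, ?_⟩
  · have h := card_conj_set (fun d => d = aG Z hK) (Subgroup.centralizer {aG Z hK})
      (fun n hn d hd => by
        subst hd
        rw [Subgroup.mem_centralizer_singleton_iff.1 hn, mul_inv_cancel_right])
      (fun c d hd h => by
        subst hd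
        exact Subgroup.mem_centralizer_singleton_iff.2 (mul_inv_eq_iff_eq_mul.1 h))
    have e2 : Nat.card {x : ↥G₁ // ∃ c, c * x * c⁻¹ = aG Z hK} =
        Nat.card {x : ↥G₁ // orderOf x = 2} := by
      refine Nat.card_congr (Equiv.subtypeEquivRight fun x => ⟨?_, fun hx => ?_⟩)
      · rintro ⟨c, hc⟩
        rw [← (MulAut.conj c).orderOf_eq x, show (MulAut.conj c) x = aG Z hK from hc]
        exact orderOf_eq_prime (by rw [sq, aG_sq Z hK]) (aG_ne_one Z hK)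
      · obtain ⟨h2, h1⟩ : x ^ 2 = 1 ∧ x ≠ 1 :=
          ⟨orderOf_dvd_iff_pow_eq_one.1 (dvd_of_eq hx), fun e => by simp [e] at hx⟩
        obtain ⟨c, hc⟩ := exists_conj_aG Z hK hm (by rwa [← sq]) h1
        exact ⟨c⁻¹, by rw [← hc]; group⟩
    rw [e2, card_centralizer_aG Z hK] at h
    have h1 : Nat.card {d : ↥G₁ // d = aG Z hK} = 1 := by
      simp [Nat.card_eq_fintype_card]
    rw [h1, mul_one, card_genG Z hK] at h
    obtain ⟨-, -, M, -, -, -, -, -, -, hM, -, -, -, -, -, hM'⟩ := q_facts m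
    rw [hM]
    have hpos : 0 < 3 ^ (2 * m + 1) * ((3 ^ (2 * m + 1)) ^ 2 - 1) :=
      card_centralizer_aG Z hK ▸ Nat.card_pos
    refine Nat.eq_of_mul_eq_mul_right hpos ?_
    rw [h, hM', show (3 ^ (2 * m + 1)) ^ 2 - 1 = (3 ^ (2 * m + 1) + 1) * (3 ^ (2 * m + 1) - 1) by
      rw [← Nat.sq_sub_sq, one_pow]]
    ring
  · rw [card_order_of_bG Z hK dvd_rfl (by norm_num), (card_bG_three_nine Z hK).1]
  · rw [card_order_of_bG Z hK (by norm_num) (by norm_num), card_bG_six Z hK, e]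
  · rw [card_order_of_bG Z hK (by norm_num) (by norm_num), (card_bG_three_nine Z hK).2, e]

theorem normalizer_vFour_eq (hm : 1 ≤ m) :
    Subgroup.normalizer (qTor Z hK : Set ↥G₁) = Subgroup.normalizer (vFour Z hK : Set ↥G₁) := by
  refine le_antisymm (normalizer_qTor_le Z hK) ?_
  refine (normalizer_vFour_le Z hK).trans (normalizer_le_qTor Z hK hm le_rfl ?_)
  intro e
  exact rrG_sq_ne Z hK hm (Subgroup.mem_bot.1 (e ▸ Subgroup.mem_zpowers (rrG Z hK ^ 2) :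
    rrG Z hK ^ 2 ∈ (⊥ : Subgroup ↥G₁)))

theorem four_not_dvd_orderOf (x : ↥G₁) : ¬ 4 ∣ orderOf x := by
  intro h
  have := Fact.mk Nat.prime_two
  set y := x ^ (orderOf x / 4) with hy
  have hy4 : orderOf y = 4 := by
    rw [hy, orderOf_pow x, Nat.gcd_eq_right (Nat.div_dvd_of_dvd h),
      Nat.div_div_self h (orderOf_pos x).ne']
  have hp : IsPGroup 2 ↥(Subgroup.zpowers y) := IsPGroup.of_card (n := 2) (by
    rw [Nat.card_zpowers, hy4]; norm_num)
  obtain ⟨S, hS⟩ := hp.exists_le_sylow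
  have h2 : orderOf y ∣ 2 := orderOf_dvd_of_pow_eq_one (by
    rw [sq]; exact (sylow_two_G1 Z hK S).2 y (hS (Subgroup.mem_zpowers y)))
  rw [hy4] at h2
  norm_num at h2

theorem hSub_pow {x : ↥G₁} (hx : x ∈ hSub Z hK) : x ^ (3 ^ (2 * m + 1) - 1) = 1 := by
  rw [← card_hSub Z hK]
  exact orderOf_dvd_iff_pow_eq_one.1 (Subgroup.orderOf_dvd_natCard _ hx)

theorem qTor_pow {x : ↥G₁} (hx : x ∈ qTor Z hK) : x ^ ((3 ^ (2 * m + 1) + 1) / 2) = 1 := by
  obtain ⟨s, hs, -, hs4, hs2⟩ := quarter (m := m)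
  rw [hs2, pow_mul, ← hs4]
  exact qHalf_pow Z hK (sq_mem_qHalf Z hK hx)

/-- An element of order above two dividing `q - 1` is in a split torus. -/
theorem exists_conj_hSub {x : ↥G₁} (h : x ^ (3 ^ (2 * m + 1) - 1) = 1) (h2 : x ^ 2 ≠ 1) :
    ∃ c, c * x * c⁻¹ ∈ hSub Z hK := by
  obtain ⟨n, hn, hodd⟩ := odd_half (m := m) hK
  obtain ⟨l, hl, hlx, hln⟩ := exists_odd_prime_of_not_dvd_two hodd
    ⟨1, by rw [pow_one, ← hn]; exact orderOf_dvd_of_pow_eq_one h, by norm_num⟩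
    (four_not_dvd_orderOf Z hK x) fun h => h2 (orderOf_dvd_iff_pow_eq_one.1 h)
  have := Fact.mk hl
  set y := x ^ (orderOf x / l) with hy
  have hyl : orderOf y = l := by
    rw [hy, orderOf_pow x, Nat.gcd_eq_right (Nat.div_dvd_of_dvd hlx),
      Nat.div_div_self hlx (orderOf_pos x).ne']
  obtain ⟨n', s, M, hn', -, hs, -, hn3, hs3, -, hModd, -, hcM, -, -, hM'⟩ := q_facts m
  obtain rfl : n' = n := by omega
  have hl2 : l ≠ 2 := fun e => Nat.not_even_iff_odd.2 hodd (even_iff_two_dvd.2 (e ▸ hln))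
  have hidx : ¬ l ∣ (hHalf Z hK).index := by
    refine not_dvd_index_of_card _ (X := (3 ^ (2 * m + 1)) ^ 3 * 2 * ((3 ^ (2 * m + 1) + 1) * M)) ?_ ?_
    · rw [card_genG Z hK, card_hHalf Z hK, hn', hM', Nat.mul_div_cancel_left _ two_pos]; ring
    · intro hd
      rcases hl.dvd_mul.1 hd with hd | hd
      · rcases hl.dvd_mul.1 hd with hd | hd
        · have := (Nat.prime_dvd_prime_iff_eq hl Nat.prime_three).1
            (hl.dvd_of_dvd_pow (hl.dvd_of_dvd_pow hd))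
          exact hn3 (this ▸ hln)
        · exact hl2 ((Nat.prime_dvd_prime_iff_eq hl Nat.prime_two).1 hd)
      · rcases hl.dvd_mul.1 hd with hd | hd
        · have h1 : l ∣ 3 ^ (2 * m + 1) - 1 := hn' ▸ hln.mul_left 2
          have h3 := Nat.dvd_sub hd h1
          have hq : 1 ≤ 3 ^ (2 * m + 1) := Nat.one_le_pow _ _ (by norm_num)
          rw [show 3 ^ (2 * m + 1) + 1 - (3 ^ (2 * m + 1) - 1) = 2 by omega] at h3
          exact hl2 ((Nat.prime_dvd_prime_iff_eq hl Nat.prime_two).1 h3)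
        · exact hl.one_lt.ne' (Nat.eq_one_of_dvd_coprimes hcM hd (hn' ▸ hln.mul_left 2))
  obtain ⟨c, hc⟩ := exists_conj_mem_of_index _ hidx (y := y)
    (orderOf_dvd_iff_pow_eq_one.1 (dvd_of_eq hyl))
  obtain ⟨z, hz, hzy⟩ := hHalf_ne Z hK hc (fun e => by
    rw [conj_eq_one_iff] at e
    rw [e, orderOf_one] at hyl
    exact hl.one_lt.ne hyl)
  refine ⟨c, ?_⟩
  rw [← torG_centralizer Z hK hz, hzy, Subgroup.mem_centralizer_singleton_iff, hy]
  exact ((Commute.conj_iff c).2 ((Commute.refl x).pow_right _)).eq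

/-- An element of order above two dividing `q + 1` is in a torus of order `q + 1`. -/
theorem exists_conj_qTor' (hm : 1 ≤ m) {x : ↥G₁} (h : x ^ (3 ^ (2 * m + 1) + 1) = 1) (h2 : x ^ 2 ≠ 1) :
    ∃ c, c * x * c⁻¹ ∈ qTor Z hK := by
  obtain ⟨n, s, M, hn, -, hs, hsodd, -, hs3, -, -, -, -, hcM, -, hM'⟩ := q_facts m
  obtain ⟨l, hl, hlx, hls⟩ := exists_odd_prime_of_not_dvd_two hsodd
    ⟨2, by rw [show (2 : ℕ) ^ 2 = 4 from rfl, ← hs]; exact orderOf_dvd_of_pow_eq_one h, le_rfl⟩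
    (four_not_dvd_orderOf Z hK x) fun h => h2 (orderOf_dvd_iff_pow_eq_one.1 h)
  have := Fact.mk hl
  set y := x ^ (orderOf x / l) with hy
  have hyl : orderOf y = l := by
    rw [hy, orderOf_pow x, Nat.gcd_eq_right (Nat.div_dvd_of_dvd hlx),
      Nat.div_div_self hlx (orderOf_pos x).ne']
  have hl2 : l ≠ 2 := fun e => Nat.not_even_iff_odd.2 hsodd (even_iff_two_dvd.2 (e ▸ hls))
  have hlq : l ∣ 3 ^ (2 * m + 1) + 1 := hs ▸ hls.mul_left 4
  have hidx : ¬ l ∣ (qHalf Z hK).index := by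
    refine not_dvd_index_of_card _ (X := (3 ^ (2 * m + 1)) ^ 3 * (3 ^ (2 * m + 1) - 1) * (4 * M)) ?_ ?_
    · rw [card_genG Z hK, card_qHalf Z hK, hM', hs, Nat.mul_div_cancel_left _ (by norm_num)]; ring
    · intro hd
      rcases hl.dvd_mul.1 hd with hd | hd
      · rcases hl.dvd_mul.1 hd with hd | hd
        · have := (Nat.prime_dvd_prime_iff_eq hl Nat.prime_three).1
            (hl.dvd_of_dvd_pow (hl.dvd_of_dvd_pow hd))
          exact hs3 (this ▸ hls)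
        · have h3 := Nat.dvd_sub hlq hd
          have hq : 1 ≤ 3 ^ (2 * m + 1) := Nat.one_le_pow _ _ (by norm_num)
          rw [show 3 ^ (2 * m + 1) + 1 - (3 ^ (2 * m + 1) - 1) = 2 by omega] at h3
          exact hl2 ((Nat.prime_dvd_prime_iff_eq hl Nat.prime_two).1 h3)
      · rcases hl.dvd_mul.1 hd with hd | hd
        · exact hl2 ((Nat.prime_dvd_prime_iff_eq hl Nat.prime_two).1
            (hl.dvd_of_dvd_pow (show l ∣ 2 ^ 2 from hd)))
        · exact hl.one_lt.ne' (Nat.eq_one_of_dvd_coprimes hcM hd hlq)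
  obtain ⟨c, hc⟩ := exists_conj_mem_of_index _ hidx (y := y)
    (orderOf_dvd_iff_pow_eq_one.1 (dvd_of_eq hyl))
  refine ⟨c, ?_⟩
  rw [← centralizer_qHalf Z hK hm hc (fun e => by
    rw [conj_eq_one_iff] at e
    rw [e, orderOf_one] at hyl
    exact hl.one_lt.ne hyl), Subgroup.mem_centralizer_singleton_iff, hy]
  exact ((Commute.conj_iff c).2 ((Commute.refl x).pow_right _)).eq

/-- Counting the elements of the split tori. -/
theorem card_split (P : ↥G₁ → Prop) (hP : ∀ c x, P x → P (c * x * c⁻¹))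
    (hP2 : ∀ x, P x → x ^ (3 ^ (2 * m + 1) - 1) = 1 ∧ x ^ 2 ≠ 1) :
    Nat.card {x // P x} * (2 * (3 ^ (2 * m + 1) - 1)) =
      Nat.card ↥G₁ * Nat.card {h // h ∈ hSub Z hK ∧ P h} := by
  have hN : ∀ d, d ∈ hSub Z hK → d ^ 2 ≠ 1 → ∃ z, z ^ 2 ≠ 1 ∧ torG Z hK z = d := by
    rintro d ⟨z, rfl⟩ hd
    exact ⟨z, fun e => hd (by rw [← map_pow, e, map_one]), rfl⟩
  by_cases hex : ∃ d, d ∈ hSub Z hK ∧ P d
  · obtain ⟨d₀, hd₀, hPd₀⟩ := hex
    obtain ⟨z₀, hz₀, rfl⟩ := hN d₀ hd₀ (hP2 _ hPd₀).2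
    have h := card_conj_set (fun d => d ∈ hSub Z hK ∧ P d)
      (Subgroup.normalizer (hSub Z hK : Set ↥G₁))
      (fun n hn d hd => ⟨(Subgroup.mem_normalizer_iff.1 hn d).1 hd.1, hP n d hd.2⟩) ?_
    · rw [card_normalizer_hSub Z hK le_rfl hz₀ hd₀] at h
      rw [← h]
      congr 1
      refine Nat.card_congr (Equiv.subtypeEquivRight fun x => ?_)
      constructor
      · intro hx
        obtain ⟨c, hc⟩ := exists_conj_hSub Z hK (hP2 x hx).1 (hP2 x hx).2
        exact ⟨c, hc, hP c x hx⟩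
      · rintro ⟨c, -, hc⟩
        have := hP c⁻¹ _ hc
        rwa [show c⁻¹ * (c * x * c⁻¹) * c⁻¹⁻¹ = x by group] at this
    · rintro c d ⟨hd, hPd⟩ ⟨hd', -⟩
      obtain ⟨z, hz, rfl⟩ := hN d hd (hP2 _ hPd).2
      obtain ⟨z', hz'⟩ := hd'
      have e : torG Z hK z' * c = c * torG Z hK z := by rw [hz']; group
      rw [mem_normalizer_hSub Z hK le_rfl hz hd]
      rcases conj_cases Z hK c.2 hz (congrArg Subtype.val e).symm with ⟨w, hw, -⟩ | ⟨w, hw, -⟩
      · exact Or.inl ⟨w, Subtype.ext hw.symm⟩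
      · refine Or.inr ⟨w, ?_⟩
        have hx' : c = torG Z hK w * nG Z hK :=
          Subtype.ext (by rw [Subgroup.coe_mul, nG_val Z hK]; exact hw)
        rw [hx', mul_assoc, nG_sq Z hK, mul_one]
  · have e1 : IsEmpty {h // h ∈ hSub Z hK ∧ P h} := ⟨fun x => hex ⟨x.1, x.2⟩⟩
    have e2 : IsEmpty {x // P x} := ⟨fun x => by
      obtain ⟨c, hc⟩ := exists_conj_hSub Z hK (hP2 x x.2).1 (hP2 x x.2).2
      exact hex ⟨_, hc, hP c x x.2⟩⟩
    simp

/-- Counting the elements of the tori of order `q + 1`. -/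
theorem card_quarter (hm : 1 ≤ m) (P : ↥G₁ → Prop) (hP : ∀ c x, P x → P (c * x * c⁻¹))
    (hP2 : ∀ x, P x → x ^ (3 ^ (2 * m + 1) + 1) = 1 ∧ x ^ 2 ≠ 1) :
    Nat.card {x // P x} * (6 * (3 ^ (2 * m + 1) + 1)) =
      Nat.card ↥G₁ * Nat.card {h // h ∈ qTor Z hK ∧ P h} := by
  have h := card_conj_set (fun d => d ∈ qTor Z hK ∧ P d)
    (Subgroup.normalizer (qTor Z hK : Set ↥G₁))
    (fun n hn d hd => ⟨(Subgroup.mem_normalizer_iff.1 hn d).1 hd.1, hP n d hd.2⟩) ?_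
  · rw [normalizer_vFour_eq Z hK hm, card_normalizer_vFour Z hK hm] at h
    rw [← h]
    congr 1
    refine Nat.card_congr (Equiv.subtypeEquivRight fun x => ?_)
    constructor
    · intro hx
      obtain ⟨c, hc⟩ := exists_conj_qTor' Z hK hm (hP2 x hx).1 (hP2 x hx).2
      exact ⟨c, hc, hP c x hx⟩
    · rintro ⟨c, -, hc⟩
      have := hP c⁻¹ _ hc
      rwa [show c⁻¹ * (c * x * c⁻¹) * c⁻¹⁻¹ = x by group] at this
  · rintro c d ⟨hd, hPd⟩ ⟨hd', hPd'⟩
    refine Subgroup.mem_normalizer_fintype fun t ht => ?_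
    rw [SetLike.mem_coe, ← centralizer_qTor Z hK hm hd' (hP2 _ hPd').2,
      Subgroup.mem_centralizer_singleton_iff]
    exact ((Commute.conj_iff c).2 (qTor_comm Z hK ht hd)).eq

end Cfsg.Agent.Twisted.TypeG2
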