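import Cfsg.Agent.Lib.Ree.Struct

/-!
The torus and the elements of order `3` of the small Ree group, and the statements for the subgroup of the
general linear group.
-/

set_option autoImplicit false
set_option linter.unusedSectionVars false

namespace Cfsg.Agent.Twisted.TypeG2

open ChevGroup ChevIsogeny Cfsg.Lie

variable {F : Type*} [Field F] [Fintype F] {m : ℕ} {K : Rels chevG2 F}

variable (Z : Frame (T := MT) K PP (3 ^ m) fd) (hK : Fintype.card F = 3 ^ (2 * m + 1))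

set_option quotPrecheck false in
local notation "G₁" => genG MT K (g2Words F (3 ^ m))

set_option quotPrecheck false in
local notation "𝔻" => (gens Z hK).data

include Z hK

theorem lam_pow_u {l : Fˣ} (h : l ^ (3 * 3 ^ m + 1) = 1) : l ^ 2 = 1 := by
  have hper : l ^ (3 * 3 ^ m * 3 ^ m) = l :=
    Units.ext (by rw [Units.val_pow_eq_pow_val]; exact frob Z hK _)
  have h1 : l ^ (3 ^ m + 1) = 1 := by
    have := congrArg (· ^ 3 ^ m) h
    simp only [one_pow] at this
    rw [← pow_mul, add_mul, one_mul, pow_add, hper] at this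
    rwa [pow_succ']
  have h2 : (l ^ (3 ^ m + 1)) ^ 3 = l ^ (3 * 3 ^ m + 1) * l ^ 2 := by
    rw [← pow_mul, ← pow_add]; ring_nf
  rw [h1, h, one_pow, one_mul] at h2
  exact h2.symm

theorem lam_pow_v {l : Fˣ} (h : l ^ (3 * 3 ^ m + 2) = 1) : l = 1 := by
  have hper : l ^ (3 * 3 ^ m * 3 ^ m) = l :=
    Units.ext (by rw [Units.val_pow_eq_pow_val]; exact frob Z hK _)
  have h1 : l ^ (2 * 3 ^ m + 1) = 1 := by
    have := congrArg (· ^ 3 ^ m) h
    simp only [one_pow] at this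
    rw [← pow_mul, add_mul, pow_add, hper] at this
    rwa [pow_succ']
  have h2 : (l ^ (3 * 3 ^ m + 2)) ^ 2 = (l ^ (2 * 3 ^ m + 1)) ^ 3 * l := by
    rw [← pow_mul, ← pow_mul, ← pow_succ]; ring_nf
  rw [h1, h, one_pow, one_pow, one_mul] at h2
  exact h2.symm

/-- commuting of a torus element with an element of the unipotent group -/
theorem commute_wordU_iff {z : Fˣ} {t u v : F} :
    Commute (hHom Z z) (wordU K m t u v) ↔
      (t = 0 ∨ lam Z z = 1) ∧ (u = 0 ∨ lam Z z ^ 2 = 1) ∧ (v = 0 ∨ lam Z z = 1) := by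
  have heven : Even (3 * 3 ^ m + 1) := (Odd.mul (by decide) ((by decide : Odd 3).pow)).add_one
  have hconj := hHom_conj_wordU Z hK z t u v
  have hfix : ∀ (x : F) (l : Fˣ), (l : F) * x = x ↔ x = 0 ∨ l = 1 := fun x l => by
    rw [mul_left_eq_self₀, Units.val_eq_one, or_comm]
  have key : Commute (hHom Z z) (wordU K m t u v) ↔
      (lam Z z : F) * t = t ∧ (lam Z z : F) ^ (3 * 3 ^ m + 1) * u = u ∧
        (lam Z z : F) ^ (3 * 3 ^ m + 2) * v = v := by
    constructor
    · intro hc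
      rw [hc.eq, mul_inv_cancel_right] at hconj
      obtain ⟨e1, e2, e3⟩ := wordU_inj Z hK hconj.symm
      exact ⟨e1, e2, e3⟩
    · rintro ⟨e1, e2, e3⟩
      rw [e1, e2, e3] at hconj
      exact mul_inv_eq_iff_eq_mul.1 hconj
  rw [key, ← Units.val_pow_eq_pow_val, ← Units.val_pow_eq_pow_val, hfix, hfix, hfix]
  refine and_congr_right fun _ => and_congr (or_congr_right ?_) (or_congr_right ?_)
  · refine ⟨lam_pow_u Z hK, fun h => ?_⟩
    obtain ⟨k, hk⟩ := heven
    rw [hk, ← two_mul, pow_mul, h, one_pow]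
  · exact ⟨lam_pow_v Z hK, fun h => by rw [h, one_pow]⟩

theorem lam_sq_eq_one_iff {z : Fˣ} : lam Z z ^ 2 = 1 ↔ z ^ 2 = 1 := by
  rw [pow_two, pow_two, ← lam_mul, lam_eq_one_iff Z hK]

/-- A torus element of odd order other than `1` commutes with no element of the unipotent group. -/
theorem eq_one_of_commute {z : Fˣ} (hz : z ^ 2 ≠ 1) {x : ↥(chevG2.group F)} (hx : x ∈ (𝔻).U1)
    (hc : Commute (hHom Z z) x) : x = 1 := by
  obtain ⟨t, u, v, rfl⟩ := (mem_U1_iff Z hK).1 hx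
  obtain ⟨ht, hu, hv⟩ := (commute_wordU_iff Z hK).1 hc
  have h1 : lam Z z ≠ 1 := fun h => hz (by rw [(lam_eq_one_iff Z hK).1 h, one_pow])
  have h2 : lam Z z ^ 2 ≠ 1 := fun h => hz ((lam_sq_eq_one_iff Z hK).1 h)
  exact (wordU_eq_one_iff Z hK).2 ⟨ht.resolve_right h1, hu.resolve_right h2, hv.resolve_right h1⟩

theorem pow_three_eq_one_iff {t u v : F} : wordU K m t u v ^ 3 = 1 ↔ t = 0 := by
  obtain ⟨h3, -⟩ := pow_facts hK
  have hz : ∀ n : ℕ, 0 < n → (0 : F) ^ n = 0 := fun n hn => zero_pow hn.ne'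
  have hp : 0 < 3 ^ m := pow_pos (by norm_num) m
  rw [← wordU_zero Z hK (m := m), pow_succ, pow_two, wordU, wordU, form_mul_eq Z hK,
    form_mul_eq Z hK]
  simp only [hz _ hp, hz _ (Nat.succ_pos _), zero_add]
  constructor
  · intro h
    obtain ⟨-, -, -, hB, -, -⟩ := form_inj Z h
    have h5 : (t ^ 3 ^ m) ^ 2 * t = 0 := by
      set s := t ^ 3 ^ m with hs
      set a := t ^ (3 ^ m + 1) + u ^ 3 ^ m with ha
      set b := t ^ (2 * 3 ^ m + 1) + v ^ 3 ^ m with hb
      linear_combination (-1 : F) * hB +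
        (b + 2 * a * s + 2 * (s ^ 2 * t)) * h3
    simpa [pow_ne_zero_iff, pow_eq_zero_iff, hp.ne'] using h5
  · rintro rfl
    simp only [hz _ hp, hz _ (Nat.succ_pos _), zero_add, mul_zero, add_zero, sub_zero]
    have h333 : ∀ x : F, x + x + x = 0 := fun x => by linear_combination x * h3
    congr 2 <;> exact h333 _

theorem card_order_three : Nat.card {x : ↥(chevG2.group F) // x ∈ (𝔻).U1 ∧ orderOf x = 3} =
    (3 ^ (2 * m + 1)) ^ 2 - 1 := by
  classical
  haveI := Fact.mk Nat.prime_three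
  have key : ∀ x : ↥(chevG2.group F), orderOf x = 3 ↔ x ^ 3 = 1 ∧ x ≠ 1 := fun x =>
    ⟨fun h => ⟨by rw [← h]; exact pow_orderOf_eq_one x, fun e => by simp [e] at h⟩,
      fun h => orderOf_eq_prime h.1 h.2⟩
  rw [← hK, ← Nat.card_eq_fintype_card, pow_two, ← Nat.card_prod]
  have e : Nat.card {p : F × F // p ≠ (0, 0)} = Nat.card (F × F) - 1 := by
    simp [Nat.card_eq_fintype_card, Fintype.card_subtype_compl]
  rw [← e]
  refine (Nat.card_congr (Equiv.ofBijective (fun p => ⟨wordU K m 0 p.1.1 p.1.2,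
    (mem_U1_iff Z hK).2 ⟨_, _, _, rfl⟩, (key _).2 ⟨(pow_three_eq_one_iff Z hK).2 rfl, fun h =>
      p.2 (Prod.ext ((wordU_eq_one_iff Z hK).1 h).2.1 ((wordU_eq_one_iff Z hK).1 h).2.2)⟩⟩) ⟨?_, ?_⟩)).symm
  · rintro ⟨⟨u, v⟩, _⟩ ⟨⟨u', v'⟩, _⟩ h
    obtain ⟨-, rfl, rfl⟩ := wordU_inj Z hK (congrArg Subtype.val h :)
    rfl
  · rintro ⟨x, hx, hx3⟩
    obtain ⟨t, u, v, rfl⟩ := (mem_U1_iff Z hK).1 hx
    obtain ⟨h1, h2⟩ := (key _).1 hx3
    obtain rfl := (pow_three_eq_one_iff Z hK).1 h1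
    refine ⟨⟨(u, v), fun h => h2 ((wordU_eq_one_iff Z hK).2 ⟨rfl, ?_, ?_⟩)⟩, rfl⟩
    · exact congrArg Prod.fst h
    · exact congrArg Prod.snd h

omit Z in
theorem odd_half : ∃ n, 3 ^ (2 * m + 1) - 1 = 2 * n ∧ Odd n := by
  have h : (3 ^ (2 * m + 1)) % 4 = 3 := by
    rw [pow_succ, pow_mul, Nat.mul_mod, Nat.pow_mod]
    norm_num
  exact ⟨(3 ^ (2 * m + 1) - 1) / 2, by omega, Nat.odd_iff.2 (by omega)⟩

theorem card_units_q : Nat.card Fˣ = 3 ^ (2 * m + 1) - 1 := by
  rw [Nat.card_units, Nat.card_eq_fintype_card, hK]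

theorem card_odd_order : 2 * Nat.card {z : Fˣ // Odd (orderOf z)} = 3 ^ (2 * m + 1) - 1 := by
  obtain ⟨n, hn, hodd⟩ := odd_half (m := m) hK
  have e : Nat.card {z : Fˣ // Odd (orderOf z)} = n := by
    conv_rhs => rw [← card_units_pow_eq_one (F := F) (n := n) (by rw [hK, hn]; exact dvd_mul_left _ _)]
    refine Nat.card_congr (Equiv.subtypeEquivRight fun z => ⟨fun h => ?_, fun h => ?_⟩)
    · refine orderOf_dvd_iff_pow_eq_one.1 ?_
      have h1 : orderOf z ∣ 2 * n := by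
        rw [← hn, ← card_units_q Z hK]; exact orderOf_dvd_natCard z
      exact (Nat.coprime_two_right.2 h).dvd_of_dvd_mul_left h1
    · exact hodd.of_dvd_nat (orderOf_dvd_iff_pow_eq_one.2 h)
  rw [e, hn]

theorem genG_map_twisted : (G₁).map (chevG2.group F).subtype = twistedG2 F (3 ^ m) :=
  genG_map _

theorem diag_inf : chevG2.diagonalSubgroup F ⊓ twistedG2 F (3 ^ m) =
    ((chevG2.group F).subtype.comp (hHom Z)).range := by
  rw [MonoidHom.range_comp, hHom_range Z hK, ← genG_map_twisted Z hK, ← MT.H_map K,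
    ← Subgroup.map_inf _ _ _ Subtype.coe_injective, inf_comm]
  rfl

theorem pos_inf : chevG2.posUnipotent F ⊓ twistedG2 F (3 ^ m) =
    ((𝔻).U1).map (chevG2.group F).subtype := by
  rw [← genG_map_twisted Z hK, ← MT.U_map K, ← Subgroup.map_inf _ _ _ Subtype.coe_injective,
    inf_comm]
  rfl

theorem isCyclic_H : IsCyclic ↥(chevG2.diagonalSubgroup F ⊓ twistedG2 F (3 ^ m)) := by
  rw [diag_inf Z hK]
  exact isCyclic_of_surjective ((chevG2.group F).subtype.comp (hHom Z)).rangeRestrict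
    (MonoidHom.rangeRestrict_surjective _)

theorem odd_order_H :
    2 * Nat.card {h : ↥(chevG2.diagonalSubgroup F ⊓ twistedG2 F (3 ^ m)) // Odd (orderOf h)} =
      3 ^ (2 * m + 1) - 1 ∧
    ∀ h ∈ (chevG2.diagonalSubgroup F ⊓ twistedG2 F (3 ^ m)), h ≠ 1 → Odd (orderOf h) →
      (chevG2.posUnipotent F ⊓ twistedG2 F (3 ^ m)) ⊓ Subgroup.centralizer {h} = ⊥ := by
  set f := (chevG2.group F).subtype.comp (hHom Z) with hf
  have hinj : Function.Injective f := Subtype.coe_injective.comp (hHom_inj Z hK)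
  rw [diag_inf Z hK, ← hf]
  constructor
  · rw [← card_odd_order Z hK]
    congr 1
    refine (Nat.card_congr (Equiv.subtypeEquiv (MonoidHom.ofInjective hinj).toEquiv fun z => ?_)).symm
    show Odd (orderOf z) ↔ Odd (orderOf (MonoidHom.ofInjective hinj z))
    rw [MulEquiv.orderOf_eq]
  · rintro _ ⟨z, rfl⟩ hne hodd
    rw [orderOf_injective f hinj] at hodd
    have hz2 : z ^ 2 ≠ 1 := by
      intro h2
      have h1 : orderOf z = 1 := Nat.eq_one_of_dvd_coprimes (Nat.coprime_two_right.2 hodd) dvd_rfl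
        (orderOf_dvd_of_pow_eq_one h2)
      exact hne (by rw [orderOf_eq_one_iff.1 h1, map_one])
    rw [Subgroup.eq_bot_iff_forall]
    intro g hg
    rw [Subgroup.mem_inf, pos_inf Z hK, Subgroup.mem_centralizer_singleton_iff] at hg
    obtain ⟨⟨x, hx, rfl⟩, hc⟩ := hg
    have hc' : Commute (hHom Z z) x := Subtype.coe_injective (show
      ((hHom Z z * x : ↥(chevG2.group F)) : GL chevG2.Idx F) = ((x * hHom Z z : ↥(chevG2.group F))) by
        simpa [hf] using hc.symm)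
    rw [eq_one_of_commute Z hK hz2 hx hc', map_one]

theorem order_three_U :
    Nat.card {u : ↥(chevG2.posUnipotent F ⊓ twistedG2 F (3 ^ m)) // orderOf u = 3} =
      (3 ^ (2 * m + 1)) ^ 2 - 1 := by
  rw [← card_order_three Z hK, pos_inf Z hK]
  refine (Nat.card_congr ?_).symm
  refine (Equiv.subtypeSubtypeEquivSubtypeInter (fun x : ↥(chevG2.group F) => x ∈ (𝔻).U1)
    (fun x => orderOf x = 3)).symm.trans ?_
  refine Equiv.subtypeEquiv (((𝔻).U1).equivMapOfInjective _ Subtype.coe_injective).toEquiv fun x => ?_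
  show orderOf (x : ↥(chevG2.group F)) = 3 ↔ orderOf ((((𝔻).U1).equivMapOfInjective
    (chevG2.group F).subtype Subtype.coe_injective) x) = 3
  rw [MulEquiv.orderOf_eq, Subgroup.orderOf_coe]

theorem sylow_three_twisted (P Q : Sylow 3 ↥(twistedG2 F (3 ^ m))) (hPQ : P ≠ Q) :
    (P : Subgroup ↥(twistedG2 F (3 ^ m))) ⊓ (Q : Subgroup ↥(twistedG2 F (3 ^ m))) = ⊥ := by
  let e : ↥G₁ ≃* ↥(twistedG2 F (3 ^ m)) :=
    ((G₁).equivMapOfInjective _ Subtype.coe_injective).trans
      (MulEquiv.subgroupCongr (genG_map_twisted Z hK))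
  have hrange : ∀ S : Sylow 3 ↥(twistedG2 F (3 ^ m)),
      (S : Subgroup ↥(twistedG2 F (3 ^ m))) ≤ e.toMonoidHom.range := fun S x _ => by
    rw [MonoidHom.range_eq_top.2 e.surjective]; trivial
  have hne : P.comapOfInjective e.toMonoidHom e.injective (hrange P) ≠
      Q.comapOfInjective e.toMonoidHom e.injective (hrange Q) := fun h => hPQ (Sylow.ext
    (Subgroup.comap_injective e.surjective (congrArg Sylow.toSubgroup h)))
  have h := sylow_three_ti Z hK _ _ hne
  refine Subgroup.comap_injective (f := e.toMonoidHom) e.surjective ?_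
  rw [Subgroup.comap_inf, MonoidHom.comap_bot,
    (MonoidHom.ker_eq_bot_iff e.toMonoidHom).2 e.injective]
  exact h

end Cfsg.Agent.Twisted.TypeG2
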