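import Cfsg.Agent.Lib.Ree.RankHom
import Mathlib.GroupTheory.NoncommCoprod
import Mathlib.GroupTheory.Sylow

/-!
The centraliser of the involution of the torus of the small Ree group and a Sylow `2`-subgroup.
-/

set_option autoImplicit false
set_option linter.unusedSectionVars false

namespace Cfsg.Agent.Twisted.TypeG2

open ChevGroup ChevIsogeny Cfsg.Lie
open scoped MatrixGroups

variable {F : Type*} [Field F] [Fintype F] {m : ℕ} {K : Rels chevG2 F}

variable (Z : Frame (T := MT) K PP (3 ^ m) fd) (hK : Fintype.card F = 3 ^ (2 * m + 1))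

set_option quotPrecheck false in
local notation "G₁" => genG MT K (g2Words F (3 ^ m))

set_option quotPrecheck false in
local notation "𝔻" => (gens Z hK).data

/-- the involution of the torus -/
noncomputable def invA : ↥(chevG2.group F) := hHom Z (-1)

include Z hK

theorem nJ_eq_nw : (𝔻).nJ 0 = ReeSL2.nw (rx m K) (ry m K) 1 := by
  obtain ⟨-, -, -, hz1, -, -⟩ := pow_facts hK
  obtain ⟨-, -, g8, g10⟩ := refl_facts
  show Z.og 0 1 * Z.ogn 0 (-1) * Z.og 0 1 = _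
  simp only [Frame.og, Frame.ogn, show fd.orth (0 : Fin 1) = [8, 10] from rfl, List.map_cons,
    List.map_nil, List.prod_cons, List.prod_nil, mul_one, g8, g10, ReeSL2.nw, rx, ry, one_pow,
    inv_one, show (-1 : F) ^ 3 ^ m = -1 by simpa using hz1 (-1)]

theorem lam_negone_sq : lam Z (-1) ^ (3 * 3 ^ m + 1) = 1 := by
  rw [lam_neg_one Z hK]
  exact ((Odd.mul (by decide : Odd 3) ((by decide : Odd 3).pow)).add_one).neg_one_pow

theorem invA_commute_rx (u : F) : Commute (invA Z) (rx m K u) := by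
  rw [rx_eq_wordU Z hK]
  exact (commute_wordU_iff Z hK).2
    ⟨Or.inl rfl, Or.inr (by rw [lam_neg_one Z hK, neg_one_sq]), Or.inl rfl⟩

theorem invA_commute_ry (u : F) : Commute (invA Z) (ry m K u) := by
  have h := ry_conj Z hK (-1) u
  rw [lam_negone_sq Z hK, inv_one, Units.val_one, one_mul] at h
  exact mul_inv_eq_iff_eq_mul.1 h

theorem invA_commute_nw (c : F) : Commute (invA Z) (ReeSL2.nw (rx m K) (ry m K) c) :=
  ((invA_commute_rx Z hK _).mul_right (invA_commute_ry Z hK _)).mul_right (invA_commute_rx Z hK _)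

theorem nw_mem (c : F) : ReeSL2.nw (rx m K) (ry m K) c ∈ G₁ :=
  mul_mem (mul_mem (Subgroup.mem_inf.1 (rx_mem Z hK c)).1 (ry_mem Z hK _))
    (Subgroup.mem_inf.1 (rx_mem Z hK c)).1

theorem sl2Hom_mem (g : SL(2, F)) :
    sl2Hom Z hK g ∈ G₁ ∧ Commute (invA Z) (sl2Hom Z hK g) := by
  by_cases h : g 1 0 = 0
  · rw [sl2Hom, ReeSL2.hom_of_zero _ h, ReeSL2.hd]
    exact ⟨mul_mem (mul_mem (nw_mem Z hK _) (nw_mem Z hK _)) (Subgroup.mem_inf.1 (rx_mem Z hK _)).1,
      ((invA_commute_nw Z hK _).mul_right (invA_commute_nw Z hK _)).mul_right (invA_commute_rx Z hK _)⟩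
  · rw [sl2Hom, ReeSL2.hom_of_ne _ h]
    exact ⟨mul_mem (mul_mem (Subgroup.mem_inf.1 (rx_mem Z hK _)).1 (nw_mem Z hK _))
      (Subgroup.mem_inf.1 (rx_mem Z hK _)).1,
      ((invA_commute_rx Z hK _).mul_right (invA_commute_nw Z hK _)).mul_right (invA_commute_rx Z hK _)⟩

theorem hd_mem_H1 {c : F} (hc : c ≠ 0) : ReeSL2.hd (rx m K) (ry m K) c ∈ (𝔻).H1 := by
  rw [hd_eq_tor Z hK hc]
  exact hHom_mem_H1 Z hK _

theorem sl2Hom_notMem_B1 {g : SL(2, F)} (h : g 1 0 ≠ 0) : sl2Hom Z hK g ∉ (𝔻).B1 := by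
  intro hB
  rw [sl2Hom, ReeSL2.hom_of_ne _ h, ReeSL2.nw_eq (rankRel Z hK)] at hB
  have h1 := mul_mem (mul_mem (inv_mem ((𝔻).U1_le_B1 (rx_mem Z hK (g 0 0 / g 1 0)))) hB)
    (inv_mem ((𝔻).U1_le_B1 (rx_mem Z hK (g 1 1 / g 1 0))))
  have h2 := mul_mem (inv_mem ((𝔻).H1_le_B1 (hd_mem_H1 Z hK (neg_ne_zero.2 (inv_ne_zero h))))) h1
  refine nJ_notMem_B1 Z hK ?_
  rw [nJ_eq_nw Z hK]
  convert h2 using 1
  group

theorem pow_eq_one_sq {a : Fˣ} (h : a ^ (3 * 3 ^ m + 1) = 1) : a = 1 ∨ a = -1 := by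
  rcases mul_self_eq_one_iff.1 (show (a : F) * a = 1 by
    rw [← Units.val_mul, ← pow_two, lam_pow_u Z hK h, Units.val_one]) with h1 | h1
  · exact Or.inl (Units.ext h1)
  · exact Or.inr (Units.ext (by simpa using h1))

theorem pow_ne_neg_one (a : Fˣ) : a ^ (3 * 3 ^ m + 1) ≠ -1 := by
  intro h
  have hne : (-1 : Fˣ) ≠ 1 := fun e => two_ne Z hK (by simpa using congrArg Units.val e)
  have heven : Even (3 * 3 ^ m + 1) := (Odd.mul (by decide) ((by decide : Odd 3).pow)).add_one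
  have h2 : (a ^ 2) ^ (3 * 3 ^ m + 1) = 1 := by rw [pow_right_comm, h, neg_one_sq]
  rcases pow_eq_one_sq Z hK h2 with h3 | h3
  · rcases mul_self_eq_one_iff.1 (show (a : F) * a = 1 by
      rw [← Units.val_mul, ← pow_two, h3, Units.val_one]) with h1 | h1
    · obtain rfl : a = 1 := Units.ext h1
      rw [one_pow] at h
      exact hne h.symm
    · obtain rfl : a = -1 := Units.ext (by simpa using h1)
      rw [heven.neg_one_pow] at h
      exact hne h.symm
  · obtain ⟨n, hn, hodd⟩ := odd_half (m := m) hK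
    refine hne ?_
    rw [← hodd.neg_one_pow (α := Fˣ), ← h3, ← pow_mul, ← hn, ← card_units_q Z hK, pow_card_eq_one']

/-- The values of the homomorphism from `SL(2, q)` in the torus. -/
theorem sl2Hom_in_H1 {g : SL(2, F)} (h : sl2Hom Z hK g ∈ (𝔻).H1) :
    g 1 0 = 0 ∧ g 0 1 = 0 ∧ ∃ a : Fˣ, (a : F) = g 0 0 ∧
      sl2Hom Z hK g = hHom Z (a ^ (3 * 3 ^ m + 1)) := by
  have hc : g 1 0 = 0 := by
    by_contra hc
    exact sl2Hom_notMem_B1 Z hK hc ((𝔻).H1_le_B1 h)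
  have ha : g 0 0 ≠ 0 := fun e => by
    have := ReeSL2.det_rel (rankRel Z hK) g
    simp [e, hc] at this
  rw [sl2Hom, ReeSL2.hom_of_zero _ hc] at h ⊢
  have hx : rx m K (g 0 1 / g 0 0) ∈ (𝔻).H1 := by
    have := mul_mem (inv_mem (hd_mem_H1 Z hK ha)) h
    simpa using this
  have h1 : rx m K (g 0 1 / g 0 0) = 1 :=
    (MT.shapeR K).U_inter_H (Subgroup.mem_inf.1 (rx_mem Z hK _)).2 (Subgroup.mem_inf.1 hx).2
  refine ⟨hc, ?_, Units.mk0 _ ha, rfl, ?_⟩
  · rw [rx_eq_wordU Z hK] at h1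
    rcases div_eq_zero_iff.1 ((wordU_eq_one_iff Z hK).1 h1).2.1 with e | e
    · exact e
    · exact absurd e ha
  · rw [h1, mul_one, hd_eq_tor Z hK ha]

theorem neg_one_entry (g : SL(2, F)) (h10 : g 1 0 = 0) (h01 : g 0 1 = 0)
    (h00 : g 0 0 = 1 ∨ g 0 0 = -1) : g = 1 ∨ g = -1 := by
  have hdet := ReeSL2.det_rel (rankRel Z hK) g
  rw [h10, h01, mul_zero, sub_zero] at hdet
  rcases h00 with h | h
  · left
    rw [h, one_mul] at hdet
    ext i j
    fin_cases i <;> fin_cases j <;> simp [h, h10, h01, hdet]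
  · right
    rw [h] at hdet
    have h11 : g 1 1 = -1 := by linear_combination -hdet
    ext i j
    fin_cases i <;> fin_cases j <;> simp [h, h10, h01, h11]

theorem sl2Hom_eq_one_iff {g : SL(2, F)} : sl2Hom Z hK g = 1 ↔ g = 1 ∨ g = -1 := by
  constructor
  · intro h
    obtain ⟨hc, hb, a, ha, e⟩ := sl2Hom_in_H1 Z hK (g := g) (h ▸ one_mem _)
    rw [h] at e
    refine neg_one_entry Z hK g hc hb ?_
    rcases pow_eq_one_sq Z hK (hHom_inj Z hK (e.symm.trans (map_one _).symm)) with e1 | e1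
    · left; rw [← ha, e1, Units.val_one]
    · right; rw [← ha, e1, Units.val_neg, Units.val_one]
  · rintro (rfl | rfl)
    · exact map_one _
    · have heven : Even (3 * 3 ^ m + 1) := (Odd.mul (by decide) ((by decide : Odd 3).pow)).add_one
      rw [sl2Hom, ReeSL2.hom_of_zero _ (by simp),
        show ((-1 : SL(2, F)) : Matrix (Fin 2) (Fin 2) F) 0 1 / (-1 : SL(2, F)) 0 0 = 0 by simp,
        ReeSL2.x_zero (rankRel Z hK), mul_one, hd_eq_tor Z hK (by simp)]
      have e : Units.mk0 (((-1 : SL(2, F)) : Matrix (Fin 2) (Fin 2) F) 0 0) (by simp) = (-1 : Fˣ) :=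
        Units.ext (by simp)
      rw [e, heven.neg_one_pow, map_one]

theorem invA_notMem_range (g : SL(2, F)) : sl2Hom Z hK g ≠ invA Z := by
  intro h
  obtain ⟨-, -, a, -, e⟩ := sl2Hom_in_H1 Z hK (g := g) (h ▸ hHom_mem_H1 Z hK _)
  exact pow_ne_neg_one Z hK a (hHom_inj Z hK (e.symm.trans h))

theorem invA_sq : invA Z * invA Z = 1 := by
  rw [invA, ← map_mul, neg_mul_neg, one_mul, map_one]

theorem invA_mem : invA Z ∈ G₁ := (Subgroup.mem_inf.1 (hHom_mem_H1 Z hK _)).1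

theorem hHom_cases (z : Fˣ) :
    ∃ g : SL(2, F), hHom Z z = sl2Hom Z hK g ∨ hHom Z z = invA Z * sl2Hom Z hK g := by
  have key : ∀ w : Fˣ, ∃ g : SL(2, F), hHom Z (w ^ (3 * 3 ^ m + 1)) = sl2Hom Z hK g := by
    intro w
    let g : SL(2, F) := ⟨!![(w : F), 0; 0, (w : F)⁻¹], by simp [Matrix.det_fin_two_of]⟩
    have h10 : g 1 0 = 0 := rfl
    have h00 : g 0 0 = w := rfl
    have h01 : g 0 1 = 0 := rfl
    refine ⟨g, ?_⟩
    rw [sl2Hom, ReeSL2.hom_of_zero _ h10, h00, h01, zero_div, ReeSL2.x_zero (rankRel Z hK), mul_one,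
      hd_eq_tor Z hK w.ne_zero, Units.mk0_val]
  obtain ⟨u, hu | hu⟩ := eq_pow_or_neg Z hK z
  · obtain ⟨g, hg⟩ := key u
    exact ⟨g, Or.inl (hu ▸ hg)⟩
  · obtain ⟨g, hg⟩ := key u
    refine ⟨g, Or.inr ?_⟩
    rw [← hg, invA, ← map_mul, hu]
    simp

theorem B1_cases {b : ↥(chevG2.group F)} (hb : b ∈ (𝔻).B1) (hc : Commute (invA Z) b) :
    ∃ g : SL(2, F), b = sl2Hom Z hK g ∨ b = invA Z * sl2Hom Z hK g := by
  obtain ⟨u, hu, h, hh, rfl⟩ := (𝔻).exists_U1_H1 (MT.shapeR K) ((gens Z hK).longest long_ok) hb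
  obtain ⟨z, rfl⟩ := exists_hHom Z hK hh
  have hcu : Commute (invA Z) u := by
    have h1 : Commute (invA Z) (hHom Z z) := by
      show hHom Z (-1) * hHom Z z = hHom Z z * hHom Z (-1)
      rw [← map_mul, ← map_mul, mul_comm]
    simpa using hc.mul_right h1.inv_right
  obtain ⟨t, r, v, rfl⟩ := (mem_U1_iff Z hK).1 hu
  obtain ⟨ht, -, hv⟩ := (commute_wordU_iff Z hK).1 hcu
  have hl : lam Z (-1) ≠ 1 := by
    rw [lam_neg_one Z hK]
    exact fun e => two_ne Z hK (by simpa using congrArg Units.val e)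
  obtain rfl := ht.resolve_right hl
  obtain rfl := hv.resolve_right hl
  have e1 : sl2Hom Z hK (ReeSL2.upper r) = wordU K m 0 r 0 := by
    rw [sl2Hom, ReeSL2.hom_upper, rx_eq_wordU Z hK]
  obtain ⟨g, hg | hg⟩ := hHom_cases Z hK z
  · exact ⟨ReeSL2.upper r * g, Or.inl (by rw [map_mul, e1, hg])⟩
  · refine ⟨ReeSL2.upper r * g, Or.inr ?_⟩
    rw [map_mul, e1, hg, ← mul_assoc, ← hcu.eq, mul_assoc]

/-- The centraliser of the involution. -/
theorem centralizer_cases {x : ↥(chevG2.group F)} (hx : x ∈ G₁) (hc : Commute (invA Z) x) :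
    ∃ g : SL(2, F), x = sl2Hom Z hK g ∨ x = invA Z * sl2Hom Z hK g := by
  rcases mem_B1_or_bigCell Z hK hx with h | ⟨b, hb, u, hu, rfl⟩
  · exact B1_cases Z hK h hc
  · have hn : Commute (invA Z) ((𝔻).nJ 0) := by
      rw [nJ_eq_nw Z hK]; exact invA_commute_nw Z hK _
    have hab : invA Z * b * (invA Z)⁻¹ ∈ (𝔻).B1 :=
      mul_mem (mul_mem ((𝔻).H1_le_B1 (hHom_mem_H1 Z hK _)) hb)
        (inv_mem ((𝔻).H1_le_B1 (hHom_mem_H1 Z hK _)))
    have hau : invA Z * u * (invA Z)⁻¹ ∈ (𝔻).U1 :=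
      B1_conj_U1 Z hK ((𝔻).H1_le_B1 (hHom_mem_H1 Z hK _)) hu
    have e : invA Z * b * (invA Z)⁻¹ * (𝔻).nJ 0 * (invA Z * u * (invA Z)⁻¹) =
        b * (𝔻).nJ 0 * u := by
      calc invA Z * b * (invA Z)⁻¹ * (𝔻).nJ 0 * (invA Z * u * (invA Z)⁻¹)
          = invA Z * b * ((invA Z)⁻¹ * ((𝔻).nJ 0 * invA Z)) * u * (invA Z)⁻¹ := by group
        _ = invA Z * (b * (𝔻).nJ 0 * u) * (invA Z)⁻¹ := by
          rw [← hn.eq]; group
        _ = _ := by rw [hc.eq, mul_inv_cancel_right]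
    obtain ⟨eb, eu⟩ := bigCell_unique Z hK hab hb hau hu e
    have hcb : Commute (invA Z) b := mul_inv_eq_iff_eq_mul.1 eb
    have hcu : Commute (invA Z) u := mul_inv_eq_iff_eq_mul.1 eu
    obtain ⟨g, hg⟩ := B1_cases Z hK hb hcb
    obtain ⟨g', hg'⟩ := B1_cases Z hK ((𝔻).U1_le_B1 hu) hcu
    have hw : (𝔻).nJ 0 = sl2Hom Z hK ReeSL2.weyl := by
      rw [nJ_eq_nw Z hK, sl2Hom, ReeSL2.hom_weyl]
    have hcm : ∀ g, Commute (invA Z) (sl2Hom Z hK g) := fun g => (sl2Hom_mem Z hK g).2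
    have ha2 := invA_sq Z hK
    refine ⟨g * ReeSL2.weyl * g', ?_⟩
    rw [map_mul, map_mul, ← hw]
    rcases hg with rfl | rfl <;> rcases hg' with rfl | rfl
    · exact Or.inl rfl
    · refine Or.inr ?_
      rw [← mul_assoc _ (invA Z) _, ← ((hcm g).mul_right hn).eq]
      simp only [mul_assoc]
    · exact Or.inr (by simp only [mul_assoc])
    · refine Or.inl ?_
      rw [mul_assoc (invA Z) (sl2Hom Z hK g), ← mul_assoc _ (invA Z) _,
        mul_assoc (invA Z) _ (invA Z), ← ((hcm g).mul_right hn).eq, ← mul_assoc (invA Z), ha2, one_mul]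

/-- the group of order two acting through the involution -/
noncomputable def flip2 {G : Type*} [Group G] (a : G) (ha : a * a = 1) :
    Multiplicative (ZMod 2) →* G :=
  MonoidHom.mk' (fun e => if e = 1 then 1 else a) fun e e' => by
    rcases two_cases e with rfl | rfl <;> rcases two_cases e' with rfl | rfl
    · simp
    · simp
    · simp
    · rw [if_pos (by decide), if_neg (by decide), ha]

omit Z hK in
theorem flip2_apply {G : Type*} [Group G] (a : G) (ha : a * a = 1) :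
    flip2 a ha (Multiplicative.ofAdd 1) = a :=
  if_neg (t := (1 : G)) (show (Multiplicative.ofAdd (1 : ZMod 2)) ≠ 1 by decide)

end Cfsg.Agent.Twisted.TypeG2
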