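import Cfsg.Agent.Lib.Ree.Elements

/-!
The stabilisers of three points in the action of the small Ree group on the cosets of `B`.
-/

set_option autoImplicit false
set_option linter.unusedSectionVars false

namespace Cfsg.Agent.Twisted.TypeG2

open ChevGroup ChevIsogeny Cfsg.Lie

variable {F : Type*} [Field F] [Fintype F] {m : ℕ} {K : Rels chevG2 F}

variable (Z : Frame (T := MT) K PP (3 ^ m) fd) (hK : Fintype.card F = 3 ^ (2 * m + 1))

set_option quotPrecheck false in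
local notation "G₁" => genG MT K (g2Words F (3 ^ m))

set_option quotPrecheck false in
local notation "𝔻" => (gens Z hK).data

include Z hK

theorem nJ_sq_H1 : (𝔻).nJ 0 * (𝔻).nJ 0 ∈ (𝔻).H1 :=
  (𝔻).nJ_sq_mem 0 ((gens Z hK).split.invol 0)

/-- The two-point stabiliser is the torus. -/
theorem mem_H1_of_conj {g : ↥(chevG2.group F)} (hg : g ∈ (𝔻).B1)
    (hn : ((𝔻).nJ 0)⁻¹ * g * (𝔻).nJ 0 ∈ (𝔻).B1) : g ∈ (𝔻).H1 := by
  obtain ⟨u, hu, h, hh, rfl⟩ := (𝔻).exists_U1_H1 (MT.shapeR K) ((gens Z hK).longest long_ok) hg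
  have h2 := (𝔻).H1_le_B1 (nJ_sq_H1 Z hK)
  have h3 : (𝔻).nJ 0 * (u * h) * ((𝔻).nJ 0)⁻¹ ∈ (𝔻).B1 := by
    have := mul_mem (mul_mem h2 hn) (inv_mem h2)
    convert this using 1
    group
  have h4 : (𝔻).nJ 0 * u * ((𝔻).nJ 0)⁻¹ ∈ (𝔻).B1 := by
    have := mul_mem h3 (inv_mem ((𝔻).H1_le_B1 ((𝔻).nJ_conj_H1 0 hh)))
    convert this using 1
    group
  rw [eq_one_of_nJ_conj Z hK hu h4, one_mul]
  exact hh

/-- An element of the torus fixing the coset `v n B` commutes with `v`. -/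
theorem commute_of_fix {h v : ↥(chevG2.group F)} (hh : h ∈ (𝔻).H1) (hv : v ∈ (𝔻).U1)
    (hfix : (v * (𝔻).nJ 0)⁻¹ * h * (v * (𝔻).nJ 0) ∈ (𝔻).B1) : Commute h v := by
  have h1 : v⁻¹ * h * v ∈ (𝔻).B1 :=
    mul_mem (mul_mem (inv_mem ((𝔻).U1_le_B1 hv)) ((𝔻).H1_le_B1 hh)) ((𝔻).U1_le_B1 hv)
  have h2 : v⁻¹ * h * v ∈ (𝔻).H1 := mem_H1_of_conj Z hK h1 (by convert hfix using 1; group)
  have h3 : h⁻¹ * v⁻¹ * h * v ∈ (𝔻).U1 := by
    refine mul_mem ?_ hv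
    have := B1_conj_U1 Z hK (inv_mem ((𝔻).H1_le_B1 hh)) (inv_mem hv)
    convert this using 1
    group
  have h4 : h⁻¹ * v⁻¹ * h * v = 1 := (MT.shapeR K).U_inter_H (Subgroup.mem_inf.1 h3).2
    (Subgroup.mem_inf.1 (show h⁻¹ * v⁻¹ * h * v ∈ (𝔻).H1 by
      convert mul_mem (inv_mem hh) h2 using 1; group)).2
  show h * v = v * h
  calc h * v = v * h * (h⁻¹ * v⁻¹ * h * v) := by group
    _ = v * h := by rw [h4, mul_one]

theorem B_subgroupOf : ((chevG2.borelSubgroup F ⊓ twistedG2 F (3 ^ m))).subgroupOf (twistedG2 F (3 ^ m)) =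
    (((𝔻).B1).subgroupOf G₁).map (genEquiv MT K (g2Words F (3 ^ m))).toMonoidHom := by
  show ((chevG2.borelSubgroup F ⊓ chevG2.genSubgroup F (g2Words F (3 ^ m)))).subgroupOf
    (chevG2.genSubgroup F (g2Words F (3 ^ m))) = _
  rw [subgroupOf_map (g2Words F (3 ^ m)) (MT.B_map K), inf_comm]
  rfl

omit Z hK in
theorem mem_stabilizer_quot {G : Type*} [Group G] (B : Subgroup G) (a g : G) :
    g ∈ MulAction.stabilizer G (a : G ⧸ B) ↔ a⁻¹ * g * a ∈ B := by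
  rw [MulAction.mem_stabilizer_iff, MulAction.Quotient.smul_coe, smul_eq_mul, eq_comm,
    QuotientGroup.eq, mul_assoc]

omit Z hK in
theorem map_mem_iff {G H : Type*} [Group G] [Group H] (e : G ≃* H) (B : Subgroup G) (g : G) :
    e g ∈ B.map e.toMonoidHom ↔ g ∈ B := Subgroup.mem_map_iff_mem e.injective

theorem stab_three : (∀ x y z : ↥G₁ ⧸ ((𝔻).B1).subgroupOf G₁, x ≠ y → x ≠ z → y ≠ z →
      Nat.card ↥(MulAction.stabilizer ↥G₁ x ⊓ MulAction.stabilizer ↥G₁ y ⊓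
        MulAction.stabilizer ↥G₁ z) ≤ 2) ∧
    ∃ x y z : ↥G₁ ⧸ ((𝔻).B1).subgroupOf G₁, x ≠ y ∧ x ≠ z ∧ y ≠ z ∧
      Nat.card ↥(MulAction.stabilizer ↥G₁ x ⊓ MulAction.stabilizer ↥G₁ y ⊓
        MulAction.stabilizer ↥G₁ z) = 2 := by
  have hne : (-1 : Fˣ) ≠ 1 := fun h => two_ne Z hK (by simpa using congrArg Units.val h)
  have hsq : ∀ w : Fˣ, w ^ 2 = 1 → w = 1 ∨ w = -1 := fun w hw => by
    rcases mul_self_eq_one_iff.1 (show (w : F) * w = 1 by
      rw [← Units.val_mul, ← pow_two, hw, Units.val_one]) with h | h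
    · exact Or.inl (Units.ext h)
    · exact Or.inr (Units.ext (by simpa using h))
  set B' := ((𝔻).B1).subgroupOf G₁ with hB'
  have hcoe : ∀ a b : ↥G₁, (a : ↥G₁ ⧸ B') = b ↔
      (a : ↥(chevG2.group F))⁻¹ * b ∈ (𝔻).B1 := fun a b => QuotientGroup.eq
  have hst : ∀ a g : ↥G₁, g ∈ MulAction.stabilizer ↥G₁ (a : ↥G₁ ⧸ B') ↔
      (a : ↥(chevG2.group F))⁻¹ * g * a ∈ (𝔻).B1 := fun a g => mem_stabilizer_quot B' a g
  constructor
  · rintro ⟨a⟩ ⟨b⟩ ⟨c⟩ hab hac hbc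
    change (a : ↥G₁ ⧸ B') ≠ b at hab
    change (a : ↥G₁ ⧸ B') ≠ c at hac
    change (b : ↥G₁ ⧸ B') ≠ c at hbc
    rw [Ne, hcoe] at hab hac hbc
    rcases mem_B1_or_bigCell Z hK (g := (a : ↥(chevG2.group F))⁻¹ * b)
        (mul_mem (inv_mem a.2) b.2) with h | ⟨p, hp, u, hu, hpu⟩
    · exact absurd h hab
    rcases mem_B1_or_bigCell Z hK (g := p⁻¹ * ((a : ↥(chevG2.group F))⁻¹ * c))
        (mul_mem (inv_mem (Subgroup.mem_inf.1 hp).1) (mul_mem (inv_mem a.2) c.2))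
      with h | ⟨q, hq, w, hw, hqw⟩
    · exact absurd (by simpa using mul_mem hp h) hac
    obtain ⟨v, hv, h, hh, rfl⟩ :=
      (𝔻).exists_U1_H1 (MT.shapeR K) ((gens Z hK).longest long_ok) hq
    have hnh : ((𝔻).nJ 0)⁻¹ * h * (𝔻).nJ 0 ∈ (𝔻).B1 :=
      (𝔻).H1_le_B1 ((𝔻).nJ_inv_conj_H1 0 hh)
    have hb : (b : ↥(chevG2.group F)) = a * p * (𝔻).nJ 0 * u := by
      calc (b : ↥(chevG2.group F)) = a * ((a : ↥(chevG2.group F))⁻¹ * b) := by group
        _ = _ := by rw [hpu]; group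
    have hc : (c : ↥(chevG2.group F)) =
        a * p * v * (𝔻).nJ 0 * (((𝔻).nJ 0)⁻¹ * h * (𝔻).nJ 0 * w) := by
      calc (c : ↥(chevG2.group F))
          = a * p * (p⁻¹ * ((a : ↥(chevG2.group F))⁻¹ * c)) := by group
        _ = _ := by rw [hqw]; group
    have hv1 : v ≠ 1 := by
      rintro rfl
      refine hbc ?_
      rw [hb, hc]
      have := mul_mem (inv_mem ((𝔻).U1_le_B1 hu)) (mul_mem hnh ((𝔻).U1_le_B1 hw))
      convert this using 1
      group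
    have key : ∀ g : ↥(MulAction.stabilizer ↥G₁ (a : ↥G₁ ⧸ B') ⊓
        MulAction.stabilizer ↥G₁ (b : ↥G₁ ⧸ B') ⊓ MulAction.stabilizer ↥G₁ (c : ↥G₁ ⧸ B')),
        ∃ z : {z : Fˣ // z ^ 2 = 1},
          ((g.1 : ↥G₁) : ↥(chevG2.group F)) = a * p * hHom Z z.1 * (a * p)⁻¹ := by
      rintro ⟨g, hg⟩
      rw [Subgroup.mem_inf, Subgroup.mem_inf, hst, hst, hst] at hg
      obtain ⟨⟨ga, gb⟩, gc⟩ := hg
      set k := ((a : ↥(chevG2.group F)) * p)⁻¹ * g * (a * p) with hk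
      have k1 : k ∈ (𝔻).B1 := by
        have := mul_mem (mul_mem (inv_mem hp) ga) hp
        convert this using 1
        rw [hk]; group
      have k2 : ((𝔻).nJ 0)⁻¹ * k * (𝔻).nJ 0 ∈ (𝔻).B1 := by
        rw [hb] at gb
        have := mul_mem (mul_mem ((𝔻).U1_le_B1 hu) gb) (inv_mem ((𝔻).U1_le_B1 hu))
        convert this using 1
        rw [hk]; group
      have k3 := mem_H1_of_conj Z hK k1 k2
      have k4 : (v * (𝔻).nJ 0)⁻¹ * k * (v * (𝔻).nJ 0) ∈ (𝔻).B1 := by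
        rw [hc] at gc
        have hy := mul_mem hnh ((𝔻).U1_le_B1 hw)
        have := mul_mem (mul_mem hy gc) (inv_mem hy)
        convert this using 1
        rw [hk]; group
      have k5 := commute_of_fix Z hK k3 hv k4
      obtain ⟨z, hz⟩ := exists_hHom Z hK k3
      refine ⟨⟨z, ?_⟩, ?_⟩
      · by_contra hz2
        exact hv1 (eq_one_of_commute Z hK hz2 hv (by rw [hz]; exact k5))
      · show (g : ↥(chevG2.group F)) = _
        rw [hz, hk]; group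
    choose f hf using key
    have hf' : Function.Injective f := fun g g' hgg => Subtype.ext (Subtype.ext
      ((hf g).trans (by rw [hgg, ← hf g'])))
    refine (Nat.card_le_card_of_injective f hf').trans ?_
    have : Finite ({1, -1} : Set Fˣ) := inferInstance
    refine (Nat.card_le_card_of_injective
      (fun z : {z : Fˣ // z ^ 2 = 1} => (⟨z.1, hsq z.1 z.2⟩ : ({1, -1} : Set Fˣ)))
      fun z z' h => Subtype.ext (congrArg (fun x : ({1, -1} : Set Fˣ) => x.1) h)).trans ?_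
    rw [Nat.card_coe_set_eq, Set.ncard_pair hne.symm]
  · set v := wordU K m 0 1 0 with hv
    have hvU : v ∈ (𝔻).U1 := (mem_U1_iff Z hK).2 ⟨0, 1, 0, rfl⟩
    have hv1 : v ≠ 1 := fun h => one_ne_zero ((wordU_eq_one_iff Z hK).1 h).2.1
    let n' : ↥G₁ := ⟨(𝔻).nJ 0, (𝔻).nJ_mem 0⟩
    let v' : ↥G₁ := ⟨v, (Subgroup.mem_inf.1 hvU).1⟩
    refine ⟨((1 : ↥G₁) : ↥G₁ ⧸ B'), (n' : ↥G₁ ⧸ B'), ((v' * n' : ↥G₁) : ↥G₁ ⧸ B'), ?_, ?_, ?_, ?_⟩
    · rw [Ne, hcoe]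
      show ¬ (1 : ↥(chevG2.group F))⁻¹ * (𝔻).nJ 0 ∈ _
      simpa using nJ_notMem_B1 Z hK
    · rw [Ne, hcoe]
      show ¬ (1 : ↥(chevG2.group F))⁻¹ * (v * (𝔻).nJ 0) ∈ _
      intro h
      refine nJ_notMem_B1 Z hK ?_
      simpa using mul_mem (inv_mem ((𝔻).U1_le_B1 hvU)) (by simpa using h : v * (𝔻).nJ 0 ∈ (𝔻).B1)
    · rw [Ne, hcoe]
      show ¬ ((𝔻).nJ 0)⁻¹ * (v * (𝔻).nJ 0) ∈ _
      intro h
      refine hv1 ((MT.shapeR K).U_inter_H (Subgroup.mem_inf.1 hvU).2 ?_)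
      exact (Subgroup.mem_inf.1 (mem_H1_of_conj Z hK ((𝔻).U1_le_B1 hvU)
        (by simpa [mul_assoc] using h))).2
    · rw [Nat.card_eq_two_iff]
      have hmem : ∀ z : Fˣ, z ^ 2 = 1 →
          (⟨hHom Z z, (Subgroup.mem_inf.1 (hHom_mem_H1 Z hK z)).1⟩ : ↥G₁) ∈
            MulAction.stabilizer ↥G₁ ((1 : ↥G₁) : ↥G₁ ⧸ B') ⊓
            MulAction.stabilizer ↥G₁ (n' : ↥G₁ ⧸ B') ⊓
            MulAction.stabilizer ↥G₁ ((v' * n' : ↥G₁) : ↥G₁ ⧸ B') := by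
        intro z hz
        have hH := hHom_mem_H1 Z hK z
        rw [Subgroup.mem_inf, Subgroup.mem_inf, hst, hst, hst]
        refine ⟨⟨?_, (𝔻).H1_le_B1 ((𝔻).nJ_inv_conj_H1 0 hH)⟩, ?_⟩
        · show (1 : ↥(chevG2.group F))⁻¹ * hHom Z z * 1 ∈ _
          simpa using (𝔻).H1_le_B1 hH
        · show (v * (𝔻).nJ 0)⁻¹ * hHom Z z * (v * (𝔻).nJ 0) ∈ _
          have hc : Commute (hHom Z z) v := (commute_wordU_iff Z hK).2
            ⟨Or.inl rfl, Or.inr ((lam_sq_eq_one_iff Z hK).2 hz), Or.inl rfl⟩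
          have e : (v * (𝔻).nJ 0)⁻¹ * hHom Z z * (v * (𝔻).nJ 0) =
              ((𝔻).nJ 0)⁻¹ * hHom Z z * (𝔻).nJ 0 := by
            calc (v * (𝔻).nJ 0)⁻¹ * hHom Z z * (v * (𝔻).nJ 0)
                = ((𝔻).nJ 0)⁻¹ * (v⁻¹ * (hHom Z z * v)) * (𝔻).nJ 0 := by group
              _ = _ := by rw [hc.eq]; group
          rw [e]
          exact (𝔻).H1_le_B1 ((𝔻).nJ_inv_conj_H1 0 hH)
      refine ⟨⟨_, hmem 1 (one_pow 2)⟩, ⟨_, hmem (-1) (by simp)⟩, fun h => hne ?_, ?_⟩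
      · exact (hHom_inj Z hK (congrArg (fun g => ((g.1 : ↥G₁) : ↥(chevG2.group F))) h)).symm
      · refine Set.eq_univ_of_forall ?_
        rintro ⟨g, hg⟩
        rw [Subgroup.mem_inf, Subgroup.mem_inf, hst, hst, hst] at hg
        obtain ⟨⟨g1, g2⟩, g3⟩ := hg
        have k1 : (g : ↥(chevG2.group F)) ∈ (𝔻).B1 := by simpa using g1
        have k2 := mem_H1_of_conj Z hK k1 g2
        have k3 := commute_of_fix Z hK k2 hvU g3
        obtain ⟨z, hz⟩ := exists_hHom Z hK k2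
        have hz2 : z ^ 2 = 1 := by
          by_contra h2
          exact hv1 (eq_one_of_commute Z hK h2 hvU (by rw [hz]; exact k3))
        rcases hsq z hz2 with rfl | rfl
        · exact Or.inl (Subtype.ext (Subtype.ext hz.symm))
        · exact Or.inr (Subtype.ext (Subtype.ext hz.symm))

omit Z hK in
/-- The statement about stabilisers of three cosets moved along an isomorphism. -/
theorem stab_three_map {G H : Type*} [Group G] [Group H] (e : G ≃* H) (B : Subgroup G)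
    (B₂ : Subgroup H) (hB : B₂ = B.map e.toMonoidHom)
    (h : (∀ x y z : G ⧸ B, x ≠ y → x ≠ z → y ≠ z →
        Nat.card ↥(MulAction.stabilizer G x ⊓ MulAction.stabilizer G y ⊓ MulAction.stabilizer G z) ≤ 2) ∧
      ∃ x y z : G ⧸ B, x ≠ y ∧ x ≠ z ∧ y ≠ z ∧
        Nat.card ↥(MulAction.stabilizer G x ⊓ MulAction.stabilizer G y ⊓ MulAction.stabilizer G z) = 2) :
    (∀ x y z : H ⧸ B₂, x ≠ y → x ≠ z → y ≠ z →
        Nat.card ↥(MulAction.stabilizer H x ⊓ MulAction.stabilizer H y ⊓ MulAction.stabilizer H z) ≤ 2) ∧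
      ∃ x y z : H ⧸ B₂, x ≠ y ∧ x ≠ z ∧ y ≠ z ∧
        Nat.card ↥(MulAction.stabilizer H x ⊓ MulAction.stabilizer H y ⊓ MulAction.stabilizer H z) = 2 := by
  subst hB
  have hq : ∀ a b : G, ((e a : H) : H ⧸ B.map e.toMonoidHom) = (e b : H) ↔
      (a : G ⧸ B) = b := fun a b => by
    rw [QuotientGroup.eq, QuotientGroup.eq, ← map_inv, ← map_mul, map_mem_iff]
  have hs : ∀ a : G, MulAction.stabilizer H ((e a : H) : H ⧸ B.map e.toMonoidHom) =
      (MulAction.stabilizer G (a : G ⧸ B)).map e.toMonoidHom := fun a => by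
    ext k
    obtain ⟨g, rfl⟩ := e.surjective k
    rw [map_mem_iff, mem_stabilizer_quot, mem_stabilizer_quot, ← map_inv, ← map_mul, ← map_mul,
      map_mem_iff]
  have hc : ∀ a b c : G, Nat.card ↥(MulAction.stabilizer H ((e a : H) : H ⧸ B.map e.toMonoidHom) ⊓
      MulAction.stabilizer H ((e b : H) : H ⧸ B.map e.toMonoidHom) ⊓
      MulAction.stabilizer H ((e c : H) : H ⧸ B.map e.toMonoidHom)) =
      Nat.card ↥(MulAction.stabilizer G (a : G ⧸ B) ⊓ MulAction.stabilizer G (b : G ⧸ B) ⊓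
        MulAction.stabilizer G (c : G ⧸ B)) := fun a b c => by
    rw [hs, hs, hs, ← Subgroup.map_inf _ _ _ e.injective, ← Subgroup.map_inf _ _ _ e.injective]
    exact Subgroup.card_map_of_injective e.injective
  constructor
  · rintro ⟨x⟩ ⟨y⟩ ⟨z⟩ hxy hxz hyz
    obtain ⟨a, rfl⟩ := e.surjective x
    obtain ⟨b, rfl⟩ := e.surjective y
    obtain ⟨c, rfl⟩ := e.surjective z
    refine (hc a b c).trans_le ?_
    exact h.1 _ _ _ (fun h' => hxy ((hq a b).2 h')) (fun h' => hxz ((hq a c).2 h'))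
      (fun h' => hyz ((hq b c).2 h'))
  · obtain ⟨x, y, z, hxy, hxz, hyz, hcard⟩ := h.2
    induction x using QuotientGroup.induction_on with | _ a =>
    induction y using QuotientGroup.induction_on with | _ b =>
    induction z using QuotientGroup.induction_on with | _ c =>
    exact ⟨(e a : H), (e b : H), (e c : H), fun h' => hxy ((hq a b).1 h'),
      fun h' => hxz ((hq a c).1 h'), fun h' => hyz ((hq b c).1 h'), (hc a b c).trans hcard⟩

theorem stab_three_twisted :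
    (∀ x y z : ↥(twistedG2 F (3 ^ m)) ⧸ ((chevG2.borelSubgroup F ⊓ twistedG2 F (3 ^ m))).subgroupOf (twistedG2 F (3 ^ m)), x ≠ y → x ≠ z → y ≠ z →
        Nat.card ↥(MulAction.stabilizer ↥(twistedG2 F (3 ^ m)) x ⊓ MulAction.stabilizer ↥(twistedG2 F (3 ^ m)) y ⊓ MulAction.stabilizer ↥(twistedG2 F (3 ^ m)) z) ≤ 2) ∧
      ∃ x y z : ↥(twistedG2 F (3 ^ m)) ⧸ ((chevG2.borelSubgroup F ⊓ twistedG2 F (3 ^ m))).subgroupOf (twistedG2 F (3 ^ m)), x ≠ y ∧ x ≠ z ∧ y ≠ z ∧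
        Nat.card ↥(MulAction.stabilizer ↥(twistedG2 F (3 ^ m)) x ⊓ MulAction.stabilizer ↥(twistedG2 F (3 ^ m)) y ⊓ MulAction.stabilizer ↥(twistedG2 F (3 ^ m)) z) = 2 :=
  stab_three_map (genEquiv MT K (g2Words F (3 ^ m))) _ _ (B_subgroupOf Z hK) (stab_three Z hK)

end Cfsg.Agent.Twisted.TypeG2
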