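import Cfsg.Agent.Lib.Ree.SL2Hom
import Cfsg.Agent.Lib.Ree.Stab

/-!
The image of `SL(2, q)` in the small Ree group: the pieces from the orthogonal roots of the orbit.
-/

set_option autoImplicit false
set_option linter.unusedSectionVars false

namespace Cfsg.Agent.Twisted.TypeG2

open ChevGroup ChevIsogeny Cfsg.Lie

/-- conjugating a root element by the monomial element of its root, for the integers modulo `3` -/
theorem nr_word8 : wordEqB chevG2 (ChevCore.fast chevG2 ChevCore.packedG2) 3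
    [(8, 1), (3, -1), (8, 1), (8, 1), (8, -1), (3, 1), (8, -1)] [(3, -1)] = true := by
  decide +kernel

theorem nr_word10 : wordEqB chevG2 (ChevCore.fast chevG2 ChevCore.packedG2) 3
    [(10, 1), (1, -1), (10, 1), (10, 1), (10, -1), (1, 1), (10, -1)] [(1, -1)] = true := by
  decide +kernel

theorem refl_facts : (MT.S).actw (fd.reflWord 8) 8 = 3 ∧ (MT.S).actw (fd.reflWord 10) 10 = 1 ∧
    (MT.S).neg 8 = 3 ∧ (MT.S).neg 10 = 1 := by
  decide +kernel

variable {F : Type*} [Field F] [Fintype F] {m : ℕ} {K : Rels chevG2 F}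

variable (Z : Frame (T := MT) K PP (3 ^ m) fd) (hK : Fintype.card F = 3 ^ (2 * m + 1))

set_option quotPrecheck false in
local notation "G₁" => genG MT K (g2Words F (3 ^ m))

set_option quotPrecheck false in
local notation "𝔻" => (gens Z hK).data

variable (m K) in
/-- the root group of the image of `SL(2, q)` -/
def rx (u : F) : ↥(chevG2.group F) := (MT.rel K).x 8 (u ^ 3 ^ m) * (MT.rel K).x 10 u

variable (m K) in
/-- the opposite root group -/
def ry (u : F) : ↥(chevG2.group F) := (MT.rel K).x 3 (u ^ 3 ^ m) * (MT.rel K).x 1 u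

include Z hK

theorem rx_eq_wordU (u : F) : rx m K u = wordU K m 0 u 0 := by
  rw [← (og_eq Z hK u).1, rx]
  obtain ⟨⟨n8, -, n10, -⟩, -⟩ := nv_val (u ^ 3 ^ m) 0 u (0 : F)
  simp [prodX, n8, n10]

theorem rx_mem (u : F) : rx m K u ∈ (𝔻).U1 :=
  (mem_U1_iff Z hK).2 ⟨0, u, 0, rx_eq_wordU Z hK u⟩

theorem ry_mem (u : F) : ry m K u ∈ G₁ := by
  have h := wordV_mem Z (0 : F) (-u) 0
  obtain ⟨-, -, -, hz1, -, -⟩ := pow_facts hK
  rw [← (og_eq Z hK (-u)).2] at h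
  obtain ⟨-, n3, -, n1, -⟩ := nv_val (-((-u) ^ 3 ^ m)) 0 (- -u) (0 : F)
  simp only [prodX, List.map_cons, List.map_nil, List.prod_cons, List.prod_nil, mul_one, n3, n1] at h
  have e : -((-u) ^ 3 ^ m) = u ^ 3 ^ m := by
    rw [neg_pow u, show (-1 : F) ^ 3 ^ m = -1 by simpa using hz1 (-1), neg_one_mul, neg_neg]
  rw [e, neg_neg] at h
  exact h

theorem nr_conj_self (t : F) :
    (MT.rel K).nr 8 1 * (MT.rel K).x 8 t * ((MT.rel K).nr 8 1)⁻¹ = (MT.rel K).x 3 (-t) ∧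
      (MT.rel K).nr 10 1 * (MT.rel K).x 10 t * ((MT.rel K).nr 10 1)⁻¹ = (MT.rel K).x 1 (-t) := by
  obtain ⟨h3, -⟩ := pow_facts hK
  obtain ⟨a8, a10, g8, g10⟩ := refl_facts
  have e1 : ∀ (r : Fin MT.tab.n) (a : F), Model.mat ((MT.rel K).x r a) = chevG2.x F r.val a :=
    fun r a => MT.mat_xG K r a
  have key : ∀ (r r' : Fin MT.tab.n), (MT.S).actw (fd.reflWord r) r = r' →
      [r].Sublist MT.posList →
      (MT.rel K).nr r 1 * (MT.rel K).x r 1 * ((MT.rel K).nr r 1)⁻¹ = (MT.rel K).x r' (-1) →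
      ∀ t : F, (MT.rel K).nr r 1 * (MT.rel K).x r t * ((MT.rel K).nr r 1)⁻¹ =
        (MT.rel K).x r' (-t) := by
    intro r r' hr hsub h1 t
    obtain ⟨k, hk, he⟩ := (Z.nr_coset r).conj_x r
    rw [hr] at he
    have h2 : (MT.rel K).x r' (k + 1) = 1 := by
      rw [(MT.rel K).x_add, show (MT.rel K).x r' k = (MT.rel K).x r' (k * 1) by rw [mul_one], ← he,
        h1, ← (MT.rel K).x_add, neg_add_cancel, (MT.rel K).x_zero]
    have h3' : (MT.rel K).x r ((k + 1) / k) = 1 := by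
      have := he ((k + 1) / k)
      rw [mul_div_cancel₀ _ hk, h2] at this
      exact conj_eq_one_iff.1 this
    have h4 : prodX MT K [r] (fun _ => (k + 1) / k) = prodX MT K [r] (fun _ => (0 : F)) := by
      simp [prodX, h3', (MT.rel K).x_zero]
    have h5 := Z.prodX_inj hsub h4 r (by simp)
    rcases div_eq_zero_iff.1 h5 with h6 | h6
    · rw [he, show k = -1 by linear_combination h6, neg_one_mul]
    · exact absurd h6 hk
  refine ⟨key 8 3 a8 (by decide +kernel) ?_ t, key 10 1 a10 (by decide +kernel) ?_ t⟩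
  · apply Model.mat_inj
    have h := wordMat_eq_of_check ChevCore.goodG2 ChevCore.chkLinkG2 nr_word8 F
      (by exact_mod_cast h3)
    simp only [List.map_cons, List.map_nil, Int.cast_neg, Int.cast_one] at h
    simp only [RootRel.nr, nOf, g8, inv_one, mul_inv_rev, ← (MT.rel K).x_neg, neg_neg,
      Model.mat_mul, e1]
    simp only [ChevalleyDatum.wordMat, List.map_cons, List.map_nil, List.prod_cons, List.prod_nil,
      mul_one] at h
    simp only [mul_assoc] at h ⊢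
    exact h
  · apply Model.mat_inj
    have h := wordMat_eq_of_check ChevCore.goodG2 ChevCore.chkLinkG2 nr_word10 F
      (by exact_mod_cast h3)
    simp only [List.map_cons, List.map_nil, Int.cast_neg, Int.cast_one] at h
    simp only [RootRel.nr, nOf, g10, inv_one, mul_inv_rev, ← (MT.rel K).x_neg, neg_neg,
      Model.mat_mul, e1]
    simp only [ChevalleyDatum.wordMat, List.map_cons, List.map_nil, List.prod_cons, List.prod_nil,
      mul_one] at h
    simp only [mul_assoc] at h ⊢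
    exact h

theorem pair_commute (a b : F) :
    Commute ((MT.rel K).x 8 a) ((MT.rel K).x 10 b) ∧ Commute ((MT.rel K).x 8 a) ((MT.rel K).x 1 b) ∧
      Commute ((MT.rel K).x 3 a) ((MT.rel K).x 10 b) ∧ Commute ((MT.rel K).x 3 a) ((MT.rel K).x 1 b) :=
  ⟨Z.commute_x (by decide +kernel) a b, Z.commute_x (by decide +kernel) a b,
    Z.commute_x (by decide +kernel) a b, Z.commute_x (by decide +kernel) a b⟩

theorem nr_pair_commute (a b : F) : Commute ((MT.rel K).nr 8 a) ((MT.rel K).nr 10 b) :=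
  Z.nr_commute (by decide +kernel) a b

theorem nw_eq_nr (c : F) :
    ReeSL2.nw (rx m K) (ry m K) c = (MT.rel K).nr 8 (c ^ 3 ^ m) * (MT.rel K).nr 10 c := by
  obtain ⟨-, -, -, hz1, -, -⟩ := pow_facts hK
  obtain ⟨-, -, g8, g10⟩ := refl_facts
  have ei : (-c⁻¹) ^ 3 ^ m = -(c ^ 3 ^ m)⁻¹ := by
    rw [neg_pow c⁻¹, show (-1 : F) ^ 3 ^ m = -1 by simpa using hz1 (-1), neg_one_mul, inv_pow]
  simp only [ReeSL2.nw, rx, ry, RootRel.nr, nOf, g8, g10, ei]
  set A := (MT.rel K).x 8 (c ^ 3 ^ m) with hA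
  set B := (MT.rel K).x 3 (-(c ^ 3 ^ m)⁻¹) with hB
  set X := (MT.rel K).x 10 c with hX
  set Y := (MT.rel K).x 1 (-c⁻¹) with hY
  have c1 : Commute A X := (pair_commute Z hK _ _).1
  have c2 : Commute A Y := (pair_commute Z hK _ _).2.1
  have c3 : Commute B X := (pair_commute Z hK _ _).2.2.1
  calc A * X * (B * Y) * (A * X) = A * (X * B) * Y * A * X := by group
    _ = A * (B * X) * (Y * A) * X := by rw [← c3.eq]; group
    _ = A * (B * X) * (A * Y) * X := by rw [c2.eq]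
    _ = A * B * (X * A) * Y * X := by group
    _ = A * B * (A * X) * Y * X := by rw [c1.eq]
    _ = A * B * A * (X * Y * X) := by group

theorem hd_eq_hr (c : F) :
    ReeSL2.hd (rx m K) (ry m K) c = (MT.rel K).hr 8 (c ^ 3 ^ m) * (MT.rel K).hr 10 c := by
  obtain ⟨-, -, -, hz1, -, -⟩ := pow_facts hK
  rw [ReeSL2.hd, nw_eq_nr Z hK, nw_eq_nr Z hK, show (-1 : F) ^ 3 ^ m = -1 by simpa using hz1 (-1)]
  show _ = (MT.rel K).nr 8 _ * (MT.rel K).nr 8 (-1) * ((MT.rel K).nr 10 c * (MT.rel K).nr 10 (-1))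
  rw [mul_assoc, ← mul_assoc ((MT.rel K).nr 10 c), ← (nr_pair_commute Z hK (-1) c).eq]
  simp only [mul_assoc]

theorem hd_eq_tor {c : F} (hc : c ≠ 0) :
    ReeSL2.hd (rx m K) (ry m K) c = hHom Z (Units.mk0 c hc ^ (3 * 3 ^ m + 1)) := by
  obtain ⟨-, -, -, -, -, hper⟩ := pow_facts hK
  obtain ⟨u, rfl⟩ : ∃ u : Fˣ, (u : F) = c := ⟨Units.mk0 c hc, rfl⟩
  rw [Units.mk0_val, hd_eq_hr Z hK, hHom_apply, ← Units.val_pow_eq_pow_val, Z.hr_eq_tor torOk,
    Z.hr_eq_tor torOk, ← Z.tor_mul]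
  congr 1
  funext j
  have hfr : u ^ (3 * 3 ^ m * 3 ^ m) = u :=
    Units.ext (by rw [Units.val_pow_eq_pow_val]; exact hper _)
  match j with
  | 0 =>
    show (u ^ 3 ^ m) ^ (1 : ℤ) * u ^ (1 : ℤ) = (u ^ (3 * 3 ^ m + 1)) ^ 3 ^ m
    rw [zpow_one, zpow_one, ← pow_mul, add_mul, one_mul, pow_add, hfr, mul_comm]
  | 1 =>
    show (u ^ 3 ^ m) ^ (3 : ℤ) * u ^ (1 : ℤ) = u ^ (3 * 3 ^ m + 1)
    rw [zpow_one, zpow_ofNat, ← pow_mul, pow_succ, mul_comm (3 ^ m)]

theorem lam_hd {c : Fˣ} : lam Z (c ^ (3 * 3 ^ m + 1)) ^ (3 * 3 ^ m + 1) = c ^ 2 := by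
  have hfr : ∀ u : Fˣ, u ^ (3 * 3 ^ m * 3 ^ m) = u := fun u =>
    Units.ext (by rw [Units.val_pow_eq_pow_val]; exact frob Z hK _)
  have h0 : ((c ^ (3 * 3 ^ m + 1)) ^ 3 ^ m) = c * c ^ 3 ^ m := by
    rw [← pow_mul, add_mul, one_mul, pow_add, hfr]
  rw [lam_eq, h0, zpow_neg, mul_pow, inv_pow, inv_mul_eq_iff_eq_mul]
  simp only [zpow_ofNat]
  have e1 : ((c ^ (3 * 3 ^ m + 1)) ^ 2) ^ (3 * 3 ^ m + 1) =
      (c ^ (3 * 3 ^ m * 3 ^ m)) ^ 6 * c ^ (12 * 3 ^ m + 2) := by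
    rw [← pow_mul, ← pow_mul, ← pow_mul, ← pow_add]; ring_nf
  have e2 : ((c * c ^ 3 ^ m) ^ 3) ^ (3 * 3 ^ m + 1) * c ^ 2 =
      (c ^ (3 * 3 ^ m * 3 ^ m)) ^ 3 * c ^ (12 * 3 ^ m + 5) := by
    rw [← pow_succ', ← pow_mul, ← pow_mul, ← pow_mul, ← pow_add, ← pow_add]; ring_nf
  rw [e1, e2, hfr, ← pow_add, ← pow_add]
  ring_nf

theorem ry_conj (z : Fˣ) (t : F) :
    hHom Z z * ry m K t * (hHom Z z)⁻¹ =
      ry m K ((((lam Z z) ^ (3 * 3 ^ m + 1))⁻¹ : Fˣ) * t) := by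
  obtain ⟨k7, k8, -, k10, -⟩ := chi_cvec Z hK z
  have hv : ∀ r r' : Fin MT.tab.n, (∀ i : Fin MT.tab.l, fd.O.vec r' i = -fd.O.vec r i) →
      chi MT (cvec Z z) r' = (chi MT (cvec Z z) r)⁻¹ := by
    intro r r' h
    rw [Z.chi_eq torOk _ r', Z.chi_eq torOk _ r, ← Finset.prod_inv_distrib]
    exact Finset.prod_congr rfl fun i _ => by rw [h i, zpow_neg]
  have h3 := hv 8 3 (by decide +kernel)
  have h1 := hv 10 1 (by decide +kernel)
  rw [hHom_apply, ry]
  calc tor MT K (cvec Z z) * ((MT.rel K).x 3 (t ^ 3 ^ m) * (MT.rel K).x 1 t) *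
        (tor MT K (cvec Z z))⁻¹
      = (tor MT K (cvec Z z) * (MT.rel K).x 3 (t ^ 3 ^ m) * (tor MT K (cvec Z z))⁻¹) *
        (tor MT K (cvec Z z) * (MT.rel K).x 1 t * (tor MT K (cvec Z z))⁻¹) := by group
    _ = _ := by
      rw [Z.tor_conj, Z.tor_conj, h3, h1, k8, k10, ry, mul_pow, ← Units.val_pow_eq_pow_val, inv_pow]
      congr 3
      show ((lam Z z ^ (3 ^ m + 1))⁻¹ : Fˣ) = (_ : F)
      congr 2
      have hfr : lam Z z ^ (3 * 3 ^ m * 3 ^ m) = lam Z z :=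
        Units.ext (by rw [Units.val_pow_eq_pow_val]; exact frob Z hK _)
      show lam Z z ^ (3 ^ m + 1) = ((lam Z z) ^ (3 * 3 ^ m + 1)) ^ 3 ^ m
      rw [← pow_mul, add_mul, one_mul, pow_add _ (3 * 3 ^ m * 3 ^ m), hfr, pow_succ']

theorem rankRel : ReeSL2.RankRel (rx m K) (ry m K) where
  add s t := by
    obtain ⟨-, ha1, -, -, -, -⟩ := pow_facts hK
    rw [rx, rx, rx, ha1, (MT.rel K).x_add, (MT.rel K).x_add]
    calc (MT.rel K).x 8 (s ^ 3 ^ m) * (MT.rel K).x 8 (t ^ 3 ^ m) * ((MT.rel K).x 10 s * (MT.rel K).x 10 t)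
        = (MT.rel K).x 8 (s ^ 3 ^ m) * ((MT.rel K).x 8 (t ^ 3 ^ m) * (MT.rel K).x 10 s) *
            (MT.rel K).x 10 t := by group
      _ = _ := by rw [(pair_commute Z hK _ _).1.eq]; group
  hmul a b ha hb := by
    rw [hd_eq_tor Z hK ha, hd_eq_tor Z hK hb, hd_eq_tor Z hK (mul_ne_zero ha hb), ← map_mul,
      ← mul_pow]
    congr 2
    exact Units.ext rfl
  hx a t ha := by
    rw [hd_eq_tor Z hK ha, rx_eq_wordU Z hK, rx_eq_wordU Z hK, hHom_conj_wordU Z hK, mul_zero,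
      mul_zero, ← Units.val_pow_eq_pow_val, lam_hd Z hK, Units.val_pow_eq_pow_val, Units.val_mk0]
  hy a t ha := by
    rw [hd_eq_tor Z hK ha, ry_conj Z hK, lam_hd Z hK]
    congr 1
    rw [Units.val_inv_eq_inv_val, Units.val_pow_eq_pow_val, Units.val_mk0]
  nx t := by
    obtain ⟨-, -, -, hz1, -, -⟩ := pow_facts hK
    rw [nw_eq_nr Z hK, one_pow, rx, ry, neg_pow t, show (-1 : F) ^ 3 ^ m = -1 by simpa using hz1 (-1),
      neg_one_mul, ← (nr_conj_self Z hK (t ^ 3 ^ m)).1, ← (nr_conj_self Z hK t).2]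
    have c1 : Commute ((MT.rel K).nr 10 1) ((MT.rel K).x 8 (t ^ 3 ^ m)) := by
      show Commute ((MT.rel K).x 10 1 * (MT.rel K).x ((MT.S).neg 10) (-1⁻¹) * (MT.rel K).x 10 1) _
      rw [refl_facts.2.2.2]
      exact (((pair_commute Z hK _ _).1.symm).mul_left ((pair_commute Z hK _ _).2.1.symm)).mul_left
        (pair_commute Z hK _ _).1.symm
    have c2 : Commute ((MT.rel K).nr 10 1)
        ((MT.rel K).nr 8 1 * (MT.rel K).x 8 (t ^ 3 ^ m) * ((MT.rel K).nr 8 1)⁻¹) :=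
      (((nr_pair_commute Z hK 1 1).symm).mul_right c1).mul_right (nr_pair_commute Z hK 1 1).symm.inv_right
    set N := (MT.rel K).nr 8 1 with hN
    set M := (MT.rel K).nr 10 1 with hM
    calc N * M * ((MT.rel K).x 8 (t ^ 3 ^ m) * (MT.rel K).x 10 t) * (N * M)⁻¹
        = N * (M * (MT.rel K).x 8 (t ^ 3 ^ m)) * (MT.rel K).x 10 t * M⁻¹ * N⁻¹ := by group
      _ = N * (MT.rel K).x 8 (t ^ 3 ^ m) * N⁻¹ *
            (N * (M * (MT.rel K).x 10 t * M⁻¹) * N⁻¹) := by rw [c1.eq]; group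
      _ = _ := by
        congr 1
        rw [(nr_conj_self Z hK t).2]
        have c3 : Commute N ((MT.rel K).x 1 (-t)) := by
          show Commute ((MT.rel K).x 8 1 * (MT.rel K).x ((MT.S).neg 8) (-1⁻¹) * (MT.rel K).x 8 1) _
          rw [refl_facts.2.2.1]
          exact (((pair_commute Z hK _ _).2.1).mul_left ((pair_commute Z hK _ _).2.2.2)).mul_left
            (pair_commute Z hK _ _).2.1
        rw [c3.eq, mul_inv_cancel_right]

/-- The homomorphism from `SL(2, q)`. -/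
noncomputable def sl2Hom : Matrix.SpecialLinearGroup (Fin 2) F →* ↥(chevG2.group F) :=
  ReeSL2.hom (rankRel Z hK)

end Cfsg.Agent.Twisted.TypeG2
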