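import Mathlib.LinearAlgebra.Matrix.SpecialLinearGroup
import Mathlib.FieldTheory.IsAlgClosed.AlgebraicClosure
import Mathlib.RingTheory.IntegralDomain
import Mathlib.Tactic

/-!
The rotations of `SL(2, F)` when `-1` is not a square.
-/

set_option autoImplicit false
set_option linter.unusedSectionVars false

namespace Cfsg.Agent.ReeSL2

open Matrix
open scoped MatrixGroups

variable {F : Type*} [Field F]

theorem entry_mul (g h : SL(2, F)) (i j : Fin 2) :
    ((g * h : SL(2, F)) : Matrix (Fin 2) (Fin 2) F) i j = g i 0 * h 0 j + g i 1 * h 1 j := by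
  rw [Matrix.SpecialLinearGroup.coe_mul, Matrix.mul_apply, Fin.sum_univ_two]

/-- the rotations -/
def rot (F : Type*) [Field F] : Subgroup SL(2, F) where
  carrier := {g | g 1 1 = g 0 0 ∧ g 1 0 = -g 0 1}
  one_mem' := by simp
  mul_mem' := by
    rintro g h ⟨g1, g2⟩ ⟨h1, h2⟩
    simp only [Set.mem_ofPred_eq, entry_mul, g1, g2, h1, h2]
    constructor <;> ring
  inv_mem' := by
    rintro g ⟨g1, g2⟩
    simp only [Set.mem_ofPred_eq, Matrix.SpecialLinearGroup.coe_inv, Matrix.adjugate_fin_two,
      Matrix.of_apply, Matrix.cons_val', Matrix.cons_val_zero, Matrix.cons_val_one,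
      Matrix.empty_val', Matrix.cons_val_fin_one, g1, g2]
    simp

theorem mem_rot {g : SL(2, F)} : g ∈ rot F ↔ g 1 1 = g 0 0 ∧ g 1 0 = -g 0 1 := Iff.rfl

theorem rot_det {g : SL(2, F)} (hg : g ∈ rot F) : g 0 0 ^ 2 + g 0 1 ^ 2 = 1 := by
  have h := g.det_coe
  rw [Matrix.det_fin_two, hg.1, hg.2] at h
  linear_combination h

theorem rot_ext {g h : SL(2, F)} (hg : g ∈ rot F) (hh : h ∈ rot F) (h0 : g 0 0 = h 0 0)
    (h1 : g 0 1 = h 0 1) : g = h := by
  refine Matrix.SpecialLinearGroup.ext g h fun i j => ?_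
  fin_cases i <;> fin_cases j <;> simp [hg.1, hg.2, hh.1, hh.2, h0, h1]

theorem one_add_sq_ne (hns : ∀ x : F, x ^ 2 ≠ -1) (t : F) : 1 + t ^ 2 ≠ 0 := fun h =>
  hns t (by linear_combination h)

/-- the rational parametrisation -/
def rotOf (hns : ∀ x : F, x ^ 2 ≠ -1) : Option F → SL(2, F)
  | none => -1
  | some t => ⟨!![(1 - t ^ 2) / (1 + t ^ 2), 2 * t / (1 + t ^ 2);
      -(2 * t / (1 + t ^ 2)), (1 - t ^ 2) / (1 + t ^ 2)], by
      have h := one_add_sq_ne hns t
      rw [Matrix.det_fin_two_of]
      field_simp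
      ring⟩

theorem card_rot [Fintype F] (hns : ∀ x : F, x ^ 2 ≠ -1) (h2 : (2 : F) ≠ 0) :
    Nat.card (rot F) = Fintype.card F + 1 := by
  classical
  have hmem : ∀ o, rotOf hns o ∈ rot F := by
    intro o
    match o with
    | none => simp [rotOf, mem_rot]
    | some t => exact ⟨rfl, rfl⟩
  rw [← Fintype.card_option, ← Nat.card_eq_fintype_card]
  refine (Nat.card_congr (Equiv.ofBijective
    (fun o => (⟨rotOf hns o, hmem o⟩ : rot F)) ⟨?_, ?_⟩)).symm
  · intro o o' h
    have h00 : rotOf hns o 0 0 = rotOf hns o' 0 0 :=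
      congrArg (fun g : rot F => (g : SL(2, F)) 0 0) h
    have h01 : rotOf hns o 0 1 = rotOf hns o' 0 1 :=
      congrArg (fun g : rot F => (g : SL(2, F)) 0 1) h
    match o, o' with
    | none, none => rfl
    | none, some t =>
      exfalso
      have ht := one_add_sq_ne hns t
      simp [rotOf] at h00
      field_simp at h00
      exact h2 (by linear_combination -h00)
    | some t, none =>
      exfalso
      have ht := one_add_sq_ne hns t
      simp [rotOf] at h00
      field_simp at h00
      exact h2 (by linear_combination h00)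
    | some t, some t' =>
      have ht := one_add_sq_ne hns t
      have ht' := one_add_sq_ne hns t'
      simp [rotOf] at h00 h01
      have e1 : ∀ u : F, 1 + u ^ 2 ≠ 0 → 1 + (1 - u ^ 2) / (1 + u ^ 2) = 2 / (1 + u ^ 2) := fun u hu => by
        field_simp; ring
      have e2 : ∀ u : F, 1 + u ^ 2 ≠ 0 →
          u = (2 * u / (1 + u ^ 2)) / (1 + (1 - u ^ 2) / (1 + u ^ 2)) := fun u hu => by
        rw [e1 u hu]; field_simp
      rw [e2 t ht, e2 t' ht', h00, h01]
  · rintro ⟨g, hg⟩
    by_cases h : 1 + g 0 0 = 0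
    · refine ⟨none, Subtype.ext (rot_ext (hmem none) hg ?_ ?_)⟩
      · show (-1 : SL(2, F)) 0 0 = _
        simp only [Matrix.SpecialLinearGroup.coe_neg, Matrix.SpecialLinearGroup.coe_one,
          Matrix.neg_apply, Matrix.one_apply_eq]
        linear_combination -h
      · have hd := rot_det hg
        have : g 0 1 ^ 2 = 0 := by linear_combination hd - (g 0 0 - 1) * h
        show (-1 : SL(2, F)) 0 1 = _
        rw [pow_eq_zero_iff (by norm_num)] at this
        simp [this]
    · set t := g 0 1 / (1 + g 0 0) with ht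
      have hd := rot_det hg
      have hne := one_add_sq_ne hns t
      have e : (1 + t ^ 2) * (1 + g 0 0) = 2 := by
        rw [ht]; field_simp; linear_combination hd
      refine ⟨some t, Subtype.ext (rot_ext (hmem (some t)) hg ?_ ?_)⟩
      · show (1 - t ^ 2) / (1 + t ^ 2) = _
        rw [div_eq_iff hne]; linear_combination -e
      · show 2 * t / (1 + t ^ 2) = _
        rw [div_eq_iff hne]
        have e2 : t * (1 + g 0 0) = g 0 1 := div_mul_cancel₀ _ h
        linear_combination (1 + t ^ 2) * e2 - t * e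

theorem isCyclic_rot [Finite F] (hns : ∀ x : F, x ^ 2 ≠ -1) : IsCyclic (rot F) := by
  obtain ⟨z, hz⟩ := IsAlgClosed.exists_pow_nat_eq (-1 : AlgebraicClosure F) (n := 2) two_pos
  have : Finite (rot F) := inferInstance
  let f : rot F →* AlgebraicClosure F :=
    { toFun := fun g => algebraMap F _ ((g : SL(2, F)) 0 0) + algebraMap F _ ((g : SL(2, F)) 0 1) * z
      map_one' := by simp
      map_mul' := fun g h => by
        obtain ⟨g, hg⟩ := g
        obtain ⟨h, hh⟩ := h
        show algebraMap F _ ((g * h : SL(2, F)) 0 0) + algebraMap F _ ((g * h : SL(2, F)) 0 1) * z = _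
        simp only [entry_mul, hh.1, hh.2, map_add, map_mul, map_neg]
        linear_combination
          -(algebraMap F (AlgebraicClosure F) (g 0 1) * algebraMap F (AlgebraicClosure F) (h 0 1)) * hz }
  refine isCyclic_of_injective_ringHom f ?_
  intro g g' h
  obtain ⟨g, hg⟩ := g
  obtain ⟨g', hg'⟩ := g'
  change algebraMap F (AlgebraicClosure F) (g 0 0) + algebraMap F _ (g 0 1) * z =
    algebraMap F _ (g' 0 0) + algebraMap F _ (g' 0 1) * z at h
  by_cases hb : g 0 1 = g' 0 1
  · rw [hb] at h
    exact Subtype.ext (rot_ext hg hg' ((algebraMap F (AlgebraicClosure F)).injective (add_right_cancel h)) hb)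
  · exfalso
    refine hns ((g' 0 0 - g 0 0) / (g 0 1 - g' 0 1))
      ((algebraMap F (AlgebraicClosure F)).injective ?_)
    have hne : algebraMap F (AlgebraicClosure F) (g 0 1) - algebraMap F _ (g' 0 1) ≠ 0 := by
      rw [← map_sub, map_ne_zero]; exact sub_ne_zero.2 hb
    have e : z = (algebraMap F (AlgebraicClosure F) (g' 0 0) - algebraMap F _ (g 0 0)) /
        (algebraMap F _ (g 0 1) - algebraMap F _ (g' 0 1)) := by
      rw [eq_div_iff hne]; linear_combination h
    rw [map_pow, map_div₀, map_sub, map_sub, map_neg, map_one, ← e, hz]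

end Cfsg.Agent.ReeSL2
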