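import Mathlib.LinearAlgebra.Matrix.SpecialLinearGroup
import Mathlib.Tactic

/-!
A homomorphism from `SL(2, F)` out of two one-parameter families satisfying the rank one relations.
-/

set_option autoImplicit false
set_option linter.unusedSectionVars false

namespace Cfsg.Agent.ReeSL2

open Matrix
open scoped MatrixGroups

variable {F : Type*} [Field F] {G : Type*} [Group G]

/-- `x(c) y(-c⁻¹) x(c)` -/
def nw (x y : F → G) (c : F) : G := x c * y (-c⁻¹) * x c

/-- `n(c) n(-1)` -/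
def hd (x y : F → G) (c : F) : G := nw x y c * nw x y (-1)

/-- The rank one relations. -/
structure RankRel (x y : F → G) : Prop where
  add : ∀ s t, x (s + t) = x s * x t
  hmul : ∀ a b, a ≠ 0 → b ≠ 0 → hd x y (a * b) = hd x y a * hd x y b
  hx : ∀ a t, a ≠ 0 → hd x y a * x t * (hd x y a)⁻¹ = x (a ^ 2 * t)
  hy : ∀ a t, a ≠ 0 → hd x y a * y t * (hd x y a)⁻¹ = y ((a ^ 2)⁻¹ * t)
  nx : ∀ t, nw x y 1 * x t * (nw x y 1)⁻¹ = y (-t)

/-- The value of the homomorphism. -/
noncomputable def val (x y : F → G) (g : SL(2, F)) : G :=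
  open Classical in
  if (g : Matrix (Fin 2) (Fin 2) F) 1 0 = 0 then
    hd x y (g 0 0) * x (g 0 1 / g 0 0)
  else x (g 0 0 / g 1 0) * nw x y (-(g 1 0)⁻¹) * x (g 1 1 / g 1 0)

/-- the upper unitriangular element -/
def upper (t : F) : SL(2, F) := ⟨!![1, t; 0, 1], by simp [Matrix.det_fin_two_of]⟩

/-- the Weyl element -/
def weyl : SL(2, F) := ⟨!![0, 1; -1, 0], by simp [Matrix.det_fin_two_of]⟩

theorem upper_coe (t : F) :
    ((upper t : SL(2, F)) : Matrix (Fin 2) (Fin 2) F) = !![1, t; 0, 1] := rfl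

theorem weyl_coe : ((weyl : SL(2, F)) : Matrix (Fin 2) (Fin 2) F) = !![0, 1; -1, 0] := rfl

/-- Multiplicativity of the value on the left factor is closed under products. -/
def mulSet (x y : F → G) : Set (SL(2, F)) :=
  {g | ∀ g', val x y (g * g') = val x y g * val x y g'}

theorem mul_mem_mulSet {x y : F → G} {g h : SL(2, F)} (hg : g ∈ mulSet x y) (hh : h ∈ mulSet x y) :
    g * h ∈ mulSet x y := fun g' => by rw [mul_assoc, hg, hh, hg h, mul_assoc]

variable {x y : F → G} (hr : RankRel x y)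

include hr

theorem x_zero : x 0 = 1 := by
  have h := hr.add 0 0
  rw [add_zero] at h
  exact left_eq_mul.1 h

theorem x_neg (t : F) : x (-t) = (x t)⁻¹ := by
  apply eq_inv_of_mul_eq_one_left
  rw [← hr.add, neg_add_cancel, x_zero hr]

theorem y_eq (t : F) : y t = nw x y 1 * x (-t) * (nw x y 1)⁻¹ := by rw [hr.nx, neg_neg]

theorem y_neg (t : F) : y (-t) = (y t)⁻¹ := by
  rw [y_eq hr, y_eq hr t, x_neg hr]; group

theorem nw_inv (c : F) : (nw x y c)⁻¹ = nw x y (-c) := by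
  simp only [nw, _root_.mul_inv_rev, ← x_neg hr, ← y_neg hr, inv_neg, neg_neg, mul_assoc]

theorem hd_one : hd x y 1 = 1 := by rw [hd, ← nw_inv hr, mul_inv_cancel]

theorem nw_eq (c : F) : nw x y c = hd x y c * nw x y 1 := by
  rw [hd, ← nw_inv hr, inv_mul_cancel_right]

theorem hd_neg_one_eq : hd x y (-1) = (nw x y 1 * nw x y 1)⁻¹ := by
  rw [hd, ← nw_inv hr, _root_.mul_inv_rev]

theorem hd_neg_one_sq : hd x y (-1) * hd x y (-1) = 1 := by
  rw [← hr.hmul _ _ (neg_ne_zero.2 one_ne_zero) (neg_ne_zero.2 one_ne_zero), neg_one_mul, neg_neg,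
    hd_one hr]

theorem nw_sq : nw x y 1 * nw x y 1 = hd x y (-1) := by
  rw [← inv_eq_of_mul_eq_one_left (hd_neg_one_sq hr), hd_neg_one_eq hr, inv_inv]

theorem ny (t : F) : nw x y 1 * y t * (nw x y 1)⁻¹ = x (-t) := by
  rw [y_eq hr]
  calc nw x y 1 * (nw x y 1 * x (-t) * (nw x y 1)⁻¹) * (nw x y 1)⁻¹
      = (nw x y 1 * nw x y 1) * x (-t) * (nw x y 1 * nw x y 1)⁻¹ := by group
    _ = _ := by rw [nw_sq hr, hr.hx _ _ (neg_ne_zero.2 one_ne_zero)]; norm_num

/-- the two forms of the Weyl elements agree -/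
theorem nw_swap {q : F} (hq : q ≠ 0) : y (-q⁻¹) * x q * y (-q⁻¹) = nw x y q := by
  have cx : nw x y q * x q * (nw x y q)⁻¹ = y (-q⁻¹) := by
    rw [nw_eq hr q]
    calc hd x y q * nw x y 1 * x q * (hd x y q * nw x y 1)⁻¹
        = hd x y q * (nw x y 1 * x q * (nw x y 1)⁻¹) * (hd x y q)⁻¹ := by group
      _ = _ := by rw [hr.nx, hr.hy _ _ hq]; congr 1; field_simp
  have cy : nw x y q * y (-q⁻¹) * (nw x y q)⁻¹ = x q := by
    rw [nw_eq hr q]
    calc hd x y q * nw x y 1 * y (-q⁻¹) * (hd x y q * nw x y 1)⁻¹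
        = hd x y q * (nw x y 1 * y (-q⁻¹) * (nw x y 1)⁻¹) * (hd x y q)⁻¹ := by group
      _ = _ := by rw [ny hr, hr.hx _ _ hq]; congr 1; field_simp
  calc y (-q⁻¹) * x q * y (-q⁻¹)
      = nw x y q * x q * (nw x y q)⁻¹ * (nw x y q * y (-q⁻¹) * (nw x y q)⁻¹) *
          (nw x y q * x q * (nw x y q)⁻¹) := by rw [cx, cy]
    _ = nw x y q * (x q * y (-q⁻¹) * x q) * (nw x y q)⁻¹ := by group
    _ = _ := by rw [show x q * y (-q⁻¹) * x q = nw x y q from rfl, mul_inv_cancel_right]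

/-- multiplying a torus element by the Weyl element -/
theorem nw_mul_hd {a : F} (ha : a ≠ 0) : nw x y 1 * hd x y a = nw x y a⁻¹ := by
  have hna : nw x y 1 * nw x y a * (nw x y 1)⁻¹ = nw x y a⁻¹ := by
    have hs := nw_swap hr (inv_ne_zero ha)
    rw [inv_inv] at hs
    rw [← hs]
    calc nw x y 1 * (x a * y (-a⁻¹) * x a) * (nw x y 1)⁻¹
        = (nw x y 1 * x a * (nw x y 1)⁻¹) * (nw x y 1 * y (-a⁻¹) * (nw x y 1)⁻¹) *
            (nw x y 1 * x a * (nw x y 1)⁻¹) := by group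
      _ = _ := by rw [hr.nx, ny hr, neg_neg]
  rw [hd, ← nw_inv hr, ← hna]
  group

theorem val_of_zero {g : SL(2, F)} (h : g 1 0 = 0) :
    val x y g = hd x y (g 0 0) * x (g 0 1 / g 0 0) := if_pos h

theorem val_of_ne {g : SL(2, F)} (h : g 1 0 ≠ 0) :
    val x y g = x (g 0 0 / g 1 0) * nw x y (-(g 1 0)⁻¹) * x (g 1 1 / g 1 0) := if_neg h

theorem val_upper (t : F) : val x y (upper t) = x t := by
  simp [val, upper, hd_one hr]

theorem val_weyl : val x y (weyl : SL(2, F)) = nw x y 1 := by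
  simp [val, weyl, x_zero hr]

theorem det_rel (g : SL(2, F)) : g 0 0 * g 1 1 - g 0 1 * g 1 0 = 1 := by
  have := g.det_coe
  rwa [Matrix.det_fin_two] at this

theorem upper_mem (t : F) : (upper t : SL(2, F)) ∈ mulSet x y := by
  intro g
  rw [val_upper hr]
  have hdet := det_rel hr g
  have e00 : ((upper t : SL(2, F)) * g) 0 0 = g 0 0 + t * g 1 0 := by
    simp [upper_coe, SpecialLinearGroup.coe_mul, Matrix.mul_apply, Fin.sum_univ_two]
  have e01 : ((upper t : SL(2, F)) * g) 0 1 = g 0 1 + t * g 1 1 := by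
    simp [upper_coe, SpecialLinearGroup.coe_mul, Matrix.mul_apply, Fin.sum_univ_two]
  have e10 : ((upper t : SL(2, F)) * g) 1 0 = g 1 0 := by simp [upper_coe, SpecialLinearGroup.coe_mul, Matrix.mul_apply, Fin.sum_univ_two]
  have e11 : ((upper t : SL(2, F)) * g) 1 1 = g 1 1 := by simp [upper_coe, SpecialLinearGroup.coe_mul, Matrix.mul_apply, Fin.sum_univ_two]
  by_cases hc : g 1 0 = 0
  · rw [val_of_zero hr hc, val_of_zero hr (e10.trans hc), e00, e01, hc, mul_zero, add_zero]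
    rw [hc] at hdet
    have ha : g 0 0 ≠ 0 := fun h => by simp [h] at hdet
    have e : x t = hd x y (g 0 0) * x (t / g 0 0 ^ 2) * (hd x y (g 0 0))⁻¹ := by
      rw [hr.hx _ _ ha]; congr 1; field_simp
    rw [e, mul_assoc (hd x y (g 0 0) * x (t / g 0 0 ^ 2)), inv_mul_cancel_left,
      mul_assoc (hd x y (g 0 0)), ← hr.add]
    congr 2
    field_simp
    linear_combination t * hdet
  · rw [val_of_ne hr hc, val_of_ne hr (e10.symm ▸ hc), e00, e10, e11]
    rw [show (g 0 0 + t * g 1 0) / g 1 0 = t + g 0 0 / g 1 0 by field_simp; ring, hr.add]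
    group

theorem weyl_mem : (weyl : SL(2, F)) ∈ mulSet x y := by
  intro g
  rw [val_weyl hr]
  have hdet := det_rel hr g
  have e00 : ((weyl : SL(2, F)) * g) 0 0 = g 1 0 := by simp [weyl_coe, SpecialLinearGroup.coe_mul, Matrix.mul_apply, Fin.sum_univ_two]
  have e01 : ((weyl : SL(2, F)) * g) 0 1 = g 1 1 := by simp [weyl_coe, SpecialLinearGroup.coe_mul, Matrix.mul_apply, Fin.sum_univ_two]
  have e10 : ((weyl : SL(2, F)) * g) 1 0 = -g 0 0 := by simp [weyl_coe, SpecialLinearGroup.coe_mul, Matrix.mul_apply, Fin.sum_univ_two]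
  have e11 : ((weyl : SL(2, F)) * g) 1 1 = -g 0 1 := by simp [weyl_coe, SpecialLinearGroup.coe_mul, Matrix.mul_apply, Fin.sum_univ_two]
  obtain ⟨a, ea⟩ : ∃ a, g 0 0 = a := ⟨_, rfl⟩
  obtain ⟨b, eb⟩ : ∃ b, g 0 1 = b := ⟨_, rfl⟩
  obtain ⟨c, ec⟩ : ∃ c, g 1 0 = c := ⟨_, rfl⟩
  obtain ⟨d, ed⟩ : ∃ d, g 1 1 = d := ⟨_, rfl⟩
  rw [ea, eb, ec, ed] at hdet
  rw [ec] at e00
  rw [ed] at e01
  rw [ea] at e10
  rw [eb] at e11
  set n := nw x y 1 with hn
  by_cases hc : c = 0
  · have ha : a ≠ 0 := fun h => by simp [h, hc] at hdet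
    have ha' : ((weyl : SL(2, F)) * g) 1 0 ≠ 0 := by rw [e10]; exact neg_ne_zero.2 ha
    rw [val_of_zero hr (ec.trans hc), val_of_ne hr ha', e00, e10, e11, ea, eb]
    simp only [hc, zero_div, x_zero hr, one_mul]
    rw [← mul_assoc, hn, nw_mul_hd hr ha, inv_neg, neg_neg, neg_div_neg_eq]
  · by_cases ha : a = 0
    · have ha' : ((weyl : SL(2, F)) * g) 1 0 = 0 := by rw [e10, ha, neg_zero]
      rw [val_of_ne hr (g := g) (by rw [ec]; exact hc), val_of_zero hr ha', e00, e01, ea, ec, ed]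
      simp only [ha, zero_div, x_zero hr, one_mul]
      have hk : (-c⁻¹ : F) ≠ 0 := neg_ne_zero.2 (inv_ne_zero hc)
      rw [nw_eq hr (-c⁻¹), ← hn, ← mul_assoc, ← mul_assoc, hn, nw_mul_hd hr hk, inv_neg, inv_inv,
        nw_eq hr (-c), mul_assoc (hd x y (-c)), nw_sq hr,
        ← hr.hmul _ _ (neg_ne_zero.2 hc) (neg_ne_zero.2 one_ne_zero), neg_mul_neg, mul_one]
    · have ha' : ((weyl : SL(2, F)) * g) 1 0 ≠ 0 := by rw [e10]; exact neg_ne_zero.2 ha
      rw [val_of_ne hr (g := g) (by rw [ec]; exact hc), val_of_ne hr ha', e00, e10, e11, ea, ec, ed]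
      have hp : a / c ≠ 0 := div_ne_zero ha hc
      have e1 : n * x (a / c) = x (-(a / c)⁻¹) * nw x y (a / c)⁻¹ * x (-(a / c)⁻¹) * n := by
        have h1 := hr.nx (a / c)
        rw [← hn] at h1
        have h2 : y (-(a / c)) = x (-(a / c)⁻¹) * nw x y (a / c)⁻¹ * x (-(a / c)⁻¹) := by
          rw [nw, inv_inv, x_neg hr]; group
        rw [← h2, ← h1]; group
      have e2 : n * nw x y (-c⁻¹) = hd x y c := by
        have hk : (-c⁻¹ : F) ≠ 0 := neg_ne_zero.2 (inv_ne_zero hc)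
        rw [nw_eq hr (-c⁻¹), ← mul_assoc, hn, nw_mul_hd hr hk, inv_neg, inv_inv, nw_eq hr (-c),
          mul_assoc, nw_sq hr, ← hr.hmul _ _ (neg_ne_zero.2 hc) (neg_ne_zero.2 one_ne_zero),
          neg_mul_neg, mul_one]
      have e3 : x (-(a / c)⁻¹) * hd x y c = hd x y c * x (-(c / a) / c ^ 2) := by
        have h1 := hr.hx c (-(c / a) / c ^ 2) hc
        rw [show c ^ 2 * (-(c / a) / c ^ 2) = -(a / c)⁻¹ by field_simp] at h1
        rw [← h1]; group
      have e4 : nw x y (a / c)⁻¹ * hd x y c = nw x y a⁻¹ := by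
        rw [nw_eq hr (a / c)⁻¹, mul_assoc, nw_mul_hd hr hc, nw_eq hr c⁻¹, ← mul_assoc,
          ← hr.hmul _ _ (inv_ne_zero hp) (inv_ne_zero hc), ← nw_eq hr]
        congr 1
        field_simp
      calc x (c / -a) * nw x y (-(-a)⁻¹) * x (-b / -a)
          = x (-(a / c)⁻¹) * nw x y a⁻¹ * (x (-(c / a) / c ^ 2) * x (d / c)) := by
            rw [← hr.add]
            congr 2
            · congr 1; field_simp
            · congr 1; field_simp
            · field_simp
              first | linear_combination hdet | linear_combination -hdet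
        _ = x (-(a / c)⁻¹) * nw x y (a / c)⁻¹ * (hd x y c * x (-(c / a) / c ^ 2)) * x (d / c) := by
            rw [← e4]; simp only [mul_assoc]
        _ = (n * x (a / c)) * nw x y (-c⁻¹) * x (d / c) := by
            rw [← e3, e1, mul_assoc _ n, e2]; simp only [mul_assoc]
        _ = _ := by simp only [mul_assoc]

theorem mem_mulSet (g : SL(2, F)) : g ∈ mulSet x y := by
  have hbig : ∀ g : SL(2, F), g 1 0 ≠ 0 → g ∈ mulSet x y := by
    intro g hc
    have hdet := det_rel hr g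
    have e : g = upper (g 0 0 / g 1 0 + -(g 1 0)⁻¹) * weyl * upper (-g 1 0) * weyl * weyl * weyl *
        upper (g 1 1 / g 1 0 + -(g 1 0)⁻¹) := by
      apply Subtype.ext
      ext i j
      fin_cases i <;> fin_cases j <;>
        simp [upper_coe, weyl_coe, SpecialLinearGroup.coe_mul, Matrix.mul_apply, Fin.sum_univ_two] <;>
        field_simp <;> first | ring1 | linear_combination -hdet
    rw [e]
    exact mul_mem_mulSet (mul_mem_mulSet (mul_mem_mulSet (mul_mem_mulSet (mul_mem_mulSet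
      (mul_mem_mulSet (upper_mem hr _) (weyl_mem hr)) (upper_mem hr _)) (weyl_mem hr)) (weyl_mem hr))
      (weyl_mem hr)) (upper_mem hr _)
  by_cases hc : g 1 0 = 0
  · have hdet := det_rel hr g
    have h := hbig (weyl * g) (by
      intro h
      rw [hc] at hdet
      simp [weyl_coe, SpecialLinearGroup.coe_mul, Matrix.mul_apply, Fin.sum_univ_two] at h
      simp [h] at hdet)
    have e : g = weyl * weyl * weyl * (weyl * g) := by
      have h4 : (weyl : SL(2, F)) * weyl * weyl * weyl = 1 := by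
        apply Subtype.ext
        ext i j
        fin_cases i <;> fin_cases j <;> simp [weyl_coe, SpecialLinearGroup.coe_mul, Matrix.mul_apply, Fin.sum_univ_two]
      rw [← mul_assoc, h4, one_mul]
    rw [e]
    exact mul_mem_mulSet (mul_mem_mulSet (mul_mem_mulSet (weyl_mem hr) (weyl_mem hr)) (weyl_mem hr)) h
  · exact hbig g hc

/-- The homomorphism from `SL(2, F)`. -/
noncomputable def hom : SL(2, F) →* G :=
  MonoidHom.mk' (val x y) fun g g' => mem_mulSet hr g g'

theorem hom_upper (t : F) : hom hr (upper t) = x t := val_upper hr t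

theorem hom_weyl : hom hr weyl = nw x y 1 := val_weyl hr

theorem hom_of_zero {g : SL(2, F)} (h : g 1 0 = 0) :
    hom hr g = hd x y (g 0 0) * x (g 0 1 / g 0 0) := if_pos h

theorem hom_of_ne {g : SL(2, F)} (h : g 1 0 ≠ 0) :
    hom hr g = x (g 0 0 / g 1 0) * nw x y (-(g 1 0)⁻¹) * x (g 1 1 / g 1 0) := if_neg h

end Cfsg.Agent.ReeSL2
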