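import Cfsg.Agent.Lib.Ree.TorusResults
import Cfsg.Agent.Lib.Fitting.Minimal

/-!
The solvable subgroups of the small Ree group lie in the normalisers of Sylow `2`- and `3`-subgroups and of
the four tori.
-/

set_option autoImplicit false
set_option linter.unusedSectionVars false

namespace Cfsg.Agent.Twisted.TypeG2

open ChevGroup ChevIsogeny Cfsg.Lie
open scoped MatrixGroups Pointwise

section Abstract

variable {G : Type*} [Group G] [Finite G]

theorem sylow_smul_mem {p : ℕ} (P : Sylow p G) {g x : G} (hx : x ∈ P) :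
    g * x * g⁻¹ ∈ ((g • P : Sylow p G) : Subgroup G) := by
  rw [Sylow.coe_subgroup_smul]
  exact Subgroup.smul_mem_pointwise_smul x (MulAut.conj g) P.toSubgroup hx

/-- A subgroup with a nontrivial normal `3`-subgroup, when the Sylow `3`-subgroups meet trivially. -/
theorem local_three (h3 : ∀ P Q : Sylow 3 G, P ≠ Q → (P : Subgroup G) ⊓ (Q : Subgroup G) = ⊥)
    {S P₀ : Subgroup G} (hP : IsPGroup 3 P₀) (hne : P₀ ≠ ⊥) (hS : S ≤ Subgroup.normalizer (P₀ : Set G)) :
    ∃ P : Sylow 3 G, S ≤ Subgroup.normalizer ((P : Subgroup G) : Set G) := by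
  obtain ⟨P, hle⟩ := hP.exists_le_sylow
  refine ⟨P, fun g hg => ?_⟩
  refine Sylow.smul_eq_iff_mem_normalizer.1 ?_
  by_contra hgP
  obtain ⟨x, hx, hx1⟩ := (Subgroup.bot_or_exists_ne_one P₀).resolve_left hne
  have h := h3 _ _ hgP
  have hmem : g * x * g⁻¹ ∈ ((g • P : Sylow 3 G) : Subgroup G) ⊓ (P : Subgroup G) :=
    ⟨sylow_smul_mem P (hle hx), hle ((Subgroup.mem_normalizer_iff.1 (hS hg) x).1 hx)⟩
  rw [h, Subgroup.mem_bot, conj_eq_one_iff] at hmem
  exact hx1 hmem

/-- A subgroup with a nontrivial normal `p`-subgroup, when the Sylow `p`-subgroups lie in tori. -/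
theorem local_torus {p k n : ℕ} [Fact p.Prime] (D : TorusData G k n) (hpk : p ∣ k)
    (hcyc : ∀ P : Sylow p G, IsCyclic (P : Subgroup G))
    {S P₀ : Subgroup G} (hP : IsPGroup p P₀) (hne : P₀ ≠ ⊥) (hS : S ≤ Subgroup.normalizer (P₀ : Set G)) :
    ∃ A : Subgroup G, S ≤ Subgroup.normalizer (A : Set G) ∧ IsCyclic A ∧ Nat.card A = k := by
  obtain ⟨P, hle⟩ := hP.exists_le_sylow
  have := hcyc P
  have hpd : p ∣ Nat.card P₀ := by
    obtain ⟨j, hj⟩ := hP.exists_card_eq
    rcases j with _ | j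
    · exact absurd (Subgroup.eq_bot_of_card_eq _ (hj.trans (pow_zero p))) hne
    · exact hj ▸ dvd_pow_self p (Nat.succ_ne_zero j)
  obtain ⟨⟨y, hy⟩, hyp⟩ := exists_prime_orderOf_dvd_card' p hpd
  rw [Subgroup.orderOf_mk] at hyp
  have hy1 : y ≠ 1 := fun e => by rw [e, orderOf_one] at hyp; exact (Fact.out : p.Prime).one_lt.ne hyp
  obtain ⟨c, hc⟩ := D.exists_conj_map (Subgroup.zpowers y) (Subgroup.isCyclic_zpowers y)
    (by rw [Nat.card_zpowers, hyp]; exact hpk)
  let D' := D.map (MulAut.conj c⁻¹)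
  have hyA : Subgroup.zpowers y ≤ D'.A := by
    rw [Subgroup.zpowers_le]
    show y ∈ D.A.map (MulAut.conj c⁻¹).toMonoidHom
    exact ⟨_, hc (Subgroup.mem_map_of_mem _ (Subgroup.mem_zpowers y)), by simp [mul_assoc]⟩
  refine ⟨D'.A, ?_, D'.cyclic, D'.card⟩
  rw [← D'.normalizer_eq _ hyA (fun e => hy1 (Subgroup.zpowers_eq_bot.1 e))]
  intro g hg
  have heq : (Subgroup.zpowers y).map (MulAut.conj g).toMonoidHom = Subgroup.zpowers y := by
    refine eq_of_card_eq_of_le (T := (P : Subgroup G)) this ?_ (Subgroup.zpowers_le.2 (hle hy))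
      (Subgroup.card_map_of_injective (MulAut.conj g).injective)
    rw [MonoidHom.map_zpowers, Subgroup.zpowers_le]
    exact hle ((Subgroup.mem_normalizer_iff.1 (hS hg) y).1 hy)
  refine Subgroup.mem_normalizer_fintype fun x hx => ?_
  have := Subgroup.mem_map_of_mem (MulAut.conj g).toMonoidHom hx
  rw [heq] at this
  exact this

variable (h8 : ∀ P : Sylow 2 G, Nat.card P = 8)
  (hsq : ∀ P : Sylow 2 G, ∀ x ∈ P, x * x = 1)
  (h34 : ∀ y : G, orderOf y = 3 → ¬ 4 ∣ Nat.card ↥(Subgroup.centralizer {y}))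

include h8 hsq h34

theorem two_group_comm {E : Subgroup G} (hE : IsPGroup 2 E) {x y : G} (hx : x ∈ E) (hy : y ∈ E) :
    x * y = y * x := by
  obtain ⟨P, hle⟩ := hE.exists_le_sylow
  have h1 := hsq P _ (hle (mul_mem hx hy))
  calc x * y = (x * y)⁻¹ := (inv_eq_of_mul_eq_one_right h1).symm
    _ = y⁻¹ * x⁻¹ := mul_inv_rev x y
    _ = y * x := by
      rw [inv_eq_of_mul_eq_one_right (hsq P _ (hle hx)), inv_eq_of_mul_eq_one_right (hsq P _ (hle hy))]

/-- A subgroup whose largest normal `2`-subgroup contains its centraliser. -/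
theorem local_two {S : Subgroup G} {P₀ : Subgroup G} (hP : IsPGroup 2 P₀) (hPS : P₀ ≤ S)
    (hS : S ≤ Subgroup.normalizer (P₀ : Set G))
    (hC : ∀ x ∈ S, (∀ f ∈ P₀, f * x = x * f) → x ∈ P₀) :
    ∃ P : Sylow 2 G, S ≤ Subgroup.normalizer ((P : Subgroup G) : Set G) := by
  classical
  have := Fact.mk Nat.prime_two
  -- a `2`-group lies in the normaliser of a Sylow subgroup
  have htwo : IsPGroup 2 S → ∃ P : Sylow 2 G, S ≤ Subgroup.normalizer ((P : Subgroup G) : Set G) :=
    fun h => let ⟨P, hle⟩ := h.exists_le_sylow; ⟨P, hle.trans Subgroup.le_normalizer⟩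
  obtain ⟨P, hle⟩ := hP.exists_le_sylow
  have hd : Nat.card P₀ ∣ 2 ^ 3 := (Subgroup.card_dvd_of_le hle).trans (h8 P).dvd
  obtain ⟨j, hj, hcard⟩ := (Nat.dvd_prime_pow Nat.prime_two).1 hd
  interval_cases j
  · -- trivial
    refine htwo ?_
    have hP1 : P₀ = ⊥ := Subgroup.eq_bot_of_card_eq _ (by rw [hcard, pow_zero])
    refine hP.to_le fun x hx => hC x hx fun f hf => ?_
    rw [hP1, Subgroup.mem_bot] at hf
    rw [hf, one_mul, mul_one]
  · -- order two
    refine htwo (hP.to_le fun x hx => hC x hx fun f hf => ?_)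
    rcases eq_or_ne f 1 with rfl | hf1
    · rw [one_mul, mul_one]
    have hf' : x * f * x⁻¹ ∈ P₀ := (Subgroup.mem_normalizer_iff.1 (hS hx) f).1 hf
    have hf'1 : x * f * x⁻¹ ≠ 1 := fun e => hf1 (conj_eq_one_iff.1 e)
    rw [pow_one] at hcard
    obtain ⟨a, b, hab, huniv⟩ := Nat.card_eq_two_iff.1 hcard
    have huniq : ∀ u v : ↥P₀, u ≠ 1 → v ≠ 1 → u = v := by
      intro u v hu hv
      have hmem : ∀ w : ↥P₀, w = a ∨ w = b := fun w => by
        have hw : w ∈ ({a, b} : Set ↥P₀) := huniv ▸ Set.mem_univ w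
        simpa using hw
      rcases hmem 1 with h | h <;> rcases hmem u with h' | h' <;> rcases hmem v with h'' | h'' <;>
        simp_all
    have e := huniq ⟨f, hf⟩ ⟨_, hf'⟩ (fun e => hf1 (congrArg Subtype.val e))
      (fun e => hf'1 (congrArg Subtype.val e))
    exact (mul_inv_eq_iff_eq_mul.1 (congrArg Subtype.val e).symm).symm
  · -- order four
    have hPsq : ∀ f ∈ P₀, f * f = 1 := fun f hf => hsq P f (hle hf)
    let φ : ↥S →* MulAut ↥P₀ :=
      { toFun := fun x =>
          { toFun := fun f => ⟨(x : G) * f * (x : G)⁻¹, (Subgroup.mem_normalizer_iff.1 (hS x.2) f).1 f.2⟩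
            invFun := fun f => ⟨(x : G)⁻¹ * f * x, (Subgroup.mem_normalizer_iff''.1 (hS x.2) f).1 f.2⟩
            left_inv := fun f => Subtype.ext (by simp [mul_assoc])
            right_inv := fun f => Subtype.ext (by simp [mul_assoc])
            map_mul' := fun f g => Subtype.ext (by simp [mul_assoc]) }
        map_one' := MulEquiv.ext fun f => Subtype.ext (by simp)
        map_mul' := fun x y => MulEquiv.ext fun f => Subtype.ext (by simp [mul_assoc]) }
    have hker : φ.ker.map S.subtype = P₀ := by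
      refine le_antisymm ?_ fun f hf => ⟨⟨f, hPS hf⟩, ?_, rfl⟩
      · rintro _ ⟨x, hx, rfl⟩
        refine hC x x.2 fun f hf => ?_
        have e : (x : G) * f * (x : G)⁻¹ = f :=
          congrArg Subtype.val (DFunLike.congr_fun (MonoidHom.mem_ker.1 hx) ⟨f, hf⟩)
        exact (mul_inv_eq_iff_eq_mul.1 e).symm
      · refine MonoidHom.mem_ker.2 (MulEquiv.ext fun g => Subtype.ext ?_)
        show f * (g : G) * f⁻¹ = g
        rw [two_group_comm h8 hsq h34 hP hf g.2, mul_inv_cancel_right]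
    have hkcard : Nat.card φ.ker = 4 := by
      rw [← Subgroup.card_map_of_injective S.subtype_injective, hker, hcard]; norm_num
    have hidx : φ.ker.index ∣ 6 := by
      rw [Subgroup.index_ker]
      refine (Subgroup.card_subgroup_dvd_card φ.range).trans ?_
      let ψ : MulAut ↥P₀ →* Equiv.Perm {f : ↥P₀ // f ≠ 1} :=
        { toFun := fun a => a.toEquiv.subtypeEquiv fun f => by simp
          map_one' := Equiv.ext fun f => rfl
          map_mul' := fun a b => Equiv.ext fun f => rfl }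
      have hψ : Function.Injective ψ := by
        intro a b h
        refine MulEquiv.ext fun f => ?_
        rcases eq_or_ne f 1 with rfl | hf
        · rw [map_one, map_one]
        · exact congrArg Subtype.val (DFunLike.congr_fun h ⟨f, hf⟩)
      refine (Subgroup.card_dvd_of_injective ψ hψ).trans ?_
      have : Fintype ↥P₀ := Fintype.ofFinite _
      rw [Nat.card_eq_fintype_card, Fintype.card_perm, Fintype.card_subtype_compl, Fintype.card_subtype_eq,
        ← Nat.card_eq_fintype_card (α := ↥P₀), hcard]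
      norm_num [Nat.factorial]
    have hSc := φ.ker.card_mul_index
    rw [hkcard] at hSc
    have hodd : ¬ 2 ∣ φ.ker.index := by
      intro h2
      obtain ⟨u, hu⟩ := h2
      have h8S : 2 ^ 3 ∣ Nat.card ↥S := ⟨u, by rw [← hSc, hu]; ring⟩
      obtain ⟨Q, hQ⟩ := Sylow.exists_subgroup_card_pow_prime 2 h8S
      have hQ2 : IsPGroup 2 ↥Q := IsPGroup.of_card hQ
      have hcore : φ.ker ≤ Q := by
        obtain ⟨R, hR⟩ := hQ2.exists_le_sylow
        have hRc : Nat.card ↥(R : Subgroup ↥S) ≤ 8 := by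
          obtain ⟨T, hT⟩ := (R.2.map S.subtype).exists_le_sylow
          rw [← Subgroup.card_map_of_injective S.subtype_injective]
          exact (Nat.card_le_card_of_injective _ (Subgroup.inclusion_injective hT)).trans (h8 T).le
        rw [Subgroup.eq_of_le_of_card_ge hR (by rw [hQ]; exact hRc)]
        exact IsPGroup.le_sylow_of_normal (IsPGroup.of_card (n := 2) (by rw [hkcard]; norm_num)) R
      have hle' : Q ≤ φ.ker := by
        intro x hx
        have hx' : (x : G) ∈ φ.ker.map S.subtype := by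
          rw [hker]
          refine hC x x.2 fun f hf => ?_
          rw [← hker] at hf
          obtain ⟨f', hf', rfl⟩ := hf
          exact two_group_comm h8 hsq h34 (hQ2.map S.subtype) (Subgroup.mem_map_of_mem _ (hcore hf'))
            (Subgroup.mem_map_of_mem _ hx)
        obtain ⟨x', hx'', e⟩ := hx'
        rwa [← Subtype.ext e]
      have := Subgroup.card_dvd_of_le hle'
      rw [hQ, hkcard] at this
      norm_num at this
    have hi : φ.ker.index = 1 ∨ φ.ker.index = 3 := by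
      have := Nat.le_of_dvd (by norm_num) hidx
      interval_cases φ.ker.index <;> omega
    rcases hi with hi | hi
    · refine htwo (IsPGroup.of_card (n := 2) ?_)
      rw [← hSc, hi]; norm_num
    · have := Fact.mk Nat.prime_three
      obtain ⟨⟨y, hyS⟩, hy⟩ := exists_prime_orderOf_dvd_card' (G := ↥S) 3 (by rw [← hSc, hi]; norm_num)
      rw [Subgroup.orderOf_mk] at hy
      set C := Subgroup.centralizer (P₀ : Set G) with hCdef
      have hP0C : P₀ ≤ C := fun f hf => Subgroup.mem_centralizer_iff.2 fun g hg =>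
        two_group_comm h8 hsq h34 hP hg hf
      have hC3 : ¬ 3 ∣ Nat.card ↥C := by
        intro h
        obtain ⟨⟨z, hz⟩, hzo⟩ := exists_prime_orderOf_dvd_card' (G := ↥C) 3 h
        rw [Subgroup.orderOf_mk] at hzo
        refine h34 z hzo ?_
        have hle4 : P₀ ≤ Subgroup.centralizer {z} := fun f hf =>
          Subgroup.mem_centralizer_singleton_iff.2 (Subgroup.mem_centralizer_iff.1 hz f hf)
        have := Subgroup.card_dvd_of_le hle4
        rwa [hcard, show (2 : ℕ) ^ 2 = 4 from rfl] at this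
      have hEC : ∀ E : {E : Sylow 2 G // P₀ ≤ E}, (E.1 : Subgroup G) ≤ C := fun E x hx =>
        Subgroup.mem_centralizer_iff.2 fun f hf => two_group_comm h8 hsq h34 E.1.2 (E.2 hf) hx
      let f : {E : Sylow 2 G // P₀ ≤ E} → Sylow 2 ↥C := fun E => E.1.subtype (hEC E)
      have hf : Function.Bijective f := by
        constructor
        · intro E E' h
          exact Subtype.ext (Sylow.subtype_injective h)
        · intro R
          obtain ⟨T, hT⟩ := (R.2.map C.subtype).exists_le_sylow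
          have hn : (P₀.subgroupOf C).Normal := ⟨fun u hu v => by
            rw [Subgroup.mem_subgroupOf] at hu ⊢
            have e : (v : G) * u * (v : G)⁻¹ = u := by
              rw [← Subgroup.mem_centralizer_iff.1 v.2 _ hu, mul_inv_cancel_right]
            rw [Subgroup.coe_mul, Subgroup.coe_mul, Subgroup.coe_inv, e]
            exact hu⟩
          have hn' : (Subgroup.comap C.subtype P₀).Normal := hn
          have hR : P₀.subgroupOf C ≤ R :=
            IsPGroup.le_sylow_of_normal (hP.comap_of_injective C.subtype C.subtype_injective) R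
          have hTP : P₀ ≤ T := fun u hu =>
            hT (Subgroup.mem_map_of_mem C.subtype (hR (show (⟨u, hP0C hu⟩ : ↥C) ∈ _ from hu)))
          refine ⟨⟨T, hTP⟩, Sylow.ext (R.3 (f ⟨T, hTP⟩).2 ?_)⟩
          intro u hu
          exact Subgroup.mem_subgroupOf.2 (hT (Subgroup.mem_map_of_mem C.subtype hu))
      let X := {E : Sylow 2 G // P₀ ≤ E}
      have : Fintype X := Fintype.ofFinite X
      have hX : ¬ 3 ∣ Fintype.card X := by
        intro h
        rw [← Nat.card_eq_fintype_card, Nat.card_congr (Equiv.ofBijective f hf)] at h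
        refine hC3 (h.trans ?_)
        exact ((default : Sylow 2 ↥C).card_dvd_index).trans (Subgroup.index_dvd_card _)
      have hpre : ∀ (z : G), z ∈ S → ∀ E : X, P₀ ≤ ((z • E.1 : Sylow 2 G) : Subgroup G) := by
        intro z hz E u hu
        have h1 := sylow_smul_mem E.1 (g := z) (E.2 ((Subgroup.mem_normalizer_iff''.1 (hS hz) u).1 hu))
        rwa [show z * (z⁻¹ * u * z) * z⁻¹ = u by group] at h1
      let σ : Equiv.Perm X :=
        { toFun := fun E => ⟨y • E.1, hpre y hyS E⟩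
          invFun := fun E => ⟨y⁻¹ • E.1, hpre y⁻¹ (inv_mem hyS) E⟩
          left_inv := fun E => Subtype.ext (inv_smul_smul y E.1)
          right_inv := fun E => Subtype.ext (smul_inv_smul y E.1) }
      have hσ : σ ^ 3 ^ 1 = 1 := by
        rw [pow_one]
        refine Equiv.ext fun E => Subtype.ext ?_
        show y • y • y • E.1 = E.1
        rw [smul_smul, smul_smul, show y * y * y = y ^ 3 by rw [pow_succ, sq], ← hy, pow_orderOf_eq_one, one_smul]
      obtain ⟨E, hE⟩ := Equiv.Perm.exists_fixed_point_of_prime hX hσ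
      refine ⟨E.1, ?_⟩
      have hyN : y ∈ Subgroup.normalizer ((E.1 : Subgroup G) : Set G) :=
        Sylow.smul_eq_iff_mem_normalizer.1 (congrArg Subtype.val hE)
      have hgen : P₀ ⊔ Subgroup.zpowers y = S := by
        refine Subgroup.eq_of_le_of_card_ge (sup_le hPS (Subgroup.zpowers_le.2 hyS)) ?_
        rw [← hSc, hi]
        refine Nat.le_of_dvd Nat.card_pos ?_
        refine Nat.Coprime.mul_dvd_of_dvd_of_dvd (by norm_num) ?_ ?_
        · have h4 : Nat.card ↥P₀ = 4 := by rw [hcard]; norm_num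
          exact h4 ▸ Subgroup.card_dvd_of_le (le_sup_left : P₀ ≤ P₀ ⊔ Subgroup.zpowers y)
        · rw [← hy, ← Nat.card_zpowers]
          exact Subgroup.card_dvd_of_le le_sup_right
      rw [← hgen]
      exact sup_le (E.2.trans Subgroup.le_normalizer) (Subgroup.zpowers_le.2 hyN)
  · -- the Sylow subgroup
    refine ⟨P, ?_⟩
    rwa [← Subgroup.eq_of_le_of_card_ge hle (by rw [hcard]; exact (h8 P).le)]

/-- The solvable subgroups. -/
theorem local_solvable (h3 : ∀ P Q : Sylow 3 G, P ≠ Q → (P : Subgroup G) ⊓ (Q : Subgroup G) = ⊥)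
    (good : ℕ → Prop)
    (hT : ∀ p : ℕ, [Fact p.Prime] → 3 < p → p ∣ Nat.card G →
      (∀ P : Sylow p G, IsCyclic (P : Subgroup G)) ∧
        ∃ k n, good k ∧ p ∣ k ∧ Nonempty (TorusData G k n))
    (S : Subgroup G) (hS : Group.IsSolvable S) :
    ∃ A : Subgroup G, S ≤ Subgroup.normalizer (A : Set G) ∧
      ((∃ P : Sylow 2 G, A = P) ∨ (∃ P : Sylow 3 G, A = P) ∨ (IsCyclic A ∧ good (Nat.card A))) := by
  classical
  have hN : ∀ p : ℕ, S ≤ Subgroup.normalizer (((Cfsg.pCore p ↥S).map S.subtype : Subgroup G) : Set G) := by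
    intro p g hg
    refine Subgroup.mem_normalizer_fintype fun x hx => ?_
    obtain ⟨x', hx', rfl⟩ := hx
    exact ⟨⟨g, hg⟩ * x' * ⟨g, hg⟩⁻¹, (Fitting.pCore_normal p).conj_mem x' hx' _, rfl⟩
  by_cases hex : ∃ p : ℕ, p.Prime ∧ p ≠ 2 ∧ Cfsg.pCore p ↥S ≠ ⊥
  · obtain ⟨p, hp, hp2, hne⟩ := hex
    have := Fact.mk hp
    have hP : IsPGroup p ↥((Cfsg.pCore p ↥S).map S.subtype) := (Fitting.pCore_isPGroup p).map _
    have hne' : (Cfsg.pCore p ↥S).map S.subtype ≠ ⊥ := fun e =>
      hne ((Subgroup.map_eq_bot_iff_of_injective _ S.subtype_injective).1 e)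
    by_cases hp3 : p = 3
    · subst hp3
      obtain ⟨P, hPn⟩ := local_three h3 hP hne' (hN 3)
      exact ⟨P, hPn, Or.inr (Or.inl ⟨P, rfl⟩)⟩
    · have hp5 : 3 < p := by have := hp.two_le; omega
      have hpd : p ∣ Nat.card G := by
        obtain ⟨j, hj⟩ := hP.exists_card_eq
        rcases j with _ | j
        · exact absurd (Subgroup.eq_bot_of_card_eq _ (hj.trans (pow_zero p))) hne'
        · exact (hj ▸ dvd_pow_self p (Nat.succ_ne_zero j)).trans (Subgroup.card_subgroup_dvd_card _)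
      obtain ⟨hcyc, k, n, hgood, hpk, ⟨D⟩⟩ := hT p hp5 hpd
      obtain ⟨A, hA, hAc, hAk⟩ := local_torus D hpk hcyc hP hne' (hN p)
      exact ⟨A, hA, Or.inr (Or.inr ⟨hAc, hAk ▸ hgood⟩)⟩
  · simp only [not_exists, not_and, not_not] at hex
    have hF : Cfsg.fittingSubgroup ↥S = Cfsg.pCore 2 ↥S := by
      rw [Fitting.fitting_eq_iSup_pCore]
      refine le_antisymm (iSup_le fun p => ?_)
        (le_iSup (fun p : Nat.Primes => Cfsg.pCore (p : ℕ) ↥S) ⟨2, Nat.prime_two⟩)
      obtain ⟨p, hp⟩ := p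
      by_cases h2 : p = 2
      · subst h2; exact le_rfl
      · exact (hex p hp h2).le.trans bot_le
    have hC := Fitting.centralizer_fitting_le (G := ↥S)
    rw [hF] at hC
    have := Fact.mk Nat.prime_two
    obtain ⟨P, hPn⟩ := local_two h8 hsq h34
      ((Fitting.pCore_isPGroup 2).map S.subtype) (Subgroup.map_subtype_le _) (hN 2) (fun x hx hcomm =>
        ⟨⟨x, hx⟩, hC (Subgroup.mem_centralizer_iff.2 fun f hf =>
          Subtype.ext (hcomm f (Subgroup.mem_map_of_mem _ hf))), rfl⟩)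
    exact ⟨P, hPn, Or.inl ⟨P, rfl⟩⟩

end Abstract

variable {F : Type*} [Field F] [Fintype F] {m : ℕ} {K : Rels chevG2 F}

variable (Z : Frame (T := MT) K PP (3 ^ m) fd) (hK : Fintype.card F = 3 ^ (2 * m + 1))

set_option quotPrecheck false in
local notation "G₁" => genG MT K (g2Words F (3 ^ m))

set_option quotPrecheck false in
local notation "G¹" => twistedG2 F (3 ^ m)

set_option quotPrecheck false in
local notation "q₀" => (3 ^ (2 * m + 1))

include Z hK

/-- A prime above `3` dividing the order divides the order of one of the tori. -/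
theorem exists_data_prime (hm : 1 ≤ m) (p : ℕ) [Fact p.Prime] (hp : 3 < p) (hd : p ∣ Nat.card ↥G¹) :
    ∃ k n, (k = (q₀ - 1) / 2 ∨ k = (q₀ + 1) / 4 ∨ k = q₀ - 3 ^ (m + 1) + 1 ∨ k = q₀ + 3 ^ (m + 1) + 1) ∧
      p ∣ k ∧ Nonempty (TorusData ↥G¹ k n) := by
  obtain ⟨e⟩ := exists_iso Z hK
  obtain ⟨DH, -⟩ := split_data Z hK hm
  obtain ⟨DT, -⟩ := quarter_data Z hK hm
  obtain ⟨D₁, D₂, -, -, hcov⟩ := pair_data Z hK hm
  obtain ⟨n, s, M, hn, -, hs, -, -, -, hM, -, -, -, -, -, hM'⟩ := q_facts m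
  rw [← Nat.card_congr e.toEquiv] at hd
  have hd' := hd
  rw [card_genG Z hK, hM'] at hd'
  have hpp : p.Prime := Fact.out
  rcases hpp.dvd_mul.1 hd' with h | h
  · rcases hpp.dvd_mul.1 h with h | h
    · have := (Nat.prime_dvd_prime_iff_eq hpp Nat.prime_three).1 (hpp.dvd_of_dvd_pow (hpp.dvd_of_dvd_pow h))
      omega
    · refine ⟨_, _, Or.inl rfl, ?_, ⟨DH.map e⟩⟩
      rw [hn, Nat.mul_div_cancel_left _ two_pos]
      rw [hn] at h
      rcases hpp.dvd_mul.1 h with h' | h'
      · have := (Nat.prime_dvd_prime_iff_eq hpp Nat.prime_two).1 h'; omega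
      · exact h'
  · rcases hpp.dvd_mul.1 h with h | h
    · refine ⟨_, _, Or.inr (Or.inl rfl), ?_, ⟨DT.map e⟩⟩
      rw [hs, Nat.mul_div_cancel_left _ (by norm_num)]
      rw [hs] at h
      rcases hpp.dvd_mul.1 h with h' | h'
      · have := (Nat.prime_dvd_prime_iff_eq hpp Nat.prime_two).1 (hpp.dvd_of_dvd_pow (show p ∣ 2 ^ 2 from h'))
        omega
      · exact h'
    · obtain ⟨x, hx⟩ := exists_prime_orderOf_dvd_card' (G := ↥G₁) p hd
      rcases hcov x (orderOf_dvd_iff_pow_eq_one.1 (by rw [hx, hM]; exact h)) with h' | h'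
      · exact ⟨_, _, Or.inr (Or.inr (Or.inl rfl)), hx ▸ h', ⟨D₁.map e⟩⟩
      · exact ⟨_, _, Or.inr (Or.inr (Or.inr rfl)), hx ▸ h', ⟨D₂.map e⟩⟩

theorem solvable_local (hm : 1 ≤ m) (S : Subgroup ↥G¹) (hS : Group.IsSolvable S) :
    ∃ A : Subgroup ↥G¹, S ≤ Subgroup.normalizer (A : Set ↥G¹) ∧
      ((∃ P : Sylow 2 ↥G¹, A = P) ∨ (∃ P : Sylow 3 ↥G¹, A = P) ∨
       (IsCyclic A ∧ (Nat.card A = (q₀ - 1) / 2 ∨ Nat.card A = (q₀ + 1) / 4 ∨
          Nat.card A = q₀ - 3 ^ (m + 1) + 1 ∨ Nat.card A = q₀ + 3 ^ (m + 1) + 1))) := by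
  obtain ⟨e⟩ := exists_iso Z hK
  have := Fact.mk Nat.prime_two
  have hrange : ∀ P : Sylow 2 ↥G¹, (P : Subgroup ↥G¹) ≤ e.toMonoidHom.range := fun P x _ => by
    rw [MonoidHom.range_eq_top.2 e.surjective]; trivial
  refine local_solvable (G := ↥G¹) (fun P => ?_) (fun P x hx => ?_) (fun y hy h4 => ?_)
    (sylow_three_twisted Z hK)
    (fun k => k = (q₀ - 1) / 2 ∨ k = (q₀ + 1) / 4 ∨ k = q₀ - 3 ^ (m + 1) + 1 ∨ k = q₀ + 3 ^ (m + 1) + 1)
    (fun p _ hp hd => ⟨fun P => sylow_cyclic Z hK hm hp P, exists_data_prime Z hK hm p hp hd⟩) S hS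
  · rw [← (sylow_two_G1 Z hK (P.comapOfInjective e.toMonoidHom e.injective (hrange P))).1]
    refine Nat.card_congr (Equiv.subtypeEquiv e.symm.toEquiv fun y => ?_)
    show y ∈ P ↔ e (e.symm y) ∈ P
    rw [e.apply_symm_apply]
  · have h := (sylow_two_G1 Z hK (P.comapOfInjective e.toMonoidHom e.injective (hrange P))).2 (e.symm x)
      (show e (e.symm x) ∈ P by rwa [e.apply_symm_apply])
    have h' := congrArg e h
    rwa [map_mul, e.apply_symm_apply, map_one] at h'
  · have hy' : orderOf (e.symm y) = 3 := (e.symm.orderOf_eq y).trans hy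
    have hcard : Nat.card ↥(Subgroup.centralizer {y}) = Nat.card ↥(Subgroup.centralizer {e.symm y}) :=
      Nat.card_congr (e.symm.toEquiv.subtypeEquiv fun z => by
        simp only [Subgroup.mem_centralizer_singleton_iff, MulEquiv.toEquiv_eq_coe, EquivLike.coe_coe]
        rw [← map_mul, ← map_mul, e.symm.injective.eq_iff])
    rw [hcard] at h4
    have h := h4.trans (card_centralizer_three Z hK (orderOf_dvd_iff_pow_eq_one.1 (dvd_of_eq hy'))
      (fun e1 => by rw [e1, orderOf_one] at hy'; omega))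
    obtain ⟨n, hn, hodd⟩ := odd_half (m := m) hK
    have hq : ¬ 2 ∣ (3 ^ (2 * m + 1)) ^ 3 := by
      rw [← pow_mul]
      intro h
      exact absurd (Nat.prime_two.dvd_of_dvd_pow h) (by norm_num)
    have h4' : 4 ∣ 3 ^ (2 * m + 1) - 1 :=
      (Nat.Coprime.pow_left 2 ((Nat.Prime.coprime_iff_not_dvd Nat.prime_two).2 hq)).dvd_of_dvd_mul_left
        (show 2 ^ 2 ∣ _ from h)
    rw [hn] at h4'
    obtain ⟨i, rfl⟩ := hodd
    omega

end Cfsg.Agent.Twisted.TypeG2
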