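import Cfsg.Agent.Lib.Ree.Basic

/-!
The two double cosets of the small Ree group with unique forms, and its Sylow `3`-subgroups.
-/

set_option autoImplicit false
set_option linter.unusedSectionVars false

namespace Cfsg.Agent.Twisted.TypeG2

open ChevGroup ChevIsogeny Cfsg.Lie

variable {F : Type*} [Field F] [Fintype F] {m : ℕ} {K : Rels chevG2 F}

variable (Z : Frame (T := MT) K PP (3 ^ m) fd) (hK : Fintype.card F = 3 ^ (2 * m + 1))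

set_option quotPrecheck false in
local notation "G₁" => genG MT K (g2Words F (3 ^ m))

set_option quotPrecheck false in
local notation "𝔻" => (gens Z hK).data

include Z hK

theorem U1_le_Uk {g : ↥(chevG2.group F)} (hg : g ∈ (𝔻).U1) : g ∈ (𝔻).Uk 0 :=
  Sg_mono (MT.rel K) (T' := (· ∈ fd.O.cls 0)) (fun r hr => (by revert hr; revert r; decide +kernel))
    (Subgroup.mem_inf.1 hg).2

theorem nJ_conj_U1 {g : ↥(chevG2.group F)} (hg : g ∈ (𝔻).U1) :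
    (𝔻).nJ 0 * g * ((𝔻).nJ 0)⁻¹ ∈ V (MT.rel K) :=
  (𝔻).nJ_conj_Uk 0 (U1_le_Uk Z hK hg)

/-- A conjugate of the unipotent group by the Weyl element meets `B` trivially. -/
theorem eq_one_of_nJ_conj {g : ↥(chevG2.group F)} (hg : g ∈ (𝔻).U1)
    (hB : (𝔻).nJ 0 * g * ((𝔻).nJ 0)⁻¹ ∈ (𝔻).B1) : g = 1 :=
  conj_eq_one_iff.1 (Data.one_of_B_of_V (MT.shapeR K) (Subgroup.mem_inf.1 hB).2
    (nJ_conj_U1 Z hK hg))

theorem nJ_notMem_B1 : (𝔻).nJ 0 ∉ (𝔻).B1 := by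
  intro h
  have hu : wordU K m 1 0 0 ∈ (𝔻).U1 := (mem_U1_iff Z hK).2 ⟨1, 0, 0, rfl⟩
  have := eq_one_of_nJ_conj Z hK hu (mul_mem (mul_mem h ((𝔻).U1_le_B1 hu)) (inv_mem h))
  exact one_ne_zero ((wordU_eq_one_iff Z hK).1 this).1

theorem bigCell_unique {b b' u u' : ↥(chevG2.group F)} (hb : b ∈ (𝔻).B1) (hb' : b' ∈ (𝔻).B1)
    (hu : u ∈ (𝔻).U1) (hu' : u' ∈ (𝔻).U1) (e : b * (𝔻).nJ 0 * u = b' * (𝔻).nJ 0 * u') :
    b = b' ∧ u = u' := by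
  have e1 : (𝔻).nJ 0 * (u * u'⁻¹) * ((𝔻).nJ 0)⁻¹ = b⁻¹ * b' := by
    calc (𝔻).nJ 0 * (u * u'⁻¹) * ((𝔻).nJ 0)⁻¹
        = b⁻¹ * (b * (𝔻).nJ 0 * u) * u'⁻¹ * ((𝔻).nJ 0)⁻¹ := by group
      _ = b⁻¹ * b' := by rw [e]; group
  have h1 := eq_one_of_nJ_conj Z hK (mul_mem hu (inv_mem hu')) (e1 ▸ mul_mem (inv_mem hb) hb')
  have h2 : u = u' := mul_inv_eq_one.1 h1
  subst h2
  exact ⟨mul_right_cancel (mul_right_cancel e), rfl⟩

theorem card_B1_eq : Nat.card ↥((𝔻).B1) =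
    (3 ^ (2 * m + 1)) ^ 3 * (3 ^ (2 * m + 1) - 1) := by
  rw [(𝔻).card_B1 (MT.shapeR K) ((gens Z hK).longest long_ok), card_H1 Z hK,
    (𝔻).card_U1 (MT.shapeR K) ((gens Z hK).longest long_ok)]
  simp [W0, card_X0 Z hK]

theorem card_U1_eq : Nat.card ↥((𝔻).U1) = (3 ^ (2 * m + 1)) ^ 3 := by
  rw [(𝔻).card_U1 (MT.shapeR K) ((gens Z hK).longest long_ok)]
  simp [W0, card_X0 Z hK]

theorem card_genG : Nat.card ↥G₁ = (3 ^ (2 * m + 1)) ^ 3 * (3 ^ (2 * m + 1) - 1) *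
    ((3 ^ (2 * m + 1)) ^ 3 + 1) := by
  rw [← card_G Z hK, twistedG2]
  exact Nat.card_congr (genEquiv MT K (g2Words F (3 ^ m))).toEquiv

/-- `G₁ = B₁ ∪ B₁ n U₁`. -/
theorem mem_B1_or_bigCell {g : ↥(chevG2.group F)} (hg : g ∈ G₁) :
    g ∈ (𝔻).B1 ∨ ∃ b ∈ (𝔻).B1, ∃ u ∈ (𝔻).U1, g = b * (𝔻).nJ 0 * u := by
  let f : ↥((𝔻).B1) ⊕ (↥((𝔻).B1) × ↥((𝔻).U1)) → ↥G₁
    | .inl b => ⟨b.1, (Subgroup.mem_inf.1 b.2).1⟩
    | .inr p => ⟨p.1.1 * (𝔻).nJ 0 * p.2.1,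
        mul_mem (mul_mem (Subgroup.mem_inf.1 p.1.2).1 ((𝔻).nJ_mem 0)) (Subgroup.mem_inf.1 p.2.2).1⟩
  have hne : ∀ (b b' : ↥((𝔻).B1)) (u : ↥((𝔻).U1)), b.1 ≠ b'.1 * (𝔻).nJ 0 * u.1 := by
    intro b b' u e
    refine nJ_notMem_B1 Z hK ?_
    have : (𝔻).nJ 0 = b'.1⁻¹ * b.1 * u.1⁻¹ := by rw [e]; group
    rw [this]
    exact mul_mem (mul_mem (inv_mem b'.2) b.2) (inv_mem ((𝔻).U1_le_B1 u.2))
  have hinj : Function.Injective f := by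
    rintro (b | ⟨b, u⟩) (b' | ⟨b', u'⟩) e
    · have e' : b.1 = b'.1 := congrArg (fun x : ↥G₁ => (x : ↥(chevG2.group F))) e
      rw [Subtype.ext e']
    · exact absurd (congrArg (fun x : ↥G₁ => (x : ↥(chevG2.group F))) e) (hne b b' u')
    · exact absurd (congrArg (fun x : ↥G₁ => (x : ↥(chevG2.group F))) e).symm (hne b' b u)
    · obtain ⟨e1, e2⟩ := bigCell_unique Z hK b.2 b'.2 u.2 u'.2
        (congrArg (fun x : ↥G₁ => (x : ↥(chevG2.group F))) e)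
      rw [Subtype.ext e1, Subtype.ext e2]
  have hbij : Function.Bijective f := by
    refine (Nat.bijective_iff_injective_and_card f).2 ⟨hinj, ?_⟩
    rw [Nat.card_sum, Nat.card_prod, card_B1_eq Z hK, card_U1_eq Z hK, card_genG Z hK]
    ring
  obtain ⟨x, hx⟩ := hbij.2 ⟨g, hg⟩
  have hx' : ((f x : ↥G₁) : ↥(chevG2.group F)) = g := congrArg Subtype.val hx
  rcases x with b | ⟨b, u⟩
  · exact Or.inl (hx' ▸ b.2)
  · exact Or.inr ⟨b.1, b.2, u.1, u.2, hx'.symm⟩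

theorem B1_conj_U1 {b u : ↥(chevG2.group F)} (hb : b ∈ (𝔻).B1) (hu : u ∈ (𝔻).U1) :
    b * u * b⁻¹ ∈ (𝔻).U1 := by
  obtain ⟨v, hv, h, hh, rfl⟩ := (𝔻).exists_U1_H1 (MT.shapeR K) ((gens Z hK).longest long_ok) hb
  have h1 : h * u * h⁻¹ ∈ (𝔻).U1 := Subgroup.mem_inf.2
    ⟨mul_mem (mul_mem (Subgroup.mem_inf.1 hh).1 (Subgroup.mem_inf.1 hu).1)
      (inv_mem (Subgroup.mem_inf.1 hh).1),
      H_conj_Sg _ (Subgroup.mem_inf.1 hh).2 (Subgroup.mem_inf.1 hu).2⟩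
  have e : v * h * u * (v * h)⁻¹ = v * (h * u * h⁻¹) * v⁻¹ := by group
  rw [e]
  exact mul_mem (mul_mem hv h1) (inv_mem hv)

/-- The conjugates of the unipotent group meet trivially or are equal. -/
theorem U1_ti {g : ↥(chevG2.group F)} (hg : g ∈ G₁) {x : ↥(chevG2.group F)} (hx : x ∈ (𝔻).U1)
    (hx1 : x ≠ 1) (hgx : g * x * g⁻¹ ∈ (𝔻).U1) : g ∈ (𝔻).B1 := by
  rcases mem_B1_or_bigCell Z hK hg with h | ⟨b, hb, u, hu, rfl⟩
  · exact h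
  · exfalso
    have h1 := B1_conj_U1 Z hK (inv_mem hb) hgx
    have e : b⁻¹ * (b * (𝔻).nJ 0 * u * x * (b * (𝔻).nJ 0 * u)⁻¹) * b⁻¹⁻¹ =
        (𝔻).nJ 0 * (u * x * u⁻¹) * ((𝔻).nJ 0)⁻¹ := by group
    rw [e] at h1
    exact hx1 (conj_eq_one_iff.1
      (eq_one_of_nJ_conj Z hK (mul_mem (mul_mem hu hx) (inv_mem hu)) ((𝔻).U1_le_B1 h1)))

omit Z in
theorem three_dvd_q : 3 ∣ 3 ^ (2 * m + 1) := dvd_pow_self _ (Nat.succ_ne_zero _)

/-- The Sylow `3`-subgroups meet trivially. -/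
theorem sylow_three_ti (P Q : Sylow 3 ↥G₁) (hPQ : P ≠ Q) :
    (P : Subgroup ↥G₁) ⊓ (Q : Subgroup ↥G₁) = ⊥ := by
  haveI := Fact.mk Nat.prime_three
  have hle : (𝔻).U1 ≤ G₁ := inf_le_left
  have hcard : Nat.card ↥((𝔻).U1.subgroupOf G₁) = 3 ^ (3 * (2 * m + 1)) := by
    rw [Nat.card_congr (Subgroup.subgroupOfEquivOfLe hle).toEquiv, card_U1_eq Z hK, ← pow_mul,
      mul_comm]
  have hU : IsPGroup 3 ↥((𝔻).U1.subgroupOf G₁) := IsPGroup.of_card hcard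
  have hidx : ¬ 3 ∣ ((𝔻).U1.subgroupOf G₁).index := by
    have h1 := ((𝔻).U1.subgroupOf G₁).card_mul_index
    rw [hcard, card_genG Z hK, ← pow_mul, mul_comm (2 * m + 1) 3, mul_assoc] at h1
    rw [Nat.eq_of_mul_eq_mul_left (pow_pos (by norm_num) _) h1]
    have h3 := three_dvd_q (m := m) hK
    have hq : 1 ≤ 3 ^ (2 * m + 1) := Nat.one_le_pow _ _ (by norm_num)
    intro hd
    rcases (Nat.Prime.dvd_mul Nat.prime_three).1 hd with h | h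
    · have := Nat.dvd_sub h3 h
      rw [Nat.sub_sub_self hq] at this
      omega
    · have : 3 ∣ 3 ^ (3 * (2 * m + 1)) := dvd_pow_self _ (by omega)
      omega
  let S : Sylow 3 ↥G₁ := hU.toSylow hidx
  obtain ⟨g, rfl⟩ := MulAction.exists_smul_eq ↥G₁ S P
  obtain ⟨g', rfl⟩ := MulAction.exists_smul_eq ↥G₁ S Q
  rw [Subgroup.eq_bot_iff_forall]
  intro y hy
  by_contra hy1
  rw [Subgroup.mem_inf] at hy
  have hmem : ∀ (k z : ↥G₁), z ∈ ((k • S : Sylow 3 ↥G₁) : Subgroup ↥G₁) ↔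
      ((k⁻¹ * z * k : ↥G₁) : ↥(chevG2.group F)) ∈ (𝔻).U1 := by
    intro k z
    rw [Sylow.coe_subgroup_smul, Subgroup.mem_pointwise_smul_iff_inv_smul_mem]
    simp only [← map_inv, MulAut.smul_def, MulAut.conj_apply, inv_inv]
    exact Subgroup.mem_subgroupOf
  rw [hmem, hmem] at hy
  have hx1 : ((g⁻¹ * y * g : ↥G₁) : ↥(chevG2.group F)) ≠ 1 := by
    intro e
    have e' : g⁻¹ * y * g = 1 := Subtype.ext e
    exact hy1 (by simpa [mul_assoc] using congrArg (fun z => g * z * g⁻¹) e')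
  have hk : ((g'⁻¹ * g : ↥G₁) : ↥(chevG2.group F)) ∈ (𝔻).B1 := by
    refine U1_ti Z hK (g'⁻¹ * g).2 hy.1 hx1 ?_
    convert hy.2 using 1
    push_cast
    group
  refine hPQ (Sylow.ext ?_)
  ext z
  rw [hmem, hmem]
  constructor
  · intro hz
    convert B1_conj_U1 Z hK hk hz using 1
    push_cast
    group
  · intro hz
    convert B1_conj_U1 Z hK (inv_mem hk) hz using 1
    push_cast
    group

end Cfsg.Agent.Twisted.TypeG2
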