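import Cfsg.Agent.Lib.Ree.TorusPair
import Mathlib.RingTheory.IntegralDomain

/-!
The four cyclic tori of the small Ree group and what follows from them.
-/

set_option autoImplicit false
set_option linter.unusedSectionVars false

namespace Cfsg.Agent.Twisted.TypeG2

open ChevGroup ChevIsogeny Cfsg.Lie
open scoped MatrixGroups

/-- The elements of a given order in a cyclic subgroup. -/
theorem card_orderOf_cyclic {G : Type*} [Group G] [Finite G] (T : Subgroup G) (hT : IsCyclic T) {i : ℕ}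
    (hi : i ∣ Nat.card T) : Nat.card {x // x ∈ T ∧ orderOf x = i} = Nat.totient i := by
  classical
  have := Fintype.ofFinite T
  rw [← IsCyclic.card_orderOf_eq_totient (α := T) (d := i) (by rwa [← Nat.card_eq_fintype_card]),
    ← Fintype.card_subtype, ← Nat.card_eq_fintype_card]
  exact Nat.card_congr
    { toFun := fun x => ⟨⟨x.1, x.2.1⟩, by rw [Subgroup.orderOf_mk]; exact x.2.2⟩
      invFun := fun x => ⟨x.1.1, x.1.2, by rw [Subgroup.orderOf_coe]; exact x.2⟩
      left_inv := fun x => rfl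
      right_inv := fun x => rfl }

namespace TorusData

variable {G H : Type*} [Group G] [Group H] {k n : ℕ}

/-- Transport along an isomorphism. -/
def map (D : TorusData G k n) (e : G ≃* H) : TorusData H k n where
  A := D.A.map e.toMonoidHom
  C := D.C.map e.toMonoidHom
  cyclic := (e.subgroupMap D.A).isCyclic.1 D.cyclic
  card := by rw [Subgroup.card_map_of_injective e.injective, D.card]
  le := Subgroup.map_mono D.le
  comm := by
    rintro _ ⟨x, hx, rfl⟩ _ ⟨y, hy, rfl⟩
    rw [← map_mul, ← map_mul, D.comm x hx y hy]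
  centralizer_eq := by
    rintro _ ⟨x, hx, rfl⟩ h1
    ext z
    obtain ⟨w, rfl⟩ := e.surjective z
    rw [map_mem_iff, ← D.centralizer_eq x hx (fun h => h1 (by rw [h, map_one])),
      Subgroup.mem_centralizer_singleton_iff, Subgroup.mem_centralizer_singleton_iff]
    show e w * e x = e x * e w ↔ _
    rw [← map_mul, ← map_mul, e.injective.eq_iff]
  card_normalizer := by
    rw [← Subgroup.map_equiv_normalizer_eq, Subgroup.card_map_of_injective e.injective,
      D.card_normalizer]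
  normalizer_eq := by
    intro A₀ hA hA1
    obtain ⟨B, rfl⟩ : ∃ B : Subgroup G, A₀ = B.map e.toMonoidHom :=
      ⟨A₀.comap e.toMonoidHom, (Subgroup.map_comap_eq_self_of_surjective e.surjective A₀).symm⟩
    rw [← Subgroup.map_equiv_normalizer_eq, ← Subgroup.map_equiv_normalizer_eq, D.normalizer_eq B ?_ ?_]
    · exact (Subgroup.map_le_map_iff_of_injective e.injective).1 hA
    · intro h; exact hA1 (by rw [h, Subgroup.map_bot])
  conj_mem := by
    intro x hx
    obtain ⟨w, rfl⟩ := e.surjective x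
    obtain ⟨c, hc⟩ := D.conj_mem w (e.injective (by rw [map_pow, hx, map_one]))
    exact ⟨e c, ⟨_, hc, by simp⟩⟩

theorem centralizer_subgroup (D : TorusData G k n) {B : Subgroup G} (hB : B ≤ D.A) (hB1 : B ≠ ⊥) :
    Subgroup.centralizer (B : Set G) = D.C := by
  obtain ⟨h, hh, hh1⟩ := (Subgroup.bot_or_exists_ne_one B).resolve_left hB1
  refine le_antisymm (fun x hx => ?_) fun x hx => ?_
  · rw [← D.centralizer_eq h (hB hh) hh1, Subgroup.mem_centralizer_singleton_iff]
    exact (Subgroup.mem_centralizer_iff.1 hx h hh).symm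
  · exact Subgroup.mem_centralizer_iff.2 fun y hy => D.comm y (D.le (hB hy)) x hx

variable [Finite G] (D : TorusData G k n)

theorem exists_conj_map (B : Subgroup G) (hB : IsCyclic B) (hd : Nat.card B ∣ k) :
    ∃ c, B.map (MulAut.conj c).toMonoidHom ≤ D.A := by
  obtain ⟨x, hx⟩ := (Subgroup.isCyclic_iff_exists_zpowers_eq_top B).1 hB
  subst hx
  rw [Nat.card_zpowers] at hd
  obtain ⟨c, hc⟩ := D.conj_mem x (orderOf_dvd_iff_pow_eq_one.1 hd)
  exact ⟨c, by rw [MonoidHom.map_zpowers, Subgroup.zpowers_le]; exact hc⟩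

include D in
theorem conj_of_card_eq (B B' : Subgroup G) (hB : IsCyclic B) (hB' : IsCyclic B')
    (hd : Nat.card B ∣ k) (he : Nat.card B' = Nat.card B) :
    ∃ g, B' = B.map (MulAut.conj g).toMonoidHom := by
  obtain ⟨c, hc⟩ := D.exists_conj_map B hB hd
  obtain ⟨c', hc'⟩ := D.exists_conj_map B' hB' (he ▸ hd)
  have h := eq_of_card_eq_of_le D.cyclic hc' hc (by
    rw [Subgroup.card_map_of_injective (MulAut.conj c').injective,
      Subgroup.card_map_of_injective (MulAut.conj c).injective, he])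
  refine ⟨c'⁻¹ * c, ?_⟩
  have h2 := congrArg (Subgroup.map (MulAut.conj c'⁻¹).toMonoidHom) h
  rw [Subgroup.map_map, Subgroup.map_map] at h2
  have e1 : (MulAut.conj c'⁻¹).toMonoidHom.comp (MulAut.conj c').toMonoidHom = MonoidHom.id G := by
    ext y; simp [mul_assoc]
  have e2 : (MulAut.conj c'⁻¹).toMonoidHom.comp (MulAut.conj c).toMonoidHom =
      (MulAut.conj (c'⁻¹ * c)).toMonoidHom := by
    ext y; simp [mul_assoc]
  rwa [e1, e2, Subgroup.map_id] at h2

/-- A cyclic subgroup of the same order is the subgroup of some such data. -/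
theorem exists_of_cyclic (B : Subgroup G) (hB : IsCyclic B) (hd : Nat.card B = k) :
    ∃ D' : TorusData G k n, D'.A = B ∧ ∃ g, D'.C = D.C.map (MulAut.conj g).toMonoidHom := by
  obtain ⟨g, hg⟩ := D.conj_of_card_eq D.A B D.cyclic hB D.card.dvd (hd.trans D.card.symm)
  exact ⟨D.map (MulAut.conj g), hg.symm, g, rfl⟩

include D in
theorem card_orderOf {i : ℕ} (hi : 1 < i) (hik : i ∣ k) :
    Nat.card {x : G // orderOf x = i} * n = Nat.card G * Nat.totient i := by
  have hsame : ∀ c x : G, orderOf (c * x * c⁻¹) = orderOf x := fun c x => (MulAut.conj c).orderOf_eq x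
  have h := card_conj_set (fun d => d ∈ D.A ∧ orderOf d = i) (Subgroup.normalizer (D.A : Set G))
    (fun y hy d hd => ⟨(Subgroup.mem_normalizer_iff.1 hy d).1 hd.1, (hsame y d).trans hd.2⟩) ?_
  · rw [D.card_normalizer, card_orderOf_cyclic D.A D.cyclic (by rw [D.card]; exact hik)] at h
    rw [← h]
    congr 1
    refine Nat.card_congr (Equiv.subtypeEquivRight fun x => ?_)
    constructor
    · intro hx
      obtain ⟨c, hc⟩ := D.conj_mem x (orderOf_dvd_iff_pow_eq_one.1 (hx ▸ hik))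
      exact ⟨c, hc, (hsame c x).trans hx⟩
    · rintro ⟨c, -, hc⟩
      exact (hsame c x).symm.trans hc
  · rintro c d ⟨hd, hdi⟩ ⟨hd', -⟩
    have hne : Subgroup.zpowers d ≠ ⊥ := fun e => by
      rw [Subgroup.zpowers_eq_bot.1 e, orderOf_one] at hdi; omega
    have heq : (Subgroup.zpowers d).map (MulAut.conj c).toMonoidHom = Subgroup.zpowers d := by
      refine eq_of_card_eq_of_le D.cyclic ?_ (Subgroup.zpowers_le.2 hd)
        (Subgroup.card_map_of_injective (MulAut.conj c).injective)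
      rw [MonoidHom.map_zpowers, Subgroup.zpowers_le]; exact hd'
    rw [← D.normalizer_eq _ (Subgroup.zpowers_le.2 hd) hne]
    refine Subgroup.mem_normalizer_fintype fun x hx => ?_
    have := Subgroup.mem_map_of_mem (MulAut.conj c).toMonoidHom hx
    rw [heq] at this
    exact this

end TorusData

variable {F : Type*} [Field F] [Fintype F] {m : ℕ} {K : Rels chevG2 F}

variable (Z : Frame (T := MT) K PP (3 ^ m) fd) (hK : Fintype.card F = 3 ^ (2 * m + 1))

set_option quotPrecheck false in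
local notation "G₁" => genG MT K (g2Words F (3 ^ m))

set_option quotPrecheck false in
local notation "q₀" => (3 ^ (2 * m + 1))

include Z hK

/-- the data of the split torus -/
theorem split_data (hm : 1 ≤ m) :
    ∃ D : TorusData ↥G₁ ((q₀ - 1) / 2) (2 * (q₀ - 1)), D.C = hSub Z hK := by
  obtain ⟨n, hn, hodd⟩ := odd_half (m := m) hK
  have hne : hHalf Z hK ≠ ⊥ := by
    intro h
    have hc := card_hHalf Z hK
    rw [h, Subgroup.card_bot] at hc
    have h27 : 3 ^ 3 ≤ 3 ^ (2 * m + 1) := Nat.pow_le_pow_right (by norm_num) (by omega)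
    omega
  obtain ⟨y, hy, hy1⟩ := (Subgroup.bot_or_exists_ne_one _).resolve_left hne
  obtain ⟨z, hz, hzy⟩ := hHalf_ne Z hK hy hy1
  refine ⟨{ A := hHalf Z hK, C := hSub Z hK, cyclic := isCyclic_hHalf Z hK, card := card_hHalf Z hK,
            le := hHalf_le Z hK,
            comm := fun x hx x' hx' => by
              obtain ⟨a, rfl⟩ := hx
              obtain ⟨b, rfl⟩ := hx'
              rw [← map_mul, ← map_mul, mul_comm],
            centralizer_eq := fun x hx hx1 => by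
              obtain ⟨w, hw, rfl⟩ := hHalf_ne Z hK hx hx1
              exact torG_centralizer Z hK hw,
            card_normalizer := card_normalizer_hSub Z hK (hHalf_le Z hK) hz (hzy ▸ hy),
            normalizer_eq := ?_, conj_mem := ?_ }, rfl⟩
  · intro A₀ hA hA1
    obtain ⟨x, hx, hx1⟩ := (Subgroup.bot_or_exists_ne_one A₀).resolve_left hA1
    obtain ⟨w, hw, hwx⟩ := hHalf_ne Z hK (hA hx) hx1
    ext c
    rw [mem_normalizer_hSub Z hK (hA.trans (hHalf_le Z hK)) hw (hwx ▸ hx),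
      mem_normalizer_hSub Z hK (hHalf_le Z hK) hz (hzy ▸ hy)]
  · intro x hx
    rcases eq_or_ne x 1 with rfl | hx1
    · exact ⟨1, by simp⟩
    rw [hn, Nat.mul_div_cancel_left _ two_pos] at hx
    have h2 : x ^ 2 ≠ 1 := fun e => hx1 (orderOf_eq_one_iff.1 (Nat.eq_one_of_dvd_coprimes
      (Nat.coprime_two_left.2 hodd) (orderOf_dvd_of_pow_eq_one e) (orderOf_dvd_of_pow_eq_one hx)))
    obtain ⟨c, w, hw⟩ := exists_conj_hSub Z hK (by rw [hn, mul_comm, pow_mul, hx, one_pow]) h2
    refine ⟨c, ?_⟩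
    rw [← hw, hHalf]
    refine Subgroup.mem_map.2 ⟨w, ?_, rfl⟩
    rw [MonoidHom.mem_range]
    obtain ⟨j, rfl⟩ := hodd
    refine ⟨w ^ (j + 1), ?_⟩
    have h1 : w ^ (2 * j + 1) = 1 := torG_inj Z hK (by
      rw [map_pow, hw, conj_pow, hx, mul_one, mul_inv_cancel, map_one])
    rw [powMonoidHom_apply, ← pow_mul, show (j + 1) * 2 = 2 * j + 1 + 1 by ring, pow_succ, h1, one_mul]

/-- the data of the torus of order `q + 1` -/
theorem quarter_data (hm : 1 ≤ m) :
    ∃ D : TorusData ↥G₁ ((q₀ + 1) / 4) (6 * (q₀ + 1)), D.C = qTor Z hK := by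
  have hne : qHalf Z hK ≠ ⊥ := fun e => rrG_sq_ne Z hK hm
    (Subgroup.mem_bot.1 (e ▸ Subgroup.mem_zpowers (rrG Z hK ^ 2) : rrG Z hK ^ 2 ∈ (⊥ : Subgroup ↥G₁)))
  refine ⟨{ A := qHalf Z hK, C := qTor Z hK, cyclic := Subgroup.isCyclic_zpowers _,
            card := card_qHalf Z hK, le := qHalf_le Z hK,
            comm := fun x hx y hy => (qTor_comm Z hK hx hy).eq,
            centralizer_eq := fun x hx hx1 => centralizer_qHalf Z hK hm hx hx1,
            card_normalizer := by rw [normalizer_qHalf Z hK hm le_rfl hne, card_normalizer_vFour Z hK hm],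
            normalizer_eq := fun A₀ hA hA1 => by
              rw [normalizer_qHalf Z hK hm hA hA1, normalizer_qHalf Z hK hm le_rfl hne],
            conj_mem := fun x hx => ?_ }, rfl⟩
  rcases eq_or_ne x 1 with rfl | hx1
  · exact ⟨1, by simp⟩
  have h2 := sq_ne_one_of_pow Z hK hx hx1
  obtain ⟨s, hs, -, hs4, -⟩ := quarter (m := m)
  obtain ⟨c, hc⟩ := exists_conj_qTor' Z hK hm
    (by rw [hs, mul_comm, pow_mul, ← hs4, hx, one_pow]) h2
  exact ⟨c, (qHalf_iff Z hK).2 ⟨hc, by rw [conj_pow, hx, mul_one, mul_inv_cancel]⟩⟩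

/-- the data of the two remaining tori, with the covering property -/
theorem pair_data (hm : 1 ≤ m) :
    ∃ (D₁ : TorusData ↥G₁ (q₀ - 3 ^ (m + 1) + 1) (6 * (q₀ - 3 ^ (m + 1) + 1)))
      (D₂ : TorusData ↥G₁ (q₀ + 3 ^ (m + 1) + 1) (6 * (q₀ + 3 ^ (m + 1) + 1))),
      D₁.C = D₁.A ∧ D₂.C = D₂.A ∧ ∀ x : ↥G₁, x ^ (q₀ ^ 2 - q₀ + 1) = 1 →
        orderOf x ∣ q₀ - 3 ^ (m + 1) + 1 ∨ orderOf x ∣ q₀ + 3 ^ (m + 1) + 1 := by
  obtain ⟨g₁, g₂, l₁, l₂, hl₁, hg₁, hlM₁, hl₂, hg₂, hlM₂, hc₁, hc₂, hN₁, hN₂, hcop, hcov⟩ :=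
    exists_pair Z hK hm
  have mk : ∀ (g g' : ↥G₁) (l l' : ℕ), l.Prime → orderOf g = l → l ∣ q₀ ^ 2 - q₀ + 1 →
      l'.Prime → orderOf g' = l' → l' ∣ q₀ ^ 2 - q₀ + 1 →
      Nat.Coprime (Nat.card ↥(Subgroup.centralizer {g})) (Nat.card ↥(Subgroup.centralizer {g'})) →
      Nat.card ↥(Subgroup.normalizer ((Subgroup.centralizer {g} : Subgroup ↥G₁) : Set ↥G₁)) =
        6 * Nat.card ↥(Subgroup.centralizer {g}) →
      (∀ x : ↥G₁, x ^ (q₀ ^ 2 - q₀ + 1) = 1 → x ≠ 1 →
        (∃ c, c * x * c⁻¹ ∈ Subgroup.centralizer {g}) ∨ ∃ c, c * x * c⁻¹ ∈ Subgroup.centralizer {g'}) →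
      ∃ D : TorusData ↥G₁ (Nat.card ↥(Subgroup.centralizer {g}))
        (6 * Nat.card ↥(Subgroup.centralizer {g})), D.C = D.A := by
    intro g g' l l' hl hg hlM hl' hg' hlM' hcop hN hcov
    obtain ⟨hcyc, hdvd, -⟩ := centralizer_prime_M Z hK hm hl hg hlM
    refine ⟨{ A := Subgroup.centralizer {g}, C := Subgroup.centralizer {g}, cyclic := hcyc, card := rfl,
              le := le_rfl, comm := fun x hx y hy => ?_,
              centralizer_eq := fun x hx hx1 => torus_M Z hK hm hl hg hlM hx hx1,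
              card_normalizer := hN,
              normalizer_eq := fun A₀ hA hA1 => torus_M_normalizer Z hK hm hl hg hlM hA hA1,
              conj_mem := fun x hx => ?_ }, rfl⟩
    · let _ := IsCyclic.commGroup (α := ↥(Subgroup.centralizer {g}))
      exact congrArg Subtype.val (mul_comm (⟨x, hx⟩ : ↥(Subgroup.centralizer {g})) ⟨y, hy⟩)
    · rcases eq_or_ne x 1 with rfl | hx1
      · exact ⟨1, by simp⟩
      have hxM := orderOf_dvd_iff_pow_eq_one.1 ((orderOf_dvd_of_pow_eq_one hx).trans hdvd)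
      rcases hcov x hxM hx1 with h | h
      · exact h
      · exact absurd (orderOf_eq_one_iff.1 (Nat.eq_one_of_dvd_coprimes hcop
          (orderOf_dvd_of_pow_eq_one hx) (cls_M Z hK hm hl' hg' hlM' h).1)) hx1
  obtain ⟨D₁, hD₁⟩ := mk g₁ g₂ l₁ l₂ hl₁ hg₁ hlM₁ hl₂ hg₂ hlM₂ hcop hN₁ hcov
  obtain ⟨D₂, hD₂⟩ := mk g₂ g₁ l₂ l₁ hl₂ hg₂ hlM₂ hl₁ hg₁ hlM₁ hcop.symm hN₂ fun x hx hx1 => (hcov x hx hx1).symm
  rw [← hc₁, ← hc₂]
  refine ⟨D₁, D₂, hD₁, hD₂, fun x hx => ?_⟩
  rcases eq_or_ne x 1 with rfl | hx1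
  · simp
  rcases hcov x hx hx1 with h | h
  · exact Or.inl (cls_M Z hK hm hl₁ hg₁ hlM₁ h).1
  · exact Or.inr (cls_M Z hK hm hl₂ hg₂ hlM₂ h).1

end Cfsg.Agent.Twisted.TypeG2
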