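import Cfsg.Agent.Lib.Ree.Counting
import Cfsg.Agent.Lib.Ree.Rep
import Cfsg.Agent.Lib.Ree.Linear

/-!
The tori of orders `q - r + 1` and `q + r + 1` of the small Ree group.
-/

set_option autoImplicit false
set_option linter.unusedSectionVars false

namespace Cfsg.Agent.Twisted.TypeG2

open ChevGroup ChevIsogeny Cfsg.Lie
open scoped MatrixGroups

/-- For a prime divisor `l` of `q² - q + 1` the order of `q` modulo `l` is `6`. -/
theorem prime_M {m l : ℕ} (hl : l.Prime)
    (h : l ∣ (3 ^ (2 * m + 1)) ^ 2 - 3 ^ (2 * m + 1) + 1) :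
    7 ≤ l ∧ ∀ d, l ∣ (3 ^ (2 * m + 1)) ^ d - 1 → 6 ∣ d := by
  obtain ⟨n, s, M, hn, -, hs, -, -, -, hM, hModd, hM3, hcM, hcP, hcq, hM'⟩ := q_facts m
  rw [hM] at h
  set q := 3 ^ (2 * m + 1) with hq
  have hq1 : 1 ≤ q := Nat.one_le_pow _ _ (by norm_num)
  have := Fact.mk hl
  set x : ZMod l := (q : ZMod l) with hx
  have h3 : x ^ 3 + 1 = 0 := by
    have h0 : ((q ^ 3 + 1 : ℕ) : ZMod l) = 0 := by
      rw [ZMod.natCast_eq_zero_iff, hM']; exact h.mul_left _
    push_cast at h0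
    exact h0
  have hl2 : l ≠ 2 := fun e => Nat.not_even_iff_odd.2 hModd (even_iff_two_dvd.2 (e ▸ h))
  have h2 : (2 : ZMod l) ≠ 0 := by
    intro e
    have : ((2 : ℕ) : ZMod l) = 0 := by exact_mod_cast e
    rw [ZMod.natCast_eq_zero_iff] at this
    exact hl2 ((Nat.prime_dvd_prime_iff_eq hl Nat.prime_two).1 this)
  have hx1 : x ^ 2 ≠ 1 := by
    intro e
    rcases mul_self_eq_one_iff.1 (by rw [← sq]; exact e : x * x = 1) with e1 | e1
    · have : ((q - 1 : ℕ) : ZMod l) = 0 := by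
        rw [Nat.cast_sub hq1, Nat.cast_one, ← hx, e1, sub_self]
      rw [ZMod.natCast_eq_zero_iff] at this
      exact hl.one_lt.ne' (Nat.eq_one_of_dvd_coprimes hcM h this)
    · have : ((q + 1 : ℕ) : ZMod l) = 0 := by push_cast; rw [← hx, e1, neg_add_cancel]
      rw [ZMod.natCast_eq_zero_iff] at this
      exact hl.one_lt.ne' (Nat.eq_one_of_dvd_coprimes hcP h this)
  have hx3 : x ^ 3 ≠ 1 := fun e => h2 (by linear_combination h3 - e)
  have hx6 : x ^ 6 = 1 := by linear_combination (x ^ 3 - 1) * h3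
  have hord : orderOf x = 6 := by
    have hd := orderOf_dvd_of_pow_eq_one hx6
    have hle := Nat.le_of_dvd (by norm_num) hd
    interval_cases hv : orderOf x
    · norm_num at hd
    · exact absurd (by rw [orderOf_eq_one_iff.1 hv, one_pow]) hx1
    · exact absurd (hv ▸ pow_orderOf_eq_one x) hx1
    · exact absurd (hv ▸ pow_orderOf_eq_one x) hx3
    · norm_num at hd
    · norm_num at hd
    · rfl
  refine ⟨?_, fun d hd => ?_⟩
  · have hx0 : x ≠ 0 := fun e => by simp [e] at h3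
    have h6 : 6 ∣ l - 1 := hord ▸ orderOf_dvd_of_pow_eq_one (ZMod.pow_card_sub_one_eq_one hx0)
    have := hl.two_le
    have := Nat.le_of_dvd (by omega) h6
    omega
  · rw [← hord]
    refine orderOf_dvd_of_pow_eq_one ?_
    have : ((q ^ d - 1 : ℕ) : ZMod l) = 0 := by rwa [ZMod.natCast_eq_zero_iff]
    rw [Nat.cast_sub (Nat.one_le_pow _ _ hq1), Nat.cast_one, Nat.cast_pow, sub_eq_zero] at this
    exact this

/-- The arithmetic of the class count. -/
theorem count_arith {q G N2 N3 N6 N9 H T R M : ℤ}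
    (h1 : G = q ^ 3 * (q - 1) * (q + 1) * M) (hM : M = q ^ 2 - q + 1)
    (h2 : N2 = q ^ 2 * M) (h3 : N3 = (q ^ 2 - 1) * (q ^ 3 + 1)) (h6 : N6 = q ^ 2 * (q - 1) * (q ^ 3 + 1))
    (h9 : N9 = q ^ 2 * (q - 1) * (q ^ 3 + 1)) (hH : 2 * H = q ^ 3 * (q + 1) * M * (q - 3))
    (hT : 6 * T = q ^ 3 * (q - 1) * M * (q - 3))
    (hsum : G = 1 + N2 + N3 + N6 + N9 + H + T + R) :
    3 * R = q ^ 3 * (q - 1) * (q + 1) * (q ^ 2 - 2 * q) := by
  subst h1 hM h2 h3 h6 h9
  have h : 2 * (3 * R) = 2 * (q ^ 3 * (q - 1) * (q + 1) * (q ^ 2 - 2 * q)) := by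
    linear_combination (-6 : ℤ) * hsum - 3 * hH - hT
  exact mul_left_cancel₀ two_ne_zero h

/-- Counting a subgroup minus a subgroup of it. -/
theorem card_diff {G : Type*} [Group G] [Finite G] {W T : Subgroup G} (h : W ≤ T) :
    Nat.card {x // x ∈ T ∧ x ∉ W} + Nat.card ↥W = Nat.card ↥T := by
  classical
  have := Fintype.ofFinite G
  simp only [Nat.card_eq_fintype_card, Fintype.card_subtype]
  rw [← Finset.card_union_of_disjoint]
  · congr 1
    ext x
    simp only [Finset.mem_union, Finset.mem_filter, Finset.mem_univ, true_and]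
    exact ⟨fun hx => hx.elim And.left (fun hw => h hw), fun hx => (em (x ∈ W)).elim Or.inr fun hw => Or.inl ⟨hx, hw⟩⟩
  · rw [Finset.disjoint_left]
    intro x hx hx'
    simp only [Finset.mem_filter] at hx hx'
    exact hx.2.2 hx'.2

/-- The class of an order, for the partition of the group. -/
def kindOf (q n : ℕ) : ℕ :=
  if n = 1 then 0 else if n = 2 then 1 else if n = 3 then 2 else if n = 6 then 3 else if n = 9 then 4
    else if n ∣ q - 1 then 5 else if n ∣ q + 1 then 6 else 7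

theorem card_kinds {α : Type*} [Finite α] (k : α → ℕ) (hk : ∀ x, k x < 8) :
    Nat.card α = Nat.card {x // k x = 0} + Nat.card {x // k x = 1} + Nat.card {x // k x = 2} +
      Nat.card {x // k x = 3} + Nat.card {x // k x = 4} + Nat.card {x // k x = 5} +
      Nat.card {x // k x = 6} + Nat.card {x // k x = 7} := by
  classical
  have := Fintype.ofFinite α
  simp only [Nat.card_eq_fintype_card, Fintype.card_subtype]
  have e := Finset.card_eq_sum_card_fiberwise (f := k) (s := (Finset.univ : Finset α))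
    (t := Finset.range 8) fun x _ => Finset.mem_range.2 (hk x)
  rw [Finset.card_univ] at e
  rw [e]
  simp only [Finset.sum_range_succ, Finset.sum_range_zero, zero_add]

variable {F : Type*} [Field F] [Fintype F] {m : ℕ} {K : Rels chevG2 F}

variable (Z : Frame (T := MT) K PP (3 ^ m) fd) (hK : Fintype.card F = 3 ^ (2 * m + 1))

set_option quotPrecheck false in
local notation "G₁" => genG MT K (g2Words F (3 ^ m))

set_option quotPrecheck false in
local notation "𝔻" => (gens Z hK).data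

set_option quotPrecheck false in
local notation "𝕄" => ((3 ^ (2 * m + 1)) ^ 2 - 3 ^ (2 * m + 1) + 1)

include Z hK

/-- An element of prime order dividing `q² - q + 1` commutes with no involution. -/
theorem not_commute_invol (hm : 1 ≤ m) {g : ↥G₁} {l M : ℕ} (hl : l.Prime) (hg : orderOf g = l)
    (hlM : l ∣ M) {x : ↥G₁} (hx : x ^ 2 = 1) (hx1 : x ≠ 1) (hc : Commute g x)
    (hcM : Nat.Coprime M (3 ^ (2 * m + 1) - 1)) (hcP : Nat.Coprime M (3 ^ (2 * m + 1) + 1))
    (hcq : Nat.Coprime M (3 ^ (2 * m + 1))) : False := by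
  obtain ⟨c, hca⟩ := exists_conj_aG Z hK hm (by rwa [← sq]) hx1
  have h1 : c⁻¹ * g * c ∈ Subgroup.centralizer {aG Z hK} := by
    rw [Subgroup.mem_centralizer_singleton_iff, show aG Z hK = c⁻¹ * x * c by rw [← hca]; group]
    calc c⁻¹ * g * c * (c⁻¹ * x * c) = c⁻¹ * (g * x) * c := by group
      _ = _ := by rw [hc.eq]; group
  have h2 := Subgroup.orderOf_dvd_natCard _ h1
  have e : orderOf (c⁻¹ * g * c) = l := by
    rw [← hg, ← (MulAut.conj c⁻¹).orderOf_eq g, MulAut.conj_apply, inv_inv]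
  rw [e, card_centralizer_aG Z hK,
    show (3 ^ (2 * m + 1)) ^ 2 - 1 = (3 ^ (2 * m + 1) + 1) * (3 ^ (2 * m + 1) - 1) by
      rw [← Nat.sq_sub_sq, one_pow]] at h2
  exact hl.one_lt.ne' (Nat.eq_one_of_dvd_coprimes (hcq.mul_right (hcP.mul_right hcM)) hlM h2)

/-- The centraliser of an element of prime order dividing `q² - q + 1`. -/
theorem centralizer_prime_M (hm : 1 ≤ m) {g : ↥G₁} {l : ℕ} (hl : l.Prime) (hg : orderOf g = l)
    (hlM : l ∣ 𝕄) :
    IsCyclic ↥(Subgroup.centralizer {g}) ∧ Nat.card ↥(Subgroup.centralizer {g}) ∣ 𝕄 ∧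
      ∃ k, k ∣ 6 ∧ Nat.card ↥(Subgroup.normalizer (Subgroup.zpowers g : Set ↥G₁)) =
        k * Nat.card ↥(Subgroup.centralizer {g}) := by
  obtain ⟨n, s, M, hn, hnodd, hs, hsodd, hn3, hs3, hM, hModd, hM3, hcM, hcP, hcq, hM'⟩ := q_facts m
  rw [hM] at hlM ⊢
  have hl1 := hl.one_lt.ne'
  have := Fact.mk hl
  set C := Subgroup.centralizer {g} with hC
  have hgx : ∀ x ∈ C, Commute g x := fun x hx => (Subgroup.mem_centralizer_singleton_iff.1 hx).symm
  have key : ∀ r : ℕ, r.Prime → r ∣ Nat.card ↥C →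
      ¬ r ∣ (3 ^ (2 * m + 1)) ^ 3 * ((3 ^ (2 * m + 1) - 1) * (3 ^ (2 * m + 1) + 1)) := by
    intro r hr hrC hdiv
    have := Fact.mk hr
    obtain ⟨⟨x, hxC⟩, hx⟩ := exists_prime_orderOf_dvd_card' r hrC
    rw [Subgroup.orderOf_mk] at hx
    have hx1 : x ≠ 1 := fun e => by rw [e, orderOf_one] at hx; exact hr.one_lt.ne hx
    have hgC : g ∈ Subgroup.centralizer {x} := Subgroup.mem_centralizer_singleton_iff.2 (hgx x hxC).eq
    rw [hn, hs, hr.dvd_mul, hr.dvd_mul, hr.dvd_mul, hr.dvd_mul] at hdiv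
    rcases hdiv with h | (h | h) | (h | h)
    · -- order three
      obtain rfl : r = 3 := (Nat.prime_dvd_prime_iff_eq hr Nat.prime_three).1
        (hr.dvd_of_dvd_pow (hr.dvd_of_dvd_pow h))
      have h1 := (Subgroup.orderOf_dvd_natCard _ hgC).trans
        (card_centralizer_three Z hK (orderOf_dvd_iff_pow_eq_one.1 (dvd_of_eq hx)) hx1)
      rw [hg] at h1
      exact hl1 (Nat.eq_one_of_dvd_coprimes ((hcq.pow_right 3).mul_right hcM) hlM h1)
    · obtain rfl : r = 2 := (Nat.prime_dvd_prime_iff_eq hr Nat.prime_two).1 h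
      exact not_commute_invol Z hK hm hl hg hlM (orderOf_dvd_iff_pow_eq_one.1 (dvd_of_eq hx)) hx1
        (hgx x hxC) hcM hcP hcq
    · have hr2 : r ≠ 2 := fun e => Nat.not_even_iff_odd.2 hnodd (even_iff_two_dvd.2 (e ▸ h))
      have h2 : x ^ 2 ≠ 1 := fun e => hr2 ((Nat.prime_dvd_prime_iff_eq hr Nat.prime_two).1
        (hx ▸ orderOf_dvd_of_pow_eq_one e))
      have hpow : x ^ (3 ^ (2 * m + 1) - 1) = 1 :=
        orderOf_dvd_iff_pow_eq_one.1 (by rw [hx, hn]; exact h.mul_left 2)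
      obtain ⟨c, z, hz⟩ := exists_conj_hSub Z hK hpow h2
      have hz2 : z ^ 2 ≠ 1 := fun e => h2 ((conj_eq_one_iff (a := c)).1 (by
        rw [← conj_pow, ← hz, ← map_pow, e, map_one]))
      have hc : c * g * c⁻¹ ∈ hSub Z hK := by
        rw [← torG_centralizer Z hK hz2, hz, Subgroup.mem_centralizer_singleton_iff]
        exact ((Commute.conj_iff c).2 (hgx x hxC)).eq
      have h1 := Subgroup.orderOf_dvd_natCard _ hc
      rw [show orderOf (c * g * c⁻¹) = l from ((MulAut.conj c).orderOf_eq g).trans hg,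
        card_hSub Z hK] at h1
      exact hl1 (Nat.eq_one_of_dvd_coprimes hcM hlM h1)
    · obtain rfl : r = 2 := (Nat.prime_dvd_prime_iff_eq hr Nat.prime_two).1
        (hr.dvd_of_dvd_pow (show r ∣ 2 ^ 2 from h))
      exact not_commute_invol Z hK hm hl hg hlM (orderOf_dvd_iff_pow_eq_one.1 (dvd_of_eq hx)) hx1
        (hgx x hxC) hcM hcP hcq
    · have hr2 : r ≠ 2 := fun e => Nat.not_even_iff_odd.2 hsodd (even_iff_two_dvd.2 (e ▸ h))
      have h2 : x ^ 2 ≠ 1 := fun e => hr2 ((Nat.prime_dvd_prime_iff_eq hr Nat.prime_two).1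
        (hx ▸ orderOf_dvd_of_pow_eq_one e))
      have hpow : x ^ (3 ^ (2 * m + 1) + 1) = 1 :=
        orderOf_dvd_iff_pow_eq_one.1 (by rw [hx, hs]; exact h.mul_left 4)
      obtain ⟨c, hcx⟩ := exists_conj_qTor' Z hK hm hpow h2
      have h2' : (c * x * c⁻¹) ^ 2 ≠ 1 := fun e => h2 (by rwa [conj_pow, conj_eq_one_iff] at e)
      have hc : c * g * c⁻¹ ∈ qTor Z hK := by
        rw [← centralizer_qTor Z hK hm hcx h2', Subgroup.mem_centralizer_singleton_iff]
        exact ((Commute.conj_iff c).2 (hgx x hxC)).eq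
      have h1 := Subgroup.orderOf_dvd_natCard _ hc
      rw [show orderOf (c * g * c⁻¹) = l from ((MulAut.conj c).orderOf_eq g).trans hg,
        card_qTor Z hK] at h1
      exact hl1 (Nat.eq_one_of_dvd_coprimes hcP hlM h1)
  have hcop : Nat.Coprime (Nat.card ↥C)
      ((3 ^ (2 * m + 1)) ^ 3 * ((3 ^ (2 * m + 1) - 1) * (3 ^ (2 * m + 1) + 1))) :=
    Nat.coprime_of_dvd key
  have hdvd : Nat.card ↥C ∣ M := by
    refine hcop.dvd_of_dvd_mul_left ?_
    have h1 := Subgroup.card_subgroup_dvd_card C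
    rw [card_genG Z hK, hM'] at h1
    convert h1 using 1
    ring
  obtain ⟨h7, hord⟩ := prime_M hl (hM ▸ hlM)
  have hq : Nat.card F = 3 ^ (2 * m + 1) := by rw [Nat.card_eq_fintype_card, hK]
  have hpF : (l : F) ≠ 0 := by
    intro e
    have : CharP F 3 := charThree hK
    have := (Nat.prime_dvd_prime_iff_eq Nat.prime_three hl).1 ((CharP.cast_eq_zero_iff F 3 l).1 e)
    omega
  obtain ⟨hcyc, k, hk, hN⟩ := ReeLinear.torus_of_rep (ρ := rep7 Z hK) (rep7_injective Z hK hm)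
    (by simp) hg hpF (by rw [hq]; exact hord) (by rw [hq]; exact hcM.coprime_dvd_left hdvd)
  exact ⟨hcyc, hdvd, k, hk, hN⟩

/-- The structure of the centraliser of an element of prime order dividing `q² - q + 1`. -/
theorem torus_M (hm : 1 ≤ m) {g : ↥G₁} {l : ℕ} (hl : l.Prime) (hg : orderOf g = l) (hlM : l ∣ 𝕄)
    {x : ↥G₁} (hx : x ∈ Subgroup.centralizer {g}) (hx1 : x ≠ 1) :
    Subgroup.centralizer {x} = Subgroup.centralizer {g} := by
  obtain ⟨hcyc, hdvd, -⟩ := centralizer_prime_M Z hK hm hl hg hlM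
  obtain ⟨r, hr, hrx⟩ := Nat.exists_prime_and_dvd (fun e => hx1 (orderOf_eq_one_iff.1 e))
  set y := x ^ (orderOf x / r) with hy
  have hyr : orderOf y = r := by
    rw [hy, orderOf_pow x, Nat.gcd_eq_right (Nat.div_dvd_of_dvd hrx),
      Nat.div_div_self hrx (orderOf_pos x).ne']
  have hrM : r ∣ 𝕄 := (hrx.trans (Subgroup.orderOf_dvd_natCard _ hx)).trans hdvd
  obtain ⟨hcy, -, -⟩ := centralizer_prime_M Z hK hm hr hyr hrM
  have hgy : g ∈ Subgroup.centralizer {y} := Subgroup.mem_centralizer_singleton_iff.2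
    ((Subgroup.mem_centralizer_singleton_iff.1 (pow_mem hx (orderOf x / r))).symm)
  refine le_antisymm (fun z hz => ?_) fun z hz => ?_
  · have hc : Commute z x := Subgroup.mem_centralizer_singleton_iff.1 hz
    have hzy : z ∈ Subgroup.centralizer {y} :=
      Subgroup.mem_centralizer_singleton_iff.2 (hc.pow_right _).eq
    let _ := IsCyclic.commGroup (α := ↥(Subgroup.centralizer {y}))
    exact Subgroup.mem_centralizer_singleton_iff.2
      (congrArg Subtype.val (mul_comm (⟨z, hzy⟩ : ↥(Subgroup.centralizer {y})) ⟨g, hgy⟩))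
  · let _ := IsCyclic.commGroup (α := ↥(Subgroup.centralizer {g}))
    exact Subgroup.mem_centralizer_singleton_iff.2
      (congrArg Subtype.val (mul_comm (⟨z, hz⟩ : ↥(Subgroup.centralizer {g})) ⟨x, hx⟩))

/-- The centraliser is a Hall subgroup. -/
theorem torus_M_hall (hm : 1 ≤ m) {g : ↥G₁} {l : ℕ} (hl : l.Prime) (hg : orderOf g = l) (hlM : l ∣ 𝕄)
    {r : ℕ} [Fact r.Prime] (hr : r ∣ Nat.card ↥(Subgroup.centralizer {g})) :
    ¬ r ∣ (Subgroup.centralizer {g}).index := by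
  obtain ⟨⟨y, hy⟩, hyr⟩ := exists_prime_orderOf_dvd_card' r hr
  rw [Subgroup.orderOf_mk] at hyr
  have hy1 : y ≠ 1 := fun e => by
    rw [e, orderOf_one] at hyr; exact (Fact.out : r.Prime).one_lt.ne hyr
  have hp : IsPGroup r ↥(Subgroup.zpowers y) :=
    IsPGroup.of_card (n := 1) (by rw [Nat.card_zpowers, hyr, pow_one])
  obtain ⟨P, hP⟩ := hp.exists_le_sylow
  have hyP := hP (Subgroup.mem_zpowers y)
  have : Nontrivial ↥(P : Subgroup ↥G₁) :=
    ⟨⟨⟨y, hyP⟩, 1, fun e => hy1 (congrArg Subtype.val e)⟩⟩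
  have := IsPGroup.center_nontrivial P.2
  obtain ⟨⟨z, hz⟩, hz1⟩ := exists_ne (1 : ↥(Subgroup.center ↥(P : Subgroup ↥G₁)))
  have hz1' : (z : ↥G₁) ≠ 1 := fun e => hz1 (Subtype.ext (Subtype.ext e))
  have hCy := torus_M Z hK hm hl hg hlM hy hy1
  have hzC : (z : ↥G₁) ∈ Subgroup.centralizer {g} := by
    rw [← hCy, Subgroup.mem_centralizer_singleton_iff]
    exact (congrArg Subtype.val (Subgroup.mem_center_iff.1 hz ⟨y, hyP⟩)).symm
  have hle : (P : Subgroup ↥G₁) ≤ Subgroup.centralizer {g} := by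
    rw [← torus_M Z hK hm hl hg hlM hzC hz1']
    intro w hw
    exact Subgroup.mem_centralizer_singleton_iff.2
      (congrArg Subtype.val (Subgroup.mem_center_iff.1 hz ⟨w, hw⟩))
  exact fun h => P.not_dvd_index (h.trans (Subgroup.index_dvd_of_le hle))

/-- The nontrivial subgroups of the centraliser have its normaliser. -/
theorem torus_M_normalizer (hm : 1 ≤ m) {g : ↥G₁} {l : ℕ} (hl : l.Prime) (hg : orderOf g = l)
    (hlM : l ∣ 𝕄) {A : Subgroup ↥G₁} (hA : A ≤ Subgroup.centralizer {g}) (hA1 : A ≠ ⊥) :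
    Subgroup.normalizer (A : Set ↥G₁) =
      Subgroup.normalizer ((Subgroup.centralizer {g} : Subgroup ↥G₁) : Set ↥G₁) := by
  obtain ⟨hcyc, -, -⟩ := centralizer_prime_M Z hK hm hl hg hlM
  obtain ⟨h, hh, hh1⟩ := (Subgroup.bot_or_exists_ne_one A).resolve_left hA1
  refine le_antisymm (fun y hy => ?_) fun y hy => ?_
  · refine Subgroup.mem_normalizer_fintype fun t ht => ?_
    rw [SetLike.mem_coe, ← torus_M Z hK hm hl hg hlM (hA hh) hh1,
      Subgroup.mem_centralizer_singleton_iff]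
    have hh' : y⁻¹ * h * y ∈ A := (Subgroup.mem_normalizer_iff''.1 hy h).1 hh
    let _ := IsCyclic.commGroup (α := ↥(Subgroup.centralizer {g}))
    have hc0 : Commute t (y⁻¹ * h * y) :=
      congrArg Subtype.val (mul_comm (⟨t, ht⟩ : ↥(Subgroup.centralizer {g})) ⟨_, hA hh'⟩)
    have hc := (Commute.conj_iff y).2 hc0
    rw [show y * (y⁻¹ * h * y) * y⁻¹ = h by group] at hc
    exact hc.eq
  · have hle : A.map (MulAut.conj y).toMonoidHom ≤ Subgroup.centralizer {g} := by
      rintro _ ⟨x, hx, rfl⟩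
      exact (Subgroup.mem_normalizer_iff.1 hy x).1 (hA hx)
    have heq : A.map (MulAut.conj y).toMonoidHom = A :=
      eq_of_card_eq_of_le hcyc hle hA (Subgroup.card_map_of_injective (MulAut.conj y).injective)
    refine Subgroup.mem_normalizer_fintype fun x hx => ?_
    have hm2 := Subgroup.mem_map_of_mem (MulAut.conj y).toMonoidHom hx
    rw [heq] at hm2
    exact hm2

/-- The class of elements conjugate into the centraliser. -/
theorem torus_M_class (hm : 1 ≤ m) {g : ↥G₁} {l : ℕ} (hl : l.Prime) (hg : orderOf g = l) (hlM : l ∣ 𝕄) :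
    ∃ k, k ∣ 6 ∧ 7 ≤ Nat.card ↥(Subgroup.centralizer {g}) ∧
      Nat.card ↥(Subgroup.normalizer ((Subgroup.centralizer {g} : Subgroup ↥G₁) : Set ↥G₁)) =
        k * Nat.card ↥(Subgroup.centralizer {g}) ∧
      Nat.card {x : ↥G₁ // x ≠ 1 ∧ ∃ c, c * x * c⁻¹ ∈ Subgroup.centralizer {g}} *
          (k * Nat.card ↥(Subgroup.centralizer {g})) =
        Nat.card ↥G₁ * (Nat.card ↥(Subgroup.centralizer {g}) - 1) := by
  obtain ⟨hcyc, hdvd, k, hk, hN⟩ := centralizer_prime_M Z hK hm hl hg hlM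
  have hgC : g ∈ Subgroup.centralizer {g} := Subgroup.mem_centralizer_singleton_iff.2 rfl
  have hg1 : g ≠ 1 := fun e => by rw [e, orderOf_one] at hg; exact hl.one_lt.ne hg
  have hN' : Nat.card ↥(Subgroup.normalizer ((Subgroup.centralizer {g} : Subgroup ↥G₁) : Set ↥G₁)) =
      k * Nat.card ↥(Subgroup.centralizer {g}) := by
    rw [← torus_M_normalizer Z hK hm hl hg hlM (Subgroup.zpowers_le.2 hgC)
      (fun e => hg1 (Subgroup.zpowers_eq_bot.1 e)), hN]
  refine ⟨k, hk, ?_, hN', ?_⟩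
  · refine (prime_M hl hlM).1.trans (Nat.le_of_dvd Nat.card_pos ?_)
    rw [← hg]; exact Subgroup.orderOf_dvd_natCard _ hgC
  · have h := card_conj_set (fun d => d ∈ Subgroup.centralizer {g} ∧ d ≠ 1)
      (Subgroup.normalizer ((Subgroup.centralizer {g} : Subgroup ↥G₁) : Set ↥G₁))
      (fun n hn d hd => ⟨(Subgroup.mem_normalizer_iff.1 hn d).1 hd.1, fun e => hd.2 (conj_eq_one_iff.1 e)⟩) ?_
    · rw [hN'] at h
      have e1 : Nat.card {d : ↥G₁ // d ∈ Subgroup.centralizer {g} ∧ d ≠ 1} =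
          Nat.card ↥(Subgroup.centralizer {g}) - 1 := by
        have h1 := card_diff (W := (⊥ : Subgroup ↥G₁)) (T := Subgroup.centralizer {g}) bot_le
        rw [Subgroup.card_bot] at h1
        have h2 : Nat.card {d : ↥G₁ // d ∈ Subgroup.centralizer {g} ∧ d ≠ 1} =
            Nat.card {d : ↥G₁ // d ∈ Subgroup.centralizer {g} ∧ d ∉ (⊥ : Subgroup ↥G₁)} :=
          Nat.card_congr (Equiv.subtypeEquivRight fun d => by rw [Subgroup.mem_bot])
        rw [h2, ← h1, Nat.add_sub_cancel]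
      rw [e1] at h
      rw [← h]
      congr 1
      refine Nat.card_congr (Equiv.subtypeEquivRight fun x => ?_)
      constructor
      · rintro ⟨hx, c, hc⟩; exact ⟨c, hc, fun e => hx (conj_eq_one_iff.1 e)⟩
      · rintro ⟨c, hc, hc1⟩; exact ⟨fun e => hc1 (by rw [e, mul_one, mul_inv_cancel]), c, hc⟩
    · rintro c d ⟨hd, hd1⟩ ⟨hd', hd1'⟩
      refine Subgroup.mem_normalizer_fintype fun t ht => ?_
      rw [SetLike.mem_coe, ← torus_M Z hK hm hl hg hlM hd' hd1', Subgroup.mem_centralizer_singleton_iff]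
      let _ := IsCyclic.commGroup (α := ↥(Subgroup.centralizer {g}))
      have hc0 : Commute t d :=
        congrArg Subtype.val (mul_comm (⟨t, ht⟩ : ↥(Subgroup.centralizer {g})) ⟨d, hd⟩)
      exact ((Commute.conj_iff c).2 hc0).eq

/-- The split and quarter elements. -/
theorem card_split_all : 2 * Nat.card {x : ↥G₁ // x ^ (3 ^ (2 * m + 1) - 1) = 1 ∧ x ^ 2 ≠ 1} *
    (3 ^ (2 * m + 1) - 1) = Nat.card ↥G₁ * (3 ^ (2 * m + 1) - 3) := by
  have h := card_split Z hK (fun x => x ^ (3 ^ (2 * m + 1) - 1) = 1 ∧ x ^ 2 ≠ 1)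
    (fun c x hx => ⟨by rw [conj_pow, hx.1, mul_one, mul_inv_cancel], fun e => hx.2 (by
      rwa [conj_pow, conj_eq_one_iff] at e)⟩) fun x hx => hx
  have ha : Subgroup.zpowers (aG Z hK) ≤ hSub Z hK := Subgroup.zpowers_le.2 ⟨-1, rfl⟩
  have hc := card_diff ha
  rw [card_hSub Z hK, Nat.card_zpowers, orderOf_eq_prime (by rw [sq, aG_sq Z hK] : aG Z hK ^ 2 = 1)
    (aG_ne_one Z hK)] at hc
  have e : Nat.card {x : ↥G₁ // x ∈ hSub Z hK ∧ x ^ (3 ^ (2 * m + 1) - 1) = 1 ∧ x ^ 2 ≠ 1} =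
      Nat.card {x : ↥G₁ // x ∈ hSub Z hK ∧ x ∉ Subgroup.zpowers (aG Z hK)} := by
    refine Nat.card_congr (Equiv.subtypeEquivRight fun x => and_congr_right fun hx => ?_)
    constructor
    · rintro ⟨-, h2⟩ ⟨j, rfl⟩
      refine h2 ?_
      show (aG Z hK ^ j) ^ 2 = 1
      rw [← zpow_natCast, ← zpow_mul, mul_comm, zpow_mul, zpow_natCast, sq, aG_sq Z hK, one_zpow]
    · intro hn
      refine ⟨hSub_pow Z hK hx, fun e => hn ?_⟩
      obtain ⟨z, rfl⟩ := hx
      have e' : z ^ 2 = 1 := torG_inj Z hK (by rw [map_pow, e, map_one])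
      rcases mul_self_eq_one_iff.1 (show (z : F) * z = 1 by rw [← Units.val_mul, ← sq, e', Units.val_one])
        with e1 | e1
      · obtain rfl : z = 1 := Units.ext e1
        rw [map_one]; exact one_mem _
      · obtain rfl : z = -1 := Units.ext (by simpa using e1)
        exact Subgroup.mem_zpowers _
  rw [e] at h
  rw [show 3 ^ (2 * m + 1) - 3 = Nat.card {x : ↥G₁ // x ∈ hSub Z hK ∧ x ∉ Subgroup.zpowers (aG Z hK)} by
    omega, ← h]
  ring

theorem card_quarter_all (hm : 1 ≤ m) :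
    6 * Nat.card {x : ↥G₁ // x ^ (3 ^ (2 * m + 1) + 1) = 1 ∧ x ^ 2 ≠ 1} *
      (3 ^ (2 * m + 1) + 1) = Nat.card ↥G₁ * (3 ^ (2 * m + 1) - 3) := by
  have h := card_quarter Z hK hm (fun x => x ^ (3 ^ (2 * m + 1) + 1) = 1 ∧ x ^ 2 ≠ 1)
    (fun c x hx => ⟨by rw [conj_pow, hx.1, mul_one, mul_inv_cancel], fun e => hx.2 (by
      rwa [conj_pow, conj_eq_one_iff] at e)⟩) fun x hx => hx
  have hc := card_diff (vFour_le Z hK)
  rw [card_qTor Z hK, card_vFour Z hK] at hc
  have e : Nat.card {x : ↥G₁ // x ∈ qTor Z hK ∧ x ^ (3 ^ (2 * m + 1) + 1) = 1 ∧ x ^ 2 ≠ 1} =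
      Nat.card {x : ↥G₁ // x ∈ qTor Z hK ∧ x ∉ vFour Z hK} := by
    refine Nat.card_congr (Equiv.subtypeEquivRight fun x => and_congr_right fun hx => ?_)
    constructor
    · rintro ⟨-, h2⟩ hv
      obtain ⟨e, rfl⟩ := hv
      have h2' : ∀ z : Multiplicative (ZMod 2), z ^ 2 = 1 := fun z => by
        rcases two_cases z with rfl | rfl <;> rfl
      exact h2 (by rw [← map_pow, show e ^ 2 = 1 from Prod.ext (h2' _) (h2' _), map_one])
    · intro hn
      refine ⟨?_, fun e => hn (mem_vFour_of_sq Z hK hx (by rw [← sq, e]))⟩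
      obtain ⟨s, hs, -, -, hs2⟩ := quarter (m := m)
      rw [show 3 ^ (2 * m + 1) + 1 = (3 ^ (2 * m + 1) + 1) / 2 * 2 by omega, pow_mul, qTor_pow Z hK hx,
        one_pow]
  rw [e] at h
  rw [show 3 ^ (2 * m + 1) - 3 = Nat.card {x : ↥G₁ // x ∈ qTor Z hK ∧ x ∉ vFour Z hK} by omega, ← h]
  ring

/-- An element other than the identity is of one of the kinds. -/
theorem orderOf_kinds (hm : 1 ≤ m) (x : ↥G₁) :
    kindOf (3 ^ (2 * m + 1)) (orderOf x) = 7 ↔ x ^ 𝕄 = 1 ∧ x ≠ 1 := by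
  obtain ⟨n, s, M, hn, hnodd, hs, hsodd, hn3, hs3, hM, hModd, hM3, hcM, hcP, hcq, hM'⟩ := q_facts m
  rw [hM]
  set o := orderOf x with ho
  have hx1 : x = 1 ↔ o = 1 := orderOf_eq_one_iff.symm
  rw [Ne, hx1]
  constructor
  · intro h
    unfold kindOf at h
    split_ifs at h with h1 h2 h3 h6 h9 hH hT <;> try omega
    refine ⟨?_, h1⟩
    have hn3' : ¬ 3 ∣ o := fun hd => by
      rcases orderOf_cases_three Z hK hd with e | e | e <;> omega
    have h4 := four_not_dvd_orderOf Z hK x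
    -- no odd prime of `q² - 1` divides the order
    have hbad : ∀ r, r.Prime → r ∣ o → r = 2 ∨ ¬ r ∣ (3 ^ (2 * m + 1) - 1) * (3 ^ (2 * m + 1) + 1) := by
      intro r hr hro
      by_contra hne
      simp only [not_or, not_not] at hne
      obtain ⟨hr2, hrd⟩ := hne
      have := Fact.mk hr
      set y := x ^ (o / r) with hy
      have hyr : orderOf y = r := by
        rw [hy, orderOf_pow x, ← ho, Nat.gcd_eq_right (Nat.div_dvd_of_dvd hro),
          Nat.div_div_self hro (orderOf_pos x).ne']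
      have hy2 : y ^ 2 ≠ 1 := fun e => hr2 ((Nat.prime_dvd_prime_iff_eq hr Nat.prime_two).1
        (hyr ▸ orderOf_dvd_of_pow_eq_one e))
      have hxy : Commute x y := (Commute.refl x).pow_right _
      rcases hr.dvd_mul.1 hrd with hd | hd
      · obtain ⟨c, z, hz⟩ := exists_conj_hSub Z hK
          (orderOf_dvd_iff_pow_eq_one.1 (hyr ▸ hd)) hy2
        have hz2 : z ^ 2 ≠ 1 := fun e => hy2 ((conj_eq_one_iff (a := c)).1 (by
          rw [← conj_pow, ← hz, ← map_pow, e, map_one]))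
        have hc : c * x * c⁻¹ ∈ hSub Z hK := by
          rw [← torG_centralizer Z hK hz2, hz, Subgroup.mem_centralizer_singleton_iff]
          exact ((Commute.conj_iff c).2 hxy).eq
        have h' := Subgroup.orderOf_dvd_natCard _ hc
        rw [show orderOf (c * x * c⁻¹) = o from (MulAut.conj c).orderOf_eq x, card_hSub Z hK] at h'
        exact hH h'
      · obtain ⟨c, hc⟩ := exists_conj_qTor' Z hK hm (orderOf_dvd_iff_pow_eq_one.1 (hyr ▸ hd)) hy2
        have hc' : c * x * c⁻¹ ∈ qTor Z hK := by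
          rw [← centralizer_qTor Z hK hm hc (fun e => hy2 (by rwa [conj_pow, conj_eq_one_iff] at e)),
            Subgroup.mem_centralizer_singleton_iff]
          exact ((Commute.conj_iff c).2 hxy).eq
        have h' := Subgroup.orderOf_dvd_natCard _ hc'
        rw [show orderOf (c * x * c⁻¹) = o from (MulAut.conj c).orderOf_eq x, card_qTor Z hK] at h'
        exact hT h'
    -- the order is odd
    have hodd : ¬ 2 ∣ o := by
      intro h2o
      have : ∃ r, r.Prime ∧ r ≠ 2 ∧ r ∣ o := by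
        by_contra hne
        simp only [not_exists, not_and] at hne
        have hr : ∀ r, r.Prime → r ∣ o → r = 2 := fun r hr hro => by_contra fun e => hne r hr e hro
        have e := Nat.eq_prime_pow_of_unique_prime_dvd (orderOf_pos x).ne' (fun {r} a b => hr r a b)
        rw [← ho] at e
        rcases hk : o.primeFactorsList.length with _ | _ | j <;> rw [hk] at e
        · exact h1 e
        · exact h2 e
        · exact h4 ⟨2 ^ j, by rw [← ho, e]; ring⟩
      obtain ⟨r, hr, hr2, hro⟩ := this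
      have := Fact.mk hr
      have hrM : r ∣ M := by
        have hd : o ∣ (3 ^ (2 * m + 1)) ^ 3 * (3 ^ (2 * m + 1) - 1) * ((3 ^ (2 * m + 1) + 1) * M) := by
          rw [← hM', ← card_genG Z hK]; exact orderOf_dvd_natCard x
        rcases hr.dvd_mul.1 (hro.trans hd) with hd | hd
        · rcases hr.dvd_mul.1 hd with hd | hd
          · exact absurd ((Nat.prime_dvd_prime_iff_eq hr Nat.prime_three).1
              (hr.dvd_of_dvd_pow (hr.dvd_of_dvd_pow hd))) (fun e => hn3' (e ▸ hro))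
          · exact absurd (hd.mul_right _) ((hbad r hr hro).resolve_left hr2)
        · rcases hr.dvd_mul.1 hd with hd | hd
          · exact absurd (hd.mul_left _) ((hbad r hr hro).resolve_left hr2)
          · exact hd
      set y := x ^ (o / r) with hy
      set i := x ^ (o / 2) with hi
      have hyr : orderOf y = r := by
        rw [hy, orderOf_pow x, ← ho, Nat.gcd_eq_right (Nat.div_dvd_of_dvd hro),
          Nat.div_div_self hro (orderOf_pos x).ne']
      have hi2 : orderOf i = 2 := by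
        rw [hi, orderOf_pow x, ← ho, Nat.gcd_eq_right (Nat.div_dvd_of_dvd h2o),
          Nat.div_div_self h2o (orderOf_pos x).ne']
      exact not_commute_invol Z hK hm hr hyr hrM (orderOf_dvd_iff_pow_eq_one.1 (dvd_of_eq hi2))
        (fun e => by rw [e, orderOf_one] at hi2; omega) ((Commute.refl x).pow_pow _ _) hcM hcP hcq
    have hcop : Nat.Coprime o ((3 ^ (2 * m + 1)) ^ 3 * ((3 ^ (2 * m + 1) - 1) * (3 ^ (2 * m + 1) + 1))) := by
      refine Nat.coprime_of_dvd fun r hr hro hd => ?_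
      rcases hr.dvd_mul.1 hd with hd | hd
      · exact hn3' ((Nat.prime_dvd_prime_iff_eq hr Nat.prime_three).1
          (hr.dvd_of_dvd_pow (hr.dvd_of_dvd_pow hd)) ▸ hro)
      · rcases hbad r hr hro with e | e
        · exact hodd (e ▸ hro)
        · exact e hd
    refine orderOf_dvd_iff_pow_eq_one.1 (hcop.dvd_of_dvd_mul_left ?_)
    have h' := orderOf_dvd_natCard x
    rw [card_genG Z hK, hM'] at h'
    rw [← ho] at h'
    convert h' using 1
    ring
  · rintro ⟨hx, h1⟩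
    have hoM : o ∣ M := orderOf_dvd_of_pow_eq_one hx
    have hne : ∀ d, Nat.Coprime M d → ¬ o ∣ d := fun d hd h => h1 (Nat.eq_one_of_dvd_coprimes hd hoM h)
    have h2 : o ≠ 2 := fun e => Nat.not_even_iff_odd.2 hModd (even_iff_two_dvd.2 (e ▸ hoM))
    have h3 : ¬ 3 ∣ o := fun h => hM3 (h.trans hoM)
    unfold kindOf
    rw [if_neg h1, if_neg h2, if_neg (by omega), if_neg (by omega), if_neg (by omega),
      if_neg (hne _ hcM), if_neg (hne _ hcP)]

set_option maxHeartbeats 1000000 in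
/-- The number of elements of order dividing `q² - q + 1`. -/
theorem card_M_elements (hm : 1 ≤ m) :
    3 * (Nat.card {x : ↥G₁ // x ^ 𝕄 = 1 ∧ x ≠ 1} : ℤ) =
      ((3 : ℤ) ^ (2 * m + 1)) ^ 3 * ((3 : ℤ) ^ (2 * m + 1) - 1) * ((3 : ℤ) ^ (2 * m + 1) + 1) *
        (((3 : ℤ) ^ (2 * m + 1)) ^ 2 - 2 * (3 : ℤ) ^ (2 * m + 1)) := by
  obtain ⟨n, s, M, hn, -, hs, -, hn3, hs3, hM, hModd, hM3, hcM, hcP, -, hM'⟩ := q_facts m
  obtain ⟨c2, c3, c6, c9⟩ := small_counts Z hK hm
  have hH := card_split_all Z hK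
  have hT := card_quarter_all Z hK hm
  have hsum := card_kinds (α := ↥G₁) (fun x => kindOf (3 ^ (2 * m + 1)) (orderOf x)) fun x => by
    unfold kindOf; split_ifs <;> norm_num
  have hq3 : 3 ∣ 3 ^ (2 * m + 1) := dvd_pow_self _ (Nat.succ_ne_zero _)
  have hq27 : 3 ^ 3 ≤ 3 ^ (2 * m + 1) := Nat.pow_le_pow_right (by norm_num) (by omega)
  set q := 3 ^ (2 * m + 1) with hq
  have hne : ∀ o : ℕ, (o = 3 ∨ o = 6 ∨ o = 9) → ¬ o ∣ q - 1 ∧ ¬ o ∣ q + 1 := by
    intro o ho
    have h3o : 3 ∣ o := by rcases ho with rfl | rfl | rfl <;> norm_num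
    refine ⟨fun h => ?_, fun h => ?_⟩
    · have := h3o.trans h; omega
    · have := h3o.trans h; omega
  have k0 : Nat.card {x : ↥G₁ // kindOf q (orderOf x) = 0} = 1 := by
    rw [Nat.card_eq_one_iff_unique]
    have e : ∀ x : ↥G₁, kindOf q (orderOf x) = 0 → x = 1 := fun x h => by
      unfold kindOf at h
      split_ifs at h with h1 <;> try omega
      exact orderOf_eq_one_iff.1 h1
    exact ⟨⟨fun a b => Subtype.ext ((e a a.2).trans (e b b.2).symm)⟩,
      ⟨⟨1, by rw [orderOf_one]; rfl⟩⟩⟩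
  have kk : ∀ (i d : ℕ), (i = 1 ∧ d = 2) ∨ (i = 2 ∧ d = 3) ∨ (i = 3 ∧ d = 6) ∨ (i = 4 ∧ d = 9) →
      Nat.card {x : ↥G₁ // kindOf q (orderOf x) = i} = Nat.card {x : ↥G₁ // orderOf x = d} := by
    intro i d hid
    refine Nat.card_congr (Equiv.subtypeEquivRight fun x => ?_)
    unfold kindOf
    split_ifs <;> constructor <;> intro h <;> omega
  have k5 : Nat.card {x : ↥G₁ // kindOf q (orderOf x) = 5} =
      Nat.card {x : ↥G₁ // x ^ (q - 1) = 1 ∧ x ^ 2 ≠ 1} := by
    refine Nat.card_congr (Equiv.subtypeEquivRight fun x => ?_)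
    rw [← orderOf_dvd_iff_pow_eq_one, Ne, ← orderOf_dvd_iff_pow_eq_one, Nat.dvd_prime Nat.prime_two]
    constructor
    · intro h
      refine ⟨by_contra fun hd => ?_, not_or.2 ⟨fun e => ?_, fun e => ?_⟩⟩
      · unfold kindOf at h
        split_ifs at h <;> omega
      · rw [kindOf, if_pos e] at h
        omega
      · rw [e] at h
        norm_num [kindOf] at h
    · rintro ⟨hd, h12⟩
      rw [not_or] at h12
      have h369 := fun h => (hne (orderOf x) h).1 hd
      unfold kindOf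
      rw [if_neg h12.1, if_neg h12.2, if_neg (fun e => h369 (Or.inl e)),
        if_neg (fun e => h369 (Or.inr (Or.inl e))), if_neg (fun e => h369 (Or.inr (Or.inr e))), if_pos hd]
  have k6 : Nat.card {x : ↥G₁ // kindOf q (orderOf x) = 6} =
      Nat.card {x : ↥G₁ // x ^ (q + 1) = 1 ∧ x ^ 2 ≠ 1} := by
    refine Nat.card_congr (Equiv.subtypeEquivRight fun x => ?_)
    rw [← orderOf_dvd_iff_pow_eq_one, Ne, ← orderOf_dvd_iff_pow_eq_one, Nat.dvd_prime Nat.prime_two]
    constructor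
    · intro h
      refine ⟨by_contra fun hd => ?_, not_or.2 ⟨fun e => ?_, fun e => ?_⟩⟩
      · unfold kindOf at h
        split_ifs at h <;> omega
      · rw [kindOf, if_pos e] at h
        omega
      · rw [e] at h
        norm_num [kindOf] at h
    · rintro ⟨hd, h12⟩
      rw [not_or] at h12
      have h369 := fun h => (hne (orderOf x) h).2 hd
      have hnd : ¬ orderOf x ∣ q - 1 := by
        intro h
        have h3 := Nat.dvd_sub hd h
        rw [show q + 1 - (q - 1) = 2 by omega] at h3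
        rcases (Nat.dvd_prime Nat.prime_two).1 h3 with e | e
        · exact h12.1 e
        · exact h12.2 e
      unfold kindOf
      rw [if_neg h12.1, if_neg h12.2, if_neg (fun e => h369 (Or.inl e)),
        if_neg (fun e => h369 (Or.inr (Or.inl e))), if_neg (fun e => h369 (Or.inr (Or.inr e))),
        if_neg hnd, if_pos hd]
  have k7 : Nat.card {x : ↥G₁ // kindOf q (orderOf x) = 7} =
      Nat.card {x : ↥G₁ // x ^ (q ^ 2 - q + 1) = 1 ∧ x ≠ 1} :=
    Nat.card_congr (Equiv.subtypeEquivRight fun x => orderOf_kinds Z hK hm x)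
  rw [k0, kk 1 2 (by omega), kk 2 3 (by omega), kk 3 6 (by omega), kk 4 9 (by omega), k5, k6, k7,
    c2, c3, c6, c9] at hsum
  have hG := card_genG Z hK
  rw [← hq] at hG
  rw [hM'] at hG
  have hq1 : 1 ≤ q := by omega
  have hq2 : q ≤ q ^ 2 := Nat.le_self_pow two_ne_zero q
  have hqq : 1 ≤ q ^ 2 := Nat.one_le_pow _ _ (by omega)
  zify [hq1, hq2, hqq, (by omega : 3 ≤ q)] at hsum hH hT hG hM
  have hqc : ((q : ℤ)) = (3 : ℤ) ^ (2 * m + 1) := by rw [hq]; push_cast; rfl
  rw [← hqc]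
  have hq0 : (q : ℤ) - 1 ≠ 0 := by omega
  have hq0' : (q : ℤ) + 1 ≠ 0 := by omega
  refine count_arith (M := (M : ℤ)) (G := (Nat.card ↥G₁ : ℤ))
    (H := (Nat.card {x : ↥G₁ // x ^ (q - 1) = 1 ∧ x ^ 2 ≠ 1} : ℤ))
    (T := (Nat.card {x : ↥G₁ // x ^ (q + 1) = 1 ∧ x ^ 2 ≠ 1} : ℤ))
    ?_ ?_ rfl rfl rfl rfl (mul_right_cancel₀ hq0 ?_) (mul_right_cancel₀ hq0' ?_) ?_
  · rw [hG]; ring
  · rw [← hM]
  · rw [hH, hG]; ring
  · rw [hT, hG]; ring
  · rw [hsum, hM]

end Cfsg.Agent.Twisted.TypeG2
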