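import Cfsg.Agent.Lib.Ree.TorusM

/-!
There are exactly two classes of tori of order prime to `6 (q² - 1)` in the small Ree group; their orders are
`q - r + 1` and `q + r + 1` with `r = 3^(m+1)`.
-/

set_option autoImplicit false
set_option linter.unusedSectionVars false

namespace Cfsg.Agent.Twisted.TypeG2

open ChevGroup ChevIsogeny Cfsg.Lie
open scoped MatrixGroups

/-- A cyclic subgroup with one centraliser and one normaliser for all its nontrivial subgroups, which contains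
a conjugate of every element of order dividing its order. -/
structure TorusData (G : Type*) [Group G] (k n : ℕ) where
  /-- the cyclic subgroup -/
  A : Subgroup G
  /-- its centraliser -/
  C : Subgroup G
  cyclic : IsCyclic A
  card : Nat.card A = k
  le : A ≤ C
  comm : ∀ x ∈ C, ∀ y ∈ C, x * y = y * x
  centralizer_eq : ∀ x ∈ A, x ≠ 1 → Subgroup.centralizer {x} = C
  card_normalizer : Nat.card (Subgroup.normalizer (A : Set G)) = n
  normalizer_eq : ∀ A₀ : Subgroup G, A₀ ≤ A → A₀ ≠ ⊥ →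
    Subgroup.normalizer (A₀ : Set G) = Subgroup.normalizer (A : Set G)
  conj_mem : ∀ x : G, x ^ k = 1 → ∃ c, c * x * c⁻¹ ∈ A

/-- The bound on the size of one class. -/
theorem class_bound {S k a G : ℕ} (h : S * (k * a) = G * (a - 1)) (ha : 7 ≤ a) (hk : k ∣ 6) :
    G ≤ 7 * S ∧ (k ≠ 6 → 2 * G ≤ 7 * S) := by
  have h1 : 6 * G * a ≤ 7 * S * k * a := by
    have h2 : 7 * S * k * a = 7 * (G * (a - 1)) := by rw [← h]; ring
    have h3 : 6 * a ≤ 7 * (a - 1) := by omega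
    calc 6 * G * a = G * (6 * a) := by ring
      _ ≤ G * (7 * (a - 1)) := Nat.mul_le_mul_left _ h3
      _ = _ := by rw [h2]; ring
  have h4 : 6 * G ≤ 7 * S * k := Nat.le_of_mul_le_mul_right h1 (by omega)
  have hk' := Nat.le_of_dvd (by norm_num) hk
  refine ⟨by nlinarith, fun h6 => ?_⟩
  have hk3 : k ≤ 3 := by interval_cases k <;> omega
  nlinarith

theorem no_single {k : ℕ} {q : ℤ} (hk : k ∣ 6) (hq : 27 ≤ q)
    (h : (k : ℤ) * (q ^ 2 - 2 * q) = 3 * (q ^ 2 - q)) : False := by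
  have hk' := Nat.le_of_dvd (by norm_num) hk
  interval_cases k <;> norm_num at hk <;> push_cast at h <;> nlinarith

theorem eq_mul_of_hall {M Q d a i r : ℕ} (hG : Q * M = a * i) (hd : d ∣ M) (had : a ∣ d) (hr : r ∣ a)
    (hi : ¬ r ∣ i) (ha : 0 < a) : ¬ r ∣ M / d := by
  intro ht
  apply hi
  obtain ⟨u, rfl⟩ := hd
  obtain ⟨w, rfl⟩ := had
  rcases Nat.eq_zero_or_pos w with rfl | hw
  · simp at hG
    rcases hG with h | h
    · omega
    · exact h ▸ dvd_zero r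
  rw [Nat.mul_div_cancel_left _ (Nat.mul_pos ha hw)] at ht
  have e : i = Q * w * u := Nat.eq_of_mul_eq_mul_left ha (by rw [← hG]; ring)
  exact e ▸ ht.mul_left _

variable {F : Type*} [Field F] [Fintype F] {m : ℕ} {K : Rels chevG2 F}

variable (Z : Frame (T := MT) K PP (3 ^ m) fd) (hK : Fintype.card F = 3 ^ (2 * m + 1))

set_option quotPrecheck false in
local notation "G₁" => genG MT K (g2Words F (3 ^ m))

set_option quotPrecheck false in
local notation "𝕄" => ((3 ^ (2 * m + 1)) ^ 2 - 3 ^ (2 * m + 1) + 1)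

set_option quotPrecheck false in
local notation "Cls(" g ")" => {x : ↥G₁ // x ≠ 1 ∧ ∃ c, c * x * c⁻¹ ∈ Subgroup.centralizer {g}}

include Z hK

theorem conj_into_M (hm : 1 ≤ m) {g : ↥G₁} {l : ℕ} (hl : l.Prime) (hg : orderOf g = l) (hlM : l ∣ 𝕄)
    {x : ↥G₁} {r : ℕ} (hr : r.Prime) (hrx : r ∣ orderOf x)
    (hrC : r ∣ Nat.card ↥(Subgroup.centralizer {g})) :
    ∃ c, c * x * c⁻¹ ∈ Subgroup.centralizer {g} := by
  have := Fact.mk hr
  set y := x ^ (orderOf x / r) with hy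
  have hyr : orderOf y = r := by
    rw [hy, orderOf_pow x, Nat.gcd_eq_right (Nat.div_dvd_of_dvd hrx),
      Nat.div_div_self hrx (orderOf_pos x).ne']
  obtain ⟨c, hc⟩ := exists_conj_mem_of_index _ (torus_M_hall Z hK hm hl hg hlM hrC) (y := y)
    (orderOf_dvd_iff_pow_eq_one.1 (dvd_of_eq hyr))
  refine ⟨c, ?_⟩
  rw [← torus_M Z hK hm hl hg hlM hc (fun e => by
    rw [conj_eq_one_iff] at e
    rw [e, orderOf_one] at hyr
    exact hr.one_lt.ne hyr), Subgroup.mem_centralizer_singleton_iff, hy]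
  exact ((Commute.conj_iff c).2 ((Commute.refl x).pow_right _)).eq

theorem coprime_M (hm : 1 ≤ m) {g : ↥G₁} {l : ℕ} (hl : l.Prime) (hg : orderOf g = l) (hlM : l ∣ 𝕄)
    {g' : ↥G₁} {l' : ℕ} (hl' : l'.Prime) (hg' : orderOf g' = l') (hlM' : l' ∣ 𝕄)
    (h : ¬ l' ∣ Nat.card ↥(Subgroup.centralizer {g})) :
    Nat.Coprime (Nat.card ↥(Subgroup.centralizer {g})) (Nat.card ↥(Subgroup.centralizer {g'})) := by
  refine Nat.coprime_of_dvd fun r hr hr1 hr2 => h ?_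
  have := Fact.mk hr
  obtain ⟨⟨y, hy⟩, hyr⟩ := exists_prime_orderOf_dvd_card' r hr2
  rw [Subgroup.orderOf_mk] at hyr
  have hy1 : y ≠ 1 := fun e => by rw [e, orderOf_one] at hyr; exact hr.one_lt.ne hyr
  obtain ⟨c, hc⟩ := exists_conj_mem_of_index _ (torus_M_hall Z hK hm hl hg hlM hr1) (y := y)
    (orderOf_dvd_iff_pow_eq_one.1 (dvd_of_eq hyr))
  have hc1 : c * y * c⁻¹ ≠ 1 := fun e => hy1 (conj_eq_one_iff.1 e)
  rw [← torus_M Z hK hm hl hg hlM hc hc1, show Nat.card ↥(Subgroup.centralizer {c * y * c⁻¹}) =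
    Nat.card ↥(Subgroup.centralizer {y}) from (Nat.card_congr ((MulAut.conj c).toEquiv.subtypeEquiv
      fun z => by
        simp only [Subgroup.mem_centralizer_singleton_iff, MulEquiv.toEquiv_eq_coe, EquivLike.coe_coe,
          MulAut.conj_apply]
        exact (Commute.conj_iff c).symm)).symm, torus_M Z hK hm hl' hg' hlM' hy hy1, ← hg']
  exact Subgroup.orderOf_dvd_natCard _ (Subgroup.mem_centralizer_singleton_iff.2 rfl)

theorem cls_M (hm : 1 ≤ m) {g : ↥G₁} {l : ℕ} (hl : l.Prime) (hg : orderOf g = l) (hlM : l ∣ 𝕄)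
    {x : ↥G₁} (hx : ∃ c, c * x * c⁻¹ ∈ Subgroup.centralizer {g}) :
    orderOf x ∣ Nat.card ↥(Subgroup.centralizer {g}) ∧ x ^ 𝕄 = 1 := by
  obtain ⟨c, hc⟩ := hx
  have h := Subgroup.orderOf_dvd_natCard _ hc
  rw [show orderOf (c * x * c⁻¹) = orderOf x from (MulAut.conj c).orderOf_eq x] at h
  exact ⟨h, orderOf_dvd_iff_pow_eq_one.1 (h.trans (centralizer_prime_M Z hK hm hl hg hlM).2.1)⟩

set_option maxHeartbeats 1000000 in
/-- The two classes of tori. -/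
theorem exists_pair (hm : 1 ≤ m) : ∃ (g₁ g₂ : ↥G₁) (l₁ l₂ : ℕ), l₁.Prime ∧ orderOf g₁ = l₁ ∧ l₁ ∣ 𝕄 ∧
    l₂.Prime ∧ orderOf g₂ = l₂ ∧ l₂ ∣ 𝕄 ∧
    Nat.card ↥(Subgroup.centralizer {g₁}) = 3 ^ (2 * m + 1) - 3 ^ (m + 1) + 1 ∧
    Nat.card ↥(Subgroup.centralizer {g₂}) = 3 ^ (2 * m + 1) + 3 ^ (m + 1) + 1 ∧
    Nat.card ↥(Subgroup.normalizer ((Subgroup.centralizer {g₁} : Subgroup ↥G₁) : Set ↥G₁)) =
      6 * Nat.card ↥(Subgroup.centralizer {g₁}) ∧
    Nat.card ↥(Subgroup.normalizer ((Subgroup.centralizer {g₂} : Subgroup ↥G₁) : Set ↥G₁)) =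
      6 * Nat.card ↥(Subgroup.centralizer {g₂}) ∧
    Nat.Coprime (Nat.card ↥(Subgroup.centralizer {g₁})) (Nat.card ↥(Subgroup.centralizer {g₂})) ∧
    ∀ x : ↥G₁, x ^ 𝕄 = 1 → x ≠ 1 → (∃ c, c * x * c⁻¹ ∈ Subgroup.centralizer {g₁}) ∨
      ∃ c, c * x * c⁻¹ ∈ Subgroup.centralizer {g₂} := by
  classical
  obtain ⟨n, s, M, hn, -, hs, -, -, -, hM, -, -, -, -, -, hM'⟩ := q_facts m
  have hG := card_genG Z hK
  rw [hM', ← mul_assoc] at hG
  have hR := card_M_elements Z hK hm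
  have hq27 : 3 ^ 3 ≤ 3 ^ (2 * m + 1) := Nat.pow_le_pow_right (by norm_num) (by omega)
  set q := 3 ^ (2 * m + 1) with hq
  set Q := q ^ 3 * (q - 1) * (q + 1) with hQ
  have hQ0 : 0 < Q := by
    rw [hQ]; exact Nat.mul_pos (Nat.mul_pos (pow_pos (by omega) _) (by omega)) (by omega)
  obtain ⟨R, hRdef⟩ : ∃ R, Nat.card {x : ↥G₁ // x ^ (q ^ 2 - q + 1) = 1 ∧ x ≠ 1} = R := ⟨_, rfl⟩
  rw [hRdef, show (3 : ℤ) ^ (2 * m + 1) = (q : ℤ) by rw [hq]; push_cast; rfl] at hR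
  have hqq : 2 * q ≤ q ^ 2 := by nlinarith
  have hMz : (M : ℤ) = (q : ℤ) ^ 2 - q + 1 := by
    rw [← hM]; push_cast [Nat.cast_sub (show q ≤ q ^ 2 by omega)]; ring
  have hQz : (Q : ℤ) = (q : ℤ) ^ 3 * ((q : ℤ) - 1) * ((q : ℤ) + 1) := by
    rw [hQ]; push_cast [Nat.cast_sub (show 1 ≤ q by omega)]; ring
  rw [← hQz] at hR
  have h3R : 3 * R < Nat.card ↥G₁ := by
    rw [hG]
    have : (3 * R : ℤ) < (Q : ℤ) * M := by
      rw [hR, hMz]
      have : (0 : ℤ) < Q := by exact_mod_cast hQ0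
      nlinarith
    exact_mod_cast this
  -- the number of elements in two or three classes
  have hle : ∀ (ι : Type) [Fintype ι] (f : ι → ↥G₁) (p : ι → ℕ), (∀ i, (p i).Prime) →
      (∀ i, orderOf (f i) = p i) → (∀ i, p i ∣ q ^ 2 - q + 1) →
      (∀ i j, i ≠ j → Nat.Coprime (Nat.card ↥(Subgroup.centralizer {f i}))
        (Nat.card ↥(Subgroup.centralizer {f j}))) →
      ∑ i, Nat.card (Cls(f i)) ≤ R ∧
        ((∀ x : ↥G₁, x ^ (q ^ 2 - q + 1) = 1 → x ≠ 1 →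
          ∃ i c, c * x * c⁻¹ ∈ Subgroup.centralizer {f i}) → R = ∑ i, Nat.card (Cls(f i))) := by
    intro ι _ f p hp hf hpM hcop
    rw [← hRdef, ← Nat.card_sigma]
    let φ : (Σ i, Cls(f i)) → {x : ↥G₁ // x ^ (q ^ 2 - q + 1) = 1 ∧ x ≠ 1} := fun z =>
      ⟨z.2.1, (cls_M Z hK hm (hp z.1) (hf z.1) (hpM z.1) z.2.2.2).2, z.2.2.1⟩
    have hφ : Function.Injective φ := by
      rintro ⟨i, x, hx1, hx⟩ ⟨j, x', hx1', hx'⟩ h
      obtain rfl : x = x' := congrArg Subtype.val h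
      obtain rfl : i = j := by
        by_contra hij
        exact hx1 (orderOf_eq_one_iff.1 (Nat.eq_one_of_dvd_coprimes (hcop i j hij)
          (cls_M Z hK hm (hp i) (hf i) (hpM i) hx).1 (cls_M Z hK hm (hp j) (hf j) (hpM j) hx').1))
      rfl
    refine ⟨Nat.card_le_card_of_injective φ hφ, fun hcov => ?_⟩
    refine (Nat.card_congr (Equiv.ofBijective φ ⟨hφ, ?_⟩)).symm
    rintro ⟨x, hx, hx1⟩
    obtain ⟨i, c, hc⟩ := hcov x hx hx1
    exact ⟨⟨i, x, hx1, c, hc⟩, rfl⟩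
  have hpick : ∀ r : ℕ, r.Prime → r ∣ q ^ 2 - q + 1 → ∃ g : ↥G₁, orderOf g = r := by
    intro r hr hrM
    have := Fact.mk hr
    refine exists_prime_orderOf_dvd_card' r ?_
    rw [hG, ← hM]
    exact hrM.mul_left _
  have hone : q ^ 2 - q + 1 ≠ 1 := by omega
  obtain ⟨l₁, hl₁, hl₁M⟩ := Nat.exists_prime_and_dvd hone
  obtain ⟨g₁, hg₁⟩ := hpick l₁ hl₁ hl₁M
  obtain ⟨k₁, hk₁, ha₁, hN₁, hS₁⟩ := torus_M_class Z hK hm hl₁ hg₁ hl₁M
  have hdvd₁ := (centralizer_prime_M Z hK hm hl₁ hg₁ hl₁M).2.1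
  obtain ⟨hb₁, hb₁'⟩ := class_bound hS₁ ha₁ hk₁
  set a₁ := Nat.card ↥(Subgroup.centralizer {g₁}) with ha₁def
  have hcard₁ := (Subgroup.centralizer {g₁}).card_mul_index
  rw [← ha₁def, hG, ← hM] at hcard₁
  -- a second class
  have hex : ∃ l₂, l₂.Prime ∧ l₂ ∣ q ^ 2 - q + 1 ∧ ¬ l₂ ∣ a₁ := by
    by_contra hne
    simp only [not_exists, not_and, not_not] at hne
    have heq : a₁ = M := by
      rw [← hM]
      obtain ⟨t, ht⟩ := hdvd₁
      rw [ht]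
      rcases eq_or_ne t 1 with rfl | ht1
      · rw [mul_one]
      · exfalso
        obtain ⟨r, hr, hrt⟩ := Nat.exists_prime_and_dvd ht1
        have := Fact.mk hr
        have hra : r ∣ a₁ := hne r hr (ht ▸ hrt.mul_left a₁)
        refine eq_mul_of_hall (Q := Q) hcard₁.symm ⟨t, ht⟩ dvd_rfl hra
          (torus_M_hall Z hK hm hl₁ hg₁ hl₁M hra) (by omega) ?_
        rwa [ht, Nat.mul_div_cancel_left _ (by omega : 0 < a₁)]
    have hR1 := (hle Unit (fun _ => g₁) (fun _ => l₁) (fun _ => hl₁) (fun _ => hg₁) (fun _ => hl₁M)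
      (fun i j h => absurd (Subsingleton.elim i j) h)).2 (fun x hx hx1 => by
        obtain ⟨r, hr, hrx⟩ := Nat.exists_prime_and_dvd (fun e => hx1 (orderOf_eq_one_iff.1 e))
        exact ⟨(), conj_into_M Z hK hm hl₁ hg₁ hl₁M hr hrx
          (hne r hr (hrx.trans (orderOf_dvd_of_pow_eq_one hx)))⟩)
    simp only [Finset.univ_unique, Finset.sum_singleton] at hR1
    rw [← hR1, hG, heq] at hS₁
    have hkz : (k₁ : ℤ) * ((q : ℤ) ^ 2 - 2 * q) = 3 * ((q : ℤ) ^ 2 - q) := by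
      have h1 : ((R * (k₁ * M) : ℕ) : ℤ) = ((Q * M * (M - 1) : ℕ) : ℤ) := by rw [hS₁]
      push_cast [Nat.cast_sub (show 1 ≤ M by omega)] at h1
      have hne0 : (Q : ℤ) * (M : ℤ) ≠ 0 := by
        have : 0 < Q * M := Nat.mul_pos hQ0 (by omega)
        exact_mod_cast this.ne'
      refine mul_left_cancel₀ hne0 ?_
      linear_combination 3 * h1 - (k₁ : ℤ) * M * hR + 3 * (Q : ℤ) * M * hMz
    exact no_single hk₁ (by exact_mod_cast hq27) hkz
  obtain ⟨l₂, hl₂, hl₂M, hl₂a⟩ := hex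
  obtain ⟨g₂, hg₂⟩ := hpick l₂ hl₂ hl₂M
  obtain ⟨k₂, hk₂, ha₂, hN₂, hS₂⟩ := torus_M_class Z hK hm hl₂ hg₂ hl₂M
  have hdvd₂ := (centralizer_prime_M Z hK hm hl₂ hg₂ hl₂M).2.1
  obtain ⟨hb₂, hb₂'⟩ := class_bound hS₂ ha₂ hk₂
  have hcop : Nat.Coprime a₁ (Nat.card ↥(Subgroup.centralizer {g₂})) :=
    coprime_M Z hK hm hl₁ hg₁ hl₁M hl₂ hg₂ hl₂M hl₂a
  set a₂ := Nat.card ↥(Subgroup.centralizer {g₂}) with ha₂def
  have hcard₂ := (Subgroup.centralizer {g₂}).card_mul_index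
  rw [← ha₂def, hG, ← hM] at hcard₂
  have h2le := hle (Fin 2) ![g₁, g₂] ![l₁, l₂] (by simp [Fin.forall_fin_two, hl₁, hl₂])
    (by simp [Fin.forall_fin_two, hg₁, hg₂]) (by simp [Fin.forall_fin_two, hl₁M, hl₂M])
    (by
      intro i j hij
      fin_cases i <;> fin_cases j <;> first | exact absurd rfl hij | exact hcop | exact hcop.symm)
  simp only [Fin.sum_univ_two, Matrix.cons_val_zero, Matrix.cons_val_one] at h2le
  have hk6 : k₁ = 6 ∧ k₂ = 6 := by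
    constructor <;> by_contra hne
    · have := hb₁' hne
      omega
    · have := hb₂' hne
      omega
  obtain ⟨rfl, rfl⟩ := hk6
  -- no third class
  have hall : ∀ r : ℕ, r.Prime → r ∣ q ^ 2 - q + 1 → r ∣ a₁ ∨ r ∣ a₂ := by
    intro r hr hrM
    by_contra hne
    rw [not_or] at hne
    obtain ⟨g₃, hg₃⟩ := hpick r hr hrM
    obtain ⟨k₃, hk₃, ha₃, -, hS₃⟩ := torus_M_class Z hK hm hr hg₃ hrM
    obtain ⟨hb₃, -⟩ := class_bound hS₃ ha₃ hk₃
    have c13 := coprime_M Z hK hm hl₁ hg₁ hl₁M hr hg₃ hrM hne.1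
    have c23 := coprime_M Z hK hm hl₂ hg₂ hl₂M hr hg₃ hrM hne.2
    have h3le := (hle (Fin 3) ![g₁, g₂, g₃] ![l₁, l₂, r] (by simp [Fin.forall_fin_succ, hl₁, hl₂, hr])
      (by simp [Fin.forall_fin_succ, hg₁, hg₂, hg₃]) (by simp [Fin.forall_fin_succ, hl₁M, hl₂M, hrM])
      (by
        intro i j hij
        fin_cases i <;> fin_cases j <;> first | exact absurd rfl hij | exact hcop | exact hcop.symm | exact c13 | exact c13.symm | exact c23 | exact c23.symm)).1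
    simp only [Fin.sum_univ_three, Matrix.cons_val_zero, Matrix.cons_val_one, Matrix.cons_val] at h3le
    omega
  have hprod : a₁ * a₂ = q ^ 2 - q + 1 := by
    obtain ⟨t, ht⟩ := hcop.mul_dvd_of_dvd_of_dvd hdvd₁ hdvd₂
    rcases eq_or_ne t 1 with rfl | ht1
    · rw [ht, mul_one]
    · exfalso
      obtain ⟨r, hr, hrt⟩ := Nat.exists_prime_and_dvd ht1
      have := Fact.mk hr
      have hrd : r ∣ (q ^ 2 - q + 1) / (a₁ * a₂) := by
        rwa [ht, Nat.mul_div_cancel_left _ (Nat.mul_pos (by omega) (by omega))]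
      rcases hall r hr (ht ▸ hrt.mul_left _) with h | h
      · exact eq_mul_of_hall (Q := Q) hcard₁.symm ⟨t, ht⟩ (dvd_mul_right _ _) h
          (torus_M_hall Z hK hm hl₁ hg₁ hl₁M h) (by omega) hrd
      · exact eq_mul_of_hall (Q := Q) hcard₂.symm ⟨t, ht⟩ (dvd_mul_left _ _) h
          (torus_M_hall Z hK hm hl₂ hg₂ hl₂M h) (by omega) hrd
  have hcov : ∀ x : ↥G₁, x ^ (q ^ 2 - q + 1) = 1 → x ≠ 1 →
      (∃ c, c * x * c⁻¹ ∈ Subgroup.centralizer {g₁}) ∨ ∃ c, c * x * c⁻¹ ∈ Subgroup.centralizer {g₂} := by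
    intro x hx hx1
    obtain ⟨r, hr, hrx⟩ := Nat.exists_prime_and_dvd (fun e => hx1 (orderOf_eq_one_iff.1 e))
    rcases hall r hr (hrx.trans (orderOf_dvd_of_pow_eq_one hx)) with h | h
    · exact Or.inl (conj_into_M Z hK hm hl₁ hg₁ hl₁M hr hrx h)
    · exact Or.inr (conj_into_M Z hK hm hl₂ hg₂ hl₂M hr hrx h)
  have hRsum := h2le.2 fun x hx hx1 => (hcov x hx hx1).elim (fun h => ⟨0, h⟩) (fun h => ⟨1, h⟩)
  have hsum : a₁ + a₂ = 2 * q + 2 := by
    have e1 : ((Nat.card (Cls(g₁)) * (6 * a₁) : ℕ) : ℤ) = ((Q * M * (a₁ - 1) : ℕ) : ℤ) := by rw [hS₁, hG]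
    have e2 : ((Nat.card (Cls(g₂)) * (6 * a₂) : ℕ) : ℤ) = ((Q * M * (a₂ - 1) : ℕ) : ℤ) := by rw [hS₂, hG]
    have hp : ((a₁ : ℤ)) * a₂ = (M : ℤ) := by rw [← hM, ← hprod]; push_cast; ring
    have hRz : (R : ℤ) = (Nat.card (Cls(g₁)) : ℤ) + Nat.card (Cls(g₂)) := by rw [hRsum]; push_cast; rfl
    push_cast [Nat.cast_sub (show 1 ≤ a₁ by omega), Nat.cast_sub (show 1 ≤ a₂ by omega)] at e1 e2
    have hne0 : (Q : ℤ) * (M : ℤ) ≠ 0 := by
      have : 0 < Q * M := Nat.mul_pos hQ0 (by omega)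
      exact_mod_cast this.ne'
    have : ((a₁ : ℤ) + a₂) = 2 * q + 2 := by
      refine mul_left_cancel₀ hne0 ?_
      linear_combination (-2 * (M : ℤ)) * hR + (6 * (M : ℤ)) * hRz + (a₂ : ℤ) * e1 + (a₁ : ℤ) * e2 +
        (2 * (Q : ℤ) * M) * hMz +
        (-6 * (Nat.card (Cls(g₁)) : ℤ) - 6 * (Nat.card (Cls(g₂)) : ℤ) + 2 * (Q : ℤ) * M) * hp
    exact_mod_cast this
  -- identify the two orders
  set r := 3 ^ (m + 1) with hr
  have hr2 : r ^ 2 = 3 * q := by rw [hr, hq, ← pow_mul, ← pow_succ']; congr 1; ring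
  have hrq : r ≤ q := Nat.pow_le_pow_right (by norm_num) (by omega)
  have hcase : a₁ + r = q + 1 ∨ a₁ = q + 1 + r := by
    have hz : ((a₁ : ℤ) + r - (q + 1)) * ((a₁ : ℤ) - (q + 1 + r)) = 0 := by
      have e1 : ((a₁ * a₂ : ℕ) : ℤ) = (M : ℤ) := by rw [hprod, hM]
      have e2 : ((a₁ : ℤ) + a₂) = 2 * q + 2 := by exact_mod_cast hsum
      have e3 : ((r : ℤ)) ^ 2 = 3 * q := by exact_mod_cast hr2
      push_cast at e1
      linear_combination -e1 + (a₁ : ℤ) * e2 - hMz - e3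
    rcases mul_eq_zero.1 hz with h | h
    · exact Or.inl (by omega)
    · exact Or.inr (by omega)
  rcases hcase with h | h
  · exact ⟨g₁, g₂, l₁, l₂, hl₁, hg₁, hl₁M, hl₂, hg₂, hl₂M, by omega, by omega, hN₁, hN₂, hcop, hcov⟩
  · exact ⟨g₂, g₁, l₂, l₁, hl₂, hg₂, hl₂M, hl₁, hg₁, hl₁M, by omega, by omega, hN₂, hN₁, hcop.symm,
      fun x hx hx1 => (hcov x hx hx1).symm⟩

end Cfsg.Agent.Twisted.TypeG2
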