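import Cfsg.Agent.Lib.Ree.TorusH
import Cfsg.Agent.Lib.Ree.Rotations
import Cfsg.Agent.Lib.LinearGroup.Card
import Cfsg.Agent.Lib.RankOne.OddOrder

/-!
The torus of order `q + 1` of the small Ree group.
-/

set_option autoImplicit false
set_option linter.unusedSectionVars false

namespace Cfsg.Agent.Twisted.TypeG2

open ChevGroup ChevIsogeny Cfsg.Lie
open scoped MatrixGroups

/-- An element of prime order `l` is conjugate into a subgroup of index prime to `l`. -/
theorem exists_conj_mem_of_index {G : Type*} [Group G] [Finite G] (T : Subgroup G) {l : ℕ}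
    [Fact l.Prime] (h : ¬ l ∣ T.index) {y : G} (hy : y ^ l = 1) : ∃ c, c * y * c⁻¹ ∈ T := by
  have hp : IsPGroup l ↥(Subgroup.zpowers y) := by
    rcases (Nat.dvd_prime (Fact.out : l.Prime)).1 (orderOf_dvd_of_pow_eq_one hy) with h1 | h1
    · exact IsPGroup.of_card (n := 0) (by rw [Nat.card_zpowers, h1, pow_zero])
    · exact IsPGroup.of_card (n := 1) (by rw [Nat.card_zpowers, h1, pow_one])
  obtain ⟨o, ho⟩ := hp.nonempty_fixed_point_of_prime_not_dvd_card (G ⧸ T) h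
  obtain ⟨g, rfl⟩ := QuotientGroup.mk_surjective o
  refine ⟨g⁻¹, ?_⟩
  have h1 : ((y * g : G) : G ⧸ T) = (g : G ⧸ T) := ho ⟨y, Subgroup.mem_zpowers y⟩
  have h2 := QuotientGroup.eq.1 h1.symm
  rwa [inv_inv, mul_assoc]

variable {F : Type*} [Field F] [Fintype F] {m : ℕ} {K : Rels chevG2 F}

variable (Z : Frame (T := MT) K PP (3 ^ m) fd) (hK : Fintype.card F = 3 ^ (2 * m + 1))

set_option quotPrecheck false in
local notation "G₁" => genG MT K (g2Words F (3 ^ m))

set_option quotPrecheck false in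
local notation "𝔻" => (gens Z hK).data

include hK

theorem neg_one_not_sq : ∀ x : F, x ^ 2 ≠ -1 := by
  intro x hx
  have h := FiniteField.isSquare_neg_one_iff.1 (⟨x, by rw [← sq, hx]⟩ : IsSquare (-1 : F))
  apply h
  rw [hK, pow_succ, pow_mul, Nat.mul_mod, Nat.pow_mod]
  norm_num

theorem two_ne_F : (2 : F) ≠ 0 := fun e =>
  one_ne_zero (show (1 : F) = 0 by linear_combination (pow_facts hK).1 - e)

omit [Fintype F] hK in
theorem quarter : ∃ s, 3 ^ (2 * m + 1) + 1 = 4 * s ∧ Odd s ∧ (3 ^ (2 * m + 1) + 1) / 4 = s ∧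
    (3 ^ (2 * m + 1) + 1) / 2 = 2 * s := by
  have h8 : 3 ^ (2 * m + 1) % 8 = 3 := by
    rw [pow_succ, pow_mul, Nat.mul_mod, Nat.pow_mod]
    norm_num
  refine ⟨2 * (3 ^ (2 * m + 1) / 8) + 1, ?_, ⟨_, rfl⟩, ?_, ?_⟩ <;> omega

include Z

/-- a generator of the rotations -/
noncomputable def rotGen (hK : Fintype.card F = 3 ^ (2 * m + 1)) : SL(2, F) :=
  ((ReeSL2.isCyclic_rot (neg_one_not_sq (F := F) (m := m) hK)).exists_generator.choose :
    ReeSL2.rot F)

/-- the image of the generator of the rotations -/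
noncomputable def rrG : ↥G₁ := slG Z hK (rotGen hK)

omit Z in
theorem rotGen_spec : rotGen (F := F) (m := m) hK ∈ ReeSL2.rot F ∧
    (∀ g ∈ ReeSL2.rot F, g ∈ Subgroup.zpowers (rotGen (F := F) (m := m) hK)) ∧
    orderOf (rotGen (F := F) (m := m) hK) = 3 ^ (2 * m + 1) + 1 := by
  have hs := (ReeSL2.isCyclic_rot (neg_one_not_sq (F := F) (m := m) hK)).exists_generator.choose_spec
  refine ⟨Subtype.prop _, fun g hg => ?_, ?_⟩
  · obtain ⟨k, hk⟩ := hs ⟨g, hg⟩
    exact ⟨k, congrArg Subtype.val hk⟩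
  · rw [← hK, ← ReeSL2.card_rot (neg_one_not_sq (F := F) (m := m) hK) (two_ne_F hK), rotGen,
      Subgroup.orderOf_coe, orderOf_eq_card_of_forall_mem_zpowers hs]

omit [Fintype F] Z hK in
theorem neg_one_mem_rot : (-1 : SL(2, F)) ∈ ReeSL2.rot F := by
  simp [ReeSL2.mem_rot]

theorem orderOf_rrG : orderOf (rrG Z hK) = (3 ^ (2 * m + 1) + 1) / 2 := by
  obtain ⟨hmem, hgen, hord⟩ := rotGen_spec (F := F) (m := m) hK
  obtain ⟨s, hs, -, -, hs2⟩ := quarter (m := m)
  rw [hs2]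
  set g := rotGen (F := F) (m := m) hK with hg
  set d := orderOf (rrG Z hK) with hd
  have h1 : slG Z hK g ^ d = 1 := pow_orderOf_eq_one _
  rw [← map_pow, slG_eq_one_iff] at h1
  have h2 : g ^ (2 * d) = 1 := by
    rw [mul_comm, pow_mul]
    rcases h1 with e | e <;> rw [e] <;> simp [sq]
  have h3 : 4 * s ∣ 2 * d := by rw [← hs, ← hord]; exact orderOf_dvd_of_pow_eq_one h2
  obtain ⟨j, hj⟩ := hgen (-1) neg_one_mem_rot
  have hne : (-1 : SL(2, F)) ≠ 1 := fun e => by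
    have h := congrFun₂ (congrArg Subtype.val e) 0 0
    simp at h
    exact two_ne_F hK (by linear_combination -h)
  have h4 : d ≠ 4 * s := by
    intro e
    have h5 : slG Z hK g ^ j = 1 := by rw [← map_zpow]; exact (slG_eq_one_iff Z hK).2 (Or.inr hj)
    have h6 : (d : ℤ) ∣ j := orderOf_dvd_iff_zpow_eq_one.2 h5
    have h7 : (orderOf g : ℤ) ∣ j := by rw [hord, hs, ← e]; exact h6
    exact hne (hj.symm.trans (orderOf_dvd_iff_zpow_eq_one.1 h7))
  have h5 : d ∣ 4 * s := by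
    rw [← hs, ← hord]
    exact orderOf_map_dvd (slG Z hK) g
  obtain ⟨k, hk⟩ := h3
  have hk' : d = 2 * s * k := by linarith
  rw [hk'] at h5 h4
  obtain ⟨l, hl⟩ := h5
  have hs0 : 0 < s := by omega
  have hkl : k * l = 2 := by nlinarith
  rcases (Nat.dvd_prime Nat.prime_two).1 (Dvd.intro l hkl) with rfl | rfl
  · omega
  · omega

/-- the torus of order `q + 1`, the product of the four group and the cyclic group -/
noncomputable def qTorHom : Multiplicative (ZMod 2) × ↥(Subgroup.zpowers (rrG Z hK)) →* ↥G₁ :=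
  (flip2 (aG Z hK) (aG_sq Z hK)).noncommCoprod (Subgroup.zpowers (rrG Z hK)).subtype
    fun e x => by
      obtain ⟨k, hk⟩ := Subgroup.mem_zpowers_iff.1 x.2
      rw [Subgroup.coe_subtype, ← hk]
      rcases two_cases e with rfl | rfl
      · rw [flip2_one]; exact Commute.one_left _
      · rw [flip2_apply]; exact (slG_commute Z hK _).zpow_right k

/-- the torus of order `q + 1` -/
noncomputable def qTor : Subgroup ↥G₁ := (qTorHom Z hK).range

/-- the cyclic subgroup of order `(q + 1)/4` -/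
noncomputable def qHalf : Subgroup ↥G₁ := Subgroup.zpowers (rrG Z hK ^ 2)

theorem qTorHom_inj : Function.Injective (qTorHom Z hK) := by
  rw [injective_iff_map_eq_one]
  rintro ⟨e, x⟩ h
  rw [qTorHom, MonoidHom.noncommCoprod_apply, Subgroup.coe_subtype] at h
  rcases two_cases e with rfl | rfl
  · rw [flip2_one, one_mul] at h
    exact Prod.ext rfl (Subtype.ext h)
  · exfalso
    obtain ⟨k, hk⟩ := Subgroup.mem_zpowers_iff.1 x.2
    rw [flip2_apply] at h
    refine slG_ne_aG Z hK (rotGen hK ^ k) ?_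
    rw [map_zpow]
    show rrG Z hK ^ k = _
    rw [hk, eq_inv_of_mul_eq_one_right h]
    exact inv_eq_of_mul_eq_one_right (aG_sq Z hK)

theorem card_qTor : Nat.card ↥(qTor Z hK) = 3 ^ (2 * m + 1) + 1 := by
  obtain ⟨s, hs, -, -, hs2⟩ := quarter (m := m)
  rw [qTor, ← Nat.card_congr (MonoidHom.ofInjective (qTorHom_inj Z hK)).toEquiv, Nat.card_prod,
    Nat.card_zpowers, orderOf_rrG Z hK, hs2]
  simp [Nat.card_eq_fintype_card]
  omega

theorem qTor_comm {x y : ↥G₁} (hx : x ∈ qTor Z hK) (hy : y ∈ qTor Z hK) : Commute x y := by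
  obtain ⟨e, rfl⟩ := hx
  obtain ⟨e', rfl⟩ := hy
  refine Commute.map ?_ (qTorHom Z hK)
  obtain ⟨k, hk⟩ := Subgroup.mem_zpowers_iff.1 e.2.2
  obtain ⟨k', hk'⟩ := Subgroup.mem_zpowers_iff.1 e'.2.2
  refine Prod.ext (mul_comm _ _) (Subtype.ext ?_)
  show (e.2 : ↥G₁) * e'.2 = e'.2 * e.2
  rw [← hk, ← hk']
  exact zpow_mul_comm _ k k'

theorem mem_qTor_iff {x : ↥G₁} : x ∈ qTor Z hK ↔
    ∃ g ∈ ReeSL2.rot F, x = slG Z hK g ∨ x = aG Z hK * slG Z hK g := by
  obtain ⟨hmem, hgen, -⟩ := rotGen_spec (F := F) (m := m) hK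
  constructor
  · rintro ⟨⟨e, y⟩, rfl⟩
    obtain ⟨k, hk⟩ := Subgroup.mem_zpowers_iff.1 y.2
    refine ⟨rotGen hK ^ k, zpow_mem hmem k, ?_⟩
    rw [map_zpow, qTorHom, MonoidHom.noncommCoprod_apply, Subgroup.coe_subtype, ← hk]
    rcases two_cases e with rfl | rfl
    · rw [flip2_one, one_mul]; exact Or.inl rfl
    · rw [flip2_apply]; exact Or.inr rfl
  · rintro ⟨g, hg, h⟩
    obtain ⟨k, hk⟩ := Subgroup.mem_zpowers_iff.1 (hgen g hg)
    have hr : slG Z hK g = rrG Z hK ^ k := by rw [← hk, map_zpow]; rfl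
    rcases h with rfl | rfl
    · exact ⟨(1, ⟨_, k, hr.symm⟩), by
        rw [qTorHom, MonoidHom.noncommCoprod_apply, flip2_one, one_mul]; rfl⟩
    · exact ⟨(Multiplicative.ofAdd 1, ⟨_, k, hr.symm⟩), by
        rw [qTorHom, MonoidHom.noncommCoprod_apply, flip2_apply]; rfl⟩

theorem aG_mem_qTor : aG Z hK ∈ qTor Z hK :=
  (mem_qTor_iff Z hK).2 ⟨1, one_mem _, Or.inr (by rw [map_one, mul_one])⟩

theorem pG_mem_qTor : pG Z hK ∈ qTor Z hK := by
  refine (mem_qTor_iff Z hK).2 ⟨ReeSL2.weyl, ?_, Or.inl rfl⟩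
  simp [ReeSL2.mem_rot, ReeSL2.weyl_coe]

theorem qTor_le_centralizer_aG : qTor Z hK ≤ Subgroup.centralizer {aG Z hK} := fun _ hx =>
  Subgroup.mem_centralizer_singleton_iff.2 (qTor_comm Z hK hx (aG_mem_qTor Z hK)).eq

theorem qHalf_le : qHalf Z hK ≤ qTor Z hK := by
  rw [qHalf, Subgroup.zpowers_le]
  exact (mem_qTor_iff Z hK).2 ⟨rotGen hK ^ 2, pow_mem (rotGen_spec (m := m) hK).1 2,
    Or.inl (by rw [map_pow]; rfl)⟩

theorem card_qHalf : Nat.card ↥(qHalf Z hK) = (3 ^ (2 * m + 1) + 1) / 4 := by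
  obtain ⟨s, -, -, hs4, hs2⟩ := quarter (m := m)
  rw [qHalf, Nat.card_zpowers, orderOf_pow' _ two_ne_zero, orderOf_rrG Z hK, hs2, hs4,
    Nat.gcd_eq_right (dvd_mul_right 2 s), Nat.mul_div_cancel_left _ two_pos]

theorem qHalf_pow {x : ↥G₁} (hx : x ∈ qHalf Z hK) : x ^ ((3 ^ (2 * m + 1) + 1) / 4) = 1 := by
  rw [← card_qHalf Z hK]
  exact orderOf_dvd_iff_pow_eq_one.1 (Subgroup.orderOf_dvd_natCard _ hx)

theorem sq_mem_qHalf {x : ↥G₁} (hx : x ∈ qTor Z hK) : x ^ 2 ∈ qHalf Z hK := by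
  obtain ⟨g, hg, h⟩ := (mem_qTor_iff Z hK).1 hx
  obtain ⟨k, hk⟩ := Subgroup.mem_zpowers_iff.1 ((rotGen_spec (m := m) hK).2.1 g hg)
  have hr : slG Z hK g ^ 2 = (rrG Z hK ^ 2) ^ k := by
    rw [← hk, map_zpow, ← zpow_natCast, ← zpow_mul, ← zpow_natCast, ← zpow_mul, mul_comm]
    rfl
  have hx2 : x ^ 2 = slG Z hK g ^ 2 := by
    rcases h with rfl | rfl
    · rfl
    · rw [(slG_commute Z hK g).mul_pow, sq (aG Z hK), aG_sq Z hK, one_mul]
  rw [hx2, hr]
  exact zpow_mem (Subgroup.mem_zpowers _) k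

/-- An element of the centraliser of `a` commuting with a rotation of order above `2` is in the torus. -/
theorem mem_qTor_of_commute {g : SL(2, F)} (hg : g ∈ ReeSL2.rot F) (hg2 : slG Z hK g ^ 2 ≠ 1)
    {y : ↥G₁} (hy : y ∈ Subgroup.centralizer {aG Z hK}) (hc : Commute y (slG Z hK g)) :
    y ∈ qTor Z hK := by
  rw [← centHom_range Z hK] at hy
  obtain ⟨⟨e, t⟩, rfl⟩ := hy
  obtain ⟨h, rfl⟩ := QuotientGroup.mk'_surjective _ t
  rw [centHom, MonoidHom.noncommCoprod_apply, pslG_mk] at hc ⊢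
  have hflip : Commute (flip2 (aG Z hK) (aG_sq Z hK) e) (slG Z hK g) ∧
      flip2 (aG Z hK) (aG_sq Z hK) e ∈ qTor Z hK := by
    rcases two_cases e with rfl | rfl
    · rw [flip2_one]; exact ⟨Commute.one_left _, one_mem _⟩
    · rw [flip2_apply]; exact ⟨slG_commute Z hK g, aG_mem_qTor Z hK⟩
  have hc' : slG Z hK h * slG Z hK g = slG Z hK g * slG Z hK h := by
    have h1 := hflip.1.inv_left.mul_left hc
    rw [inv_mul_cancel_left] at h1
    exact h1.eq
  refine mul_mem hflip.2 ((mem_qTor_iff Z hK).2 ⟨h, ?_, Or.inl rfl⟩)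
  have hsl : slG Z hK (h * g * (g * h)⁻¹) = 1 := by
    rw [map_mul, map_mul, map_inv, map_mul, hc', mul_inv_cancel]
  have hpm : h * g = g * h ∨ h * g = -(g * h) := by
    rcases (slG_eq_one_iff Z hK).1 hsl with e | e
    · exact Or.inl (mul_inv_eq_one.1 e)
    · exact Or.inr (by rw [mul_inv_eq_iff_eq_mul.1 e, neg_one_mul])
  have hdet := ReeSL2.det_rel (rankRel Z hK) h
  have hd := ReeSL2.rot_det hg
  obtain ⟨hg11, hg10⟩ := hg
  obtain ⟨c, ec⟩ : ∃ c, g 0 0 = c := ⟨_, rfl⟩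
  obtain ⟨s, es⟩ : ∃ s, g 0 1 = s := ⟨_, rfl⟩
  rw [ec] at hg11
  rw [es] at hg10
  rw [ec, es] at hd
  have hcs : c ≠ 0 ∧ s ≠ 0 := by
    constructor <;> intro e0 <;> subst e0 <;> apply hg2 <;> rw [← map_pow, slG_eq_one_iff]
    · right
      ext i j
      fin_cases i <;> fin_cases j <;> simp [sq, mul_entry, ec, es, hg11, hg10] <;>
        linear_combination hd
    · left
      ext i j
      fin_cases i <;> fin_cases j <;> simp [sq, mul_entry, ec, es, hg11, hg10] <;>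
        linear_combination hd
  obtain ⟨hc0, hs0⟩ := hcs
  obtain ⟨al, eal⟩ : ∃ x, h 0 0 = x := ⟨_, rfl⟩
  obtain ⟨be, ebe⟩ : ∃ x, h 0 1 = x := ⟨_, rfl⟩
  obtain ⟨ga, ega⟩ : ∃ x, h 1 0 = x := ⟨_, rfl⟩
  obtain ⟨de, ede⟩ : ∃ x, h 1 1 = x := ⟨_, rfl⟩
  rw [eal, ebe, ega, ede] at hdet
  rw [ReeSL2.mem_rot, eal, ebe, ega, ede]
  rcases hpm with e | e
  · have e00 := congrFun₂ (congrArg Subtype.val e) 0 0
    have e01 := congrFun₂ (congrArg Subtype.val e) 0 1
    simp only [mul_entry, ec, es, hg11, hg10, eal, ebe, ega, ede] at e00 e01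
    refine ⟨mul_left_cancel₀ hs0 ?_, mul_left_cancel₀ hs0 ?_⟩
    · linear_combination -e01
    · linear_combination -e00
  · exfalso
    have e00 := congrFun₂ (congrArg Subtype.val e) 0 0
    have e01 := congrFun₂ (congrArg Subtype.val e) 0 1
    have e10 := congrFun₂ (congrArg Subtype.val e) 1 0
    have e11 := congrFun₂ (congrArg Subtype.val e) 1 1
    simp only [mul_entry, neg_entry, ec, es, hg11, hg10, eal, ebe, ega, ede] at e00 e01 e10 e11
    have h2 := two_ne_F (F := F) hK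
    obtain rfl : de = al := mul_left_cancel₀ (mul_ne_zero h2 hc0) (by linear_combination e11 - e00)
    obtain rfl : ga = -be := mul_left_cancel₀ (mul_ne_zero h2 hc0) (by linear_combination e10 + e01)
    have ha : de * (c ^ 2 + s ^ 2) = 0 := by
      refine mul_left_cancel₀ h2 ?_
      linear_combination c * e00 + s * e01
    have hb : be * (c ^ 2 + s ^ 2) = 0 := by
      refine mul_left_cancel₀ h2 ?_
      linear_combination c * e01 - s * e00
    rw [hd, mul_one] at ha hb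
    subst ha hb
    simp at hdet

/-- `C(a) ∩ C(x)` is the torus for `x` in it of order above `2`. -/
theorem centralizer_pair {x : ↥G₁} (hx : x ∈ qTor Z hK) (hx2 : x ^ 2 ≠ 1) :
    Subgroup.centralizer {aG Z hK} ⊓ Subgroup.centralizer {x} = qTor Z hK := by
  refine le_antisymm (fun y hy => ?_) fun y hy =>
    ⟨qTor_le_centralizer_aG Z hK hy,
      Subgroup.mem_centralizer_singleton_iff.2 (qTor_comm Z hK hy hx).eq⟩
  obtain ⟨g, hg, h⟩ := (mem_qTor_iff Z hK).1 hx
  have hya : Commute y (aG Z hK) := Subgroup.mem_centralizer_singleton_iff.1 hy.1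
  have hyx : Commute y x := Subgroup.mem_centralizer_singleton_iff.1 hy.2
  rcases h with rfl | rfl
  · exact mem_qTor_of_commute Z hK hg hx2 hy.1 hyx
  · refine mem_qTor_of_commute Z hK hg ?_ hy.1 ?_
    · rwa [(slG_commute Z hK g).mul_pow, sq (aG Z hK), aG_sq Z hK, one_mul] at hx2
    · have := hya.mul_right hyx
      rwa [← mul_assoc, aG_sq Z hK, one_mul] at this

theorem sq_ne_one_of_pow {x : ↥G₁} (hx : x ^ ((3 ^ (2 * m + 1) + 1) / 4) = 1) (hx1 : x ≠ 1) :
    x ^ 2 ≠ 1 := by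
  intro h
  obtain ⟨s, -, ⟨j, rfl⟩, hs4, -⟩ := quarter (m := m)
  rw [hs4, pow_succ, pow_mul, h, one_pow, one_mul] at hx
  exact hx1 hx

/-- An element of order dividing `(q + 1)/4` of the centraliser of `a` is conjugate into the torus there. -/
theorem exists_conj_qTor {x : ↥G₁} (hxa : x ∈ Subgroup.centralizer {aG Z hK})
    (hx : x ^ ((3 ^ (2 * m + 1) + 1) / 4) = 1) (hx1 : x ≠ 1) :
    ∃ c ∈ Subgroup.centralizer {aG Z hK}, c * x * c⁻¹ ∈ qTor Z hK := by
  obtain ⟨s, hs, hsodd, hs4, -⟩ := quarter (m := m)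
  rw [hs4] at hx
  obtain ⟨g, hg⟩ : ∃ g, x = slG Z hK g := by
    have hxa' := hxa
    rw [← centHom_range Z hK] at hxa'
    obtain ⟨⟨e, t⟩, rfl⟩ := hxa'
    obtain ⟨g, rfl⟩ := QuotientGroup.mk'_surjective _ t
    rw [centHom, MonoidHom.noncommCoprod_apply, pslG_mk] at hx ⊢
    rcases two_cases e with rfl | rfl
    · exact ⟨g, by rw [flip2_one, one_mul]⟩
    · exfalso
      obtain ⟨j, rfl⟩ := hsodd
      rw [flip2_apply, (slG_commute Z hK g).mul_pow, pow_succ (aG Z hK), pow_mul, sq (aG Z hK),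
        aG_sq Z hK, one_pow, one_mul, ← map_pow] at hx
      exact slG_ne_aG Z hK (g ^ (2 * j + 1))
        ((eq_inv_of_mul_eq_one_right hx).trans (inv_eq_of_mul_eq_one_right (aG_sq Z hK)))
  subst hg
  set d := orderOf (slG Z hK g) with hd
  have hd1 : d ≠ 1 := fun e => hx1 (orderOf_eq_one_iff.1 e)
  obtain ⟨l, hl, n, hn⟩ := Nat.exists_prime_and_dvd hd1
  have := Fact.mk hl
  have hls : l ∣ s := (Dvd.intro n hn.symm).trans (orderOf_dvd_of_pow_eq_one hx)
  have hl2 : l ≠ 2 := fun e => Nat.not_even_iff_odd.2 hsodd (even_iff_two_dvd.2 (e ▸ hls))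
  have hnd : n < d := by
    have hd0 : 0 < d := orderOf_pos _
    have := hl.two_le
    rcases Nat.eq_zero_or_pos n with h0 | h0
    · omega
    · rw [hn]; exact lt_mul_left h0 hl.one_lt
  set u := g ^ (2 * n) with hu
  have hu1 : u ^ l = 1 := by
    rw [hu, ← pow_mul, show 2 * n * l = d * 2 by rw [hn]; ring, pow_mul]
    rcases (slG_eq_one_iff Z hK).1 (show slG Z hK (g ^ d) = 1 by
      rw [map_pow, hd, pow_orderOf_eq_one]) with e | e <;> rw [e] <;> simp [sq]
  have hidx : ¬ l ∣ (ReeSL2.rot F).index := by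
    have h1 := (ReeSL2.rot F).card_mul_index
    rw [ReeSL2.card_rot (neg_one_not_sq hK) (two_ne_F hK), LinearGroup.card_SL_two,
      Nat.card_eq_fintype_card, hK] at h1
    set q := 3 ^ (2 * m + 1) with hq
    have hq1 : 1 ≤ q := Nat.one_le_pow _ _ (by norm_num)
    have h2 : q ^ 2 - 1 = (q + 1) * (q - 1) := by
      rw [← Nat.sq_sub_sq, one_pow]
    rw [h2, ← mul_assoc, mul_comm q, mul_assoc] at h1
    rw [Nat.eq_of_mul_eq_mul_left (by omega) h1]
    have hlq : l ∣ q + 1 := hs ▸ hls.mul_left 4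
    intro hdiv
    rcases hl.dvd_mul.1 hdiv with h | h
    · exact hl.one_lt.ne' (Nat.dvd_one.1 ((Nat.dvd_add_iff_right h).2 hlq))
    · have h3 := Nat.dvd_sub hlq h
      rw [show q + 1 - (q - 1) = 2 by omega] at h3
      exact hl2 ((Nat.prime_dvd_prime_iff_eq hl Nat.prime_two).1 h3)
  obtain ⟨c, hc⟩ := exists_conj_mem_of_index _ hidx hu1
  refine ⟨slG Z hK c, Subgroup.mem_centralizer_singleton_iff.2 (slG_commute Z hK c).symm.eq, ?_⟩
  have hcomm : Commute (slG Z hK c * slG Z hK g * (slG Z hK c)⁻¹) (slG Z hK (c * u * c⁻¹)) := by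
    rw [map_mul, map_mul, map_inv, hu, map_pow]
    exact (Commute.conj_iff _).2 ((Commute.refl _).pow_right _)
  refine mem_qTor_of_commute Z hK hc ?_ ?_ hcomm
  · rw [← map_pow, conj_pow, map_mul, map_mul, map_inv, map_pow, hu, map_pow, ← pow_mul]
    rw [Ne, conj_eq_one_iff, ← orderOf_dvd_iff_pow_eq_one]
    intro hdvd
    rw [← hd, hn, mul_comm l n, show 2 * n * 2 = n * 4 by ring] at hdvd
    have hn0 : 0 < n := by
      rcases Nat.eq_zero_or_pos n with rfl | h0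
      · have h0 := orderOf_pos (slG Z hK g)
        rw [← hd, hn] at h0
        simp at h0
      · exact h0
    have h4 : l ∣ 4 := Nat.dvd_of_mul_dvd_mul_left hn0 hdvd
    exact hl2 ((Nat.prime_dvd_prime_iff_eq hl Nat.prime_two).1
      (hl.dvd_of_dvd_pow (show l ∣ 2 ^ 2 from h4)))
  · exact mul_mem (mul_mem (Subgroup.mem_centralizer_singleton_iff.2 (slG_commute Z hK c).symm.eq)
      (Subgroup.mem_centralizer_singleton_iff.2 (slG_commute Z hK g).symm.eq))
      (inv_mem (Subgroup.mem_centralizer_singleton_iff.2 (slG_commute Z hK c).symm.eq))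

/-- The centraliser in `C(a)` of an element of order dividing `(q + 1)/4` has order `q + 1`. -/
theorem card_centralizer_pair {x : ↥G₁} (hxa : x ∈ Subgroup.centralizer {aG Z hK})
    (hx : x ^ ((3 ^ (2 * m + 1) + 1) / 4) = 1) (hx1 : x ≠ 1) :
    Nat.card ↥(Subgroup.centralizer {aG Z hK} ⊓ Subgroup.centralizer {x}) = 3 ^ (2 * m + 1) + 1 := by
  obtain ⟨c, hc, hcx⟩ := exists_conj_qTor Z hK hxa hx hx1
  have h2 : (c * x * c⁻¹) ^ 2 ≠ 1 := by
    rw [conj_pow, Ne, conj_eq_one_iff]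
    exact sq_ne_one_of_pow Z hK hx hx1
  rw [← card_qTor Z hK, ← centralizer_pair Z hK hcx h2]
  refine Nat.card_congr ((MulAut.conj c).toEquiv.subtypeEquiv fun y => ?_)
  simp only [Subgroup.mem_inf, Subgroup.mem_centralizer_singleton_iff, MulEquiv.toEquiv_eq_coe,
    EquivLike.coe_coe, MulAut.conj_apply]
  refine and_congr ?_ (Commute.conj_iff c).symm
  have hca : Commute c (aG Z hK) := Subgroup.mem_centralizer_singleton_iff.1 hc
  have e : c * aG Z hK * c⁻¹ = aG Z hK := by rw [hca.eq, mul_inv_cancel_right]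
  conv_rhs => rw [← e]
  exact (Commute.conj_iff c).symm

/-- The involutions of the elementary group of order eight are conjugate. -/
theorem exists_conj_eight (hm : 1 ≤ m) {x : ↥G₁} (hx : x ∈ (eightHom Z hK).range) (hx1 : x ≠ 1) :
    ∃ g, g * aG Z hK * g⁻¹ = x := by
  set N := Subgroup.normalizer ((eightHom Z hK).range : Set ↥G₁) with hN
  set C := (Subgroup.centralizer {aG Z hK}).subgroupOf N with hC
  have ha := (gens_mem Z hK).1
  let f : ↥N ⧸ C → {y : ↥(eightHom Z hK).range // y ≠ 1} :=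
    Quotient.lift
      (fun g => ⟨⟨(g : ↥G₁) * aG Z hK * (g : ↥G₁)⁻¹,
        (Subgroup.mem_normalizer_iff.1 g.2 _).1 ha⟩, fun e =>
          aG_ne_one Z hK (conj_eq_one_iff.1 (congrArg Subtype.val e))⟩)
      fun g g' h => by
        replace h := QuotientGroup.leftRel_apply.1 h
        rw [hC, Subgroup.mem_subgroupOf, Subgroup.mem_centralizer_singleton_iff] at h
        refine Subtype.ext (Subtype.ext ?_)
        rw [Subgroup.coe_mul, Subgroup.coe_inv] at h
        show (g : ↥G₁) * aG Z hK * (g : ↥G₁)⁻¹ = (g' : ↥G₁) * aG Z hK * (g' : ↥G₁)⁻¹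
        calc (g : ↥G₁) * aG Z hK * (g : ↥G₁)⁻¹
            = (g : ↥G₁) * (aG Z hK * ((g : ↥G₁)⁻¹ * g')) * (g' : ↥G₁)⁻¹ := by group
          _ = (g' : ↥G₁) * aG Z hK * (g' : ↥G₁)⁻¹ := by rw [← h]; group
  have hf : Function.Injective f := by
    intro a b
    obtain ⟨g, rfl⟩ := QuotientGroup.mk_surjective a
    obtain ⟨g', rfl⟩ := QuotientGroup.mk_surjective b
    intro h
    have h' : (g : ↥G₁) * aG Z hK * (g : ↥G₁)⁻¹ = (g' : ↥G₁) * aG Z hK * (g' : ↥G₁)⁻¹ :=
      congrArg (fun z => ((z.1 : ↥(eightHom Z hK).range) : ↥G₁)) h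
    rw [QuotientGroup.eq, hC, Subgroup.mem_subgroupOf, Subgroup.mem_centralizer_singleton_iff,
      Subgroup.coe_mul, Subgroup.coe_inv]
    calc (g : ↥G₁)⁻¹ * g' * aG Z hK
        = (g : ↥G₁)⁻¹ * ((g' : ↥G₁) * aG Z hK * (g' : ↥G₁)⁻¹) * g' := by group
      _ = aG Z hK * ((g : ↥G₁)⁻¹ * g') := by rw [← h']; group
  have hidx : 7 ≤ Nat.card (↥N ⧸ C) := seven_le_index Z hK hm (card_normalizer Z hK hm)
  have h7 : Nat.card {y : ↥(eightHom Z hK).range // y ≠ 1} = 7 := by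
    classical
    have : Fintype ↥(eightHom Z hK).range := Fintype.ofFinite _
    rw [Nat.card_eq_fintype_card, Fintype.card_subtype_compl, Fintype.card_subtype_eq,
      ← Nat.card_eq_fintype_card, card_eight Z hK]
  have hsur := (hf.bijective_of_nat_card_le (by omega)).2
  obtain ⟨g, hg⟩ := hsur ⟨⟨x, hx⟩, fun e => hx1 (congrArg Subtype.val e)⟩
  obtain ⟨g, rfl⟩ := QuotientGroup.mk_surjective g
  exact ⟨g, congrArg (fun z => ((z.1 : ↥(eightHom Z hK).range) : ↥G₁)) hg⟩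

end Cfsg.Agent.Twisted.TypeG2
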