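import Cfsg.Agent.Lib.Ree.TorusT
import Mathlib.GroupTheory.Transfer

/-!
Centraliser and normaliser of the torus of order `q + 1` of the small Ree group.
-/

set_option autoImplicit false
set_option linter.unusedSectionVars false

namespace Cfsg.Agent.Twisted.TypeG2

open ChevGroup ChevIsogeny Cfsg.Lie
open scoped MatrixGroups

/-- Subgroups of a cyclic subgroup with the same order are equal. -/
theorem eq_of_card_eq_of_le {G : Type*} [Group G] [Finite G] {A B T : Subgroup G} (hT : IsCyclic T)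
    (hA : A ≤ T) (hB : B ≤ T) (h : Nat.card A = Nat.card B) : A = B := by
  classical
  have := Fintype.ofFinite T
  let _ := IsCyclic.commGroup (α := T)
  have key : ∀ L : Subgroup T, Nat.card L = Nat.card A →
      (L : Set T).toFinset = Finset.univ.filter fun a => a ^ Nat.card A = 1 := by
    intro L hL
    refine Finset.eq_of_subset_of_card_le (fun a ha => ?_) ?_
    · rw [Set.mem_toFinset] at ha
      refine Finset.mem_filter.mpr ⟨Finset.mem_univ _, ?_⟩
      rw [← hL]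
      exact congrArg Subtype.val (pow_card_eq_one' (G := L) (x := ⟨a, ha⟩))
    · refine (IsCyclic.card_pow_eq_one_le Nat.card_pos).trans ?_
      rw [← hL, Set.toFinset_card, Nat.card_eq_fintype_card]
      rfl
  have h1 : A.subgroupOf T = B.subgroupOf T := SetLike.coe_injective (Set.toFinset_inj.mp
    ((key _ (Nat.card_congr (Subgroup.subgroupOfEquivOfLe hA).toEquiv)).trans
      (key _ ((Nat.card_congr (Subgroup.subgroupOfEquivOfLe hB).toEquiv).trans h.symm)).symm))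
  rw [Subgroup.subgroupOf_inj] at h1
  rwa [inf_eq_left.2 hA, inf_eq_left.2 hB] at h1

variable {F : Type*} [Field F] [Fintype F] {m : ℕ} {K : Rels chevG2 F}

variable (Z : Frame (T := MT) K PP (3 ^ m) fd) (hK : Fintype.card F = 3 ^ (2 * m + 1))

set_option quotPrecheck false in
local notation "G₁" => genG MT K (g2Words F (3 ^ m))

set_option quotPrecheck false in
local notation "𝔻" => (gens Z hK).data

include Z hK

/-- The centraliser of an element of order `3` lies in a Borel subgroup. -/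
theorem card_centralizer_three {y : ↥G₁} (hy : y ^ 3 = 1) (hy1 : y ≠ 1) :
    Nat.card ↥(Subgroup.centralizer {y}) ∣
      (3 ^ (2 * m + 1)) ^ 3 * (3 ^ (2 * m + 1) - 1) := by
  have := Fact.mk Nat.prime_three
  have hle : (𝔻).U1 ≤ G₁ := inf_le_left
  have hidx : ¬ 3 ∣ ((𝔻).U1.subgroupOf G₁).index := by
    have h1 := ((𝔻).U1.subgroupOf G₁).card_mul_index
    rw [Nat.card_congr (Subgroup.subgroupOfEquivOfLe hle).toEquiv, card_U1_eq Z hK, card_genG Z hK,
      mul_assoc] at h1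
    rw [Nat.eq_of_mul_eq_mul_left (pow_pos (pow_pos (by norm_num) _) _) h1]
    have h3 := three_dvd_q (m := m) hK
    intro hd
    rcases (Nat.Prime.dvd_mul Nat.prime_three).1 hd with h | h
    · have := Nat.dvd_sub h3 h
      rw [Nat.sub_sub_self (Nat.one_le_pow _ _ (by norm_num))] at this
      omega
    · have : 3 ∣ (3 ^ (2 * m + 1)) ^ 3 := dvd_pow h3 (by norm_num)
      omega
  obtain ⟨c, hc⟩ := exists_conj_mem_of_index _ hidx hy
  have hB : Nat.card ↥(((𝔻).B1).subgroupOf G₁) ∣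
      (3 ^ (2 * m + 1)) ^ 3 * (3 ^ (2 * m + 1) - 1) := by
    rw [Nat.card_congr (Subgroup.subgroupOfEquivOfLe (show (𝔻).B1 ≤ G₁ from inf_le_left)).toEquiv,
      card_B1_eq Z hK]
  refine dvd_trans ?_ hB
  refine Subgroup.card_dvd_of_injective
    (((MulAut.conj c).toMonoidHom.comp (Subgroup.centralizer {y}).subtype).codRestrict
      (((𝔻).B1).subgroupOf G₁) fun g => ?_) ?_
  · have hg : Commute (g : ↥G₁) y := Subgroup.mem_centralizer_singleton_iff.1 g.2
    have e : c * (g : ↥G₁) * c⁻¹ * (c * y * c⁻¹) * (c * (g : ↥G₁) * c⁻¹)⁻¹ = c * y * c⁻¹ := by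
      rw [((Commute.conj_iff c).2 hg).eq, mul_inv_cancel_right]
    have hx1 : ((c * y * c⁻¹ : ↥G₁) : ↥(chevG2.group F)) ≠ 1 := fun e1 =>
      hy1 (conj_eq_one_iff.1 (Subtype.ext e1 : c * y * c⁻¹ = 1))
    have hmem : ((c * y * c⁻¹ : ↥G₁) : ↥(chevG2.group F)) ∈ (𝔻).U1 := hc
    refine Subgroup.mem_subgroupOf.2 (U1_ti Z hK (c * (g : ↥G₁) * c⁻¹).2 hmem hx1 ?_)
    show ((c * (g : ↥G₁) * c⁻¹ * (c * y * c⁻¹) * (c * (g : ↥G₁) * c⁻¹)⁻¹ : ↥G₁) :
      ↥(chevG2.group F)) ∈ (𝔻).U1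
    rwa [e]
  · intro g g' h
    exact Subtype.ext ((MulAut.conj c).injective (congrArg Subtype.val h))

omit Z in
theorem coprime_quarter {d : ℕ} (h1 : d ∣ (3 ^ (2 * m + 1) + 1) / 4)
    (h2 : d ∣ (3 ^ (2 * m + 1)) ^ 3 * (3 ^ (2 * m + 1) - 1)) : d = 1 := by
  obtain ⟨s, hs, hodd, hs4, -⟩ := quarter (m := m)
  rw [hs4] at h1
  refine Nat.eq_one_of_dvd_coprimes ?_ h1 h2
  set q := 3 ^ (2 * m + 1) with hq
  have hq1 : 1 ≤ q := Nat.one_le_pow _ _ (by norm_num)
  have c1 : Nat.Coprime s q := by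
    refine Nat.Coprime.coprime_dvd_left (Dvd.intro_left 4 hs.symm) ?_
    rw [Nat.coprime_self_add_left]; exact Nat.coprime_one_left _
  have c2 : Nat.Coprime s (q - 1) := by
    refine Nat.coprime_of_dvd' fun k hk hks hkq => ?_
    have hkq1 : k ∣ q + 1 := hs ▸ hks.mul_left 4
    have h3 := Nat.dvd_sub hkq1 hkq
    rw [show q + 1 - (q - 1) = 2 by omega] at h3
    rw [(Nat.prime_dvd_prime_iff_eq hk Nat.prime_two).1 h3] at hks
    exact absurd (even_iff_two_dvd.2 hks) (Nat.not_even_iff_odd.2 hodd)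
  exact (c1.pow_right 3).mul_right c2

theorem qHalf_iff {x : ↥G₁} :
    x ∈ qHalf Z hK ↔ x ∈ qTor Z hK ∧ x ^ ((3 ^ (2 * m + 1) + 1) / 4) = 1 := by
  refine ⟨fun h => ⟨qHalf_le Z hK h, qHalf_pow Z hK h⟩, fun ⟨h, h'⟩ => ?_⟩
  obtain ⟨s, -, ⟨j, rfl⟩, hs4, -⟩ := quarter (m := m)
  rw [hs4] at h'
  have e : (x ^ 2) ^ (j + 1) = x := by
    rw [← pow_mul, show 2 * (j + 1) = 2 * j + 1 + 1 by ring, pow_succ, h', one_mul]
  exact e ▸ pow_mem (sq_mem_qHalf Z hK h) (j + 1)

/-- The cyclic subgroup meets no centraliser of an element of order `3`. -/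
theorem not_commute_three {x : ↥G₁} (hx : x ∈ qTor Z hK) (hx2 : x ^ 2 ≠ 1) {y : ↥G₁} (hy : y ^ 3 = 1)
    (hc : Commute x y) : y = 1 := by
  by_contra hy1
  have hx2H := sq_mem_qHalf Z hK hx
  have h1 : orderOf (x ^ 2) ∣ (3 ^ (2 * m + 1) + 1) / 4 :=
    orderOf_dvd_of_pow_eq_one (qHalf_pow Z hK hx2H)
  have h2 : orderOf (x ^ 2) ∣ (3 ^ (2 * m + 1)) ^ 3 * (3 ^ (2 * m + 1) - 1) :=
    (Subgroup.orderOf_dvd_natCard _
      (Subgroup.mem_centralizer_singleton_iff.2 (hc.pow_left 2).eq)).trans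
      (card_centralizer_three Z hK hy hy1)
  exact hx2 (orderOf_eq_one_iff.1 (coprime_quarter hK h1 h2))

/-- The homomorphism onto the four group of the torus. -/
noncomputable def vHom : Multiplicative (ZMod 2) × Multiplicative (ZMod 2) →* ↥G₁ :=
  (flip2 (aG Z hK) (aG_sq Z hK)).noncommCoprod (flip2 (pG Z hK) (pq_facts Z hK).1)
    (flip_commute (aG_sq Z hK) (pq_facts Z hK).1 (slG_commute Z hK _))

/-- the four group of the torus -/
noncomputable def vFour : Subgroup ↥G₁ := (vHom Z hK).range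

theorem mem_vFour {x : ↥G₁} : x ∈ vFour Z hK ↔
    x = 1 ∨ x = aG Z hK ∨ x = pG Z hK ∨ x = aG Z hK * pG Z hK := by
  constructor
  · rintro ⟨⟨e, e'⟩, rfl⟩
    rw [vHom, MonoidHom.noncommCoprod_apply]
    rcases two_cases e with rfl | rfl <;> rcases two_cases e' with rfl | rfl <;>
      simp only [flip2_apply, flip2_one, one_mul, mul_one, true_or, or_true]
  · rintro (rfl | rfl | rfl | rfl)
    · exact one_mem _
    · exact ⟨(Multiplicative.ofAdd 1, 1), by
        rw [vHom, MonoidHom.noncommCoprod_apply, flip2_apply, flip2_one, mul_one]⟩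
    · exact ⟨(1, Multiplicative.ofAdd 1), by
        rw [vHom, MonoidHom.noncommCoprod_apply, flip2_apply, flip2_one, one_mul]⟩
    · exact ⟨(Multiplicative.ofAdd 1, Multiplicative.ofAdd 1), by
        rw [vHom, MonoidHom.noncommCoprod_apply, flip2_apply, flip2_apply]⟩

theorem pG_ne : pG Z hK ≠ 1 ∧ pG Z hK ≠ aG Z hK ∧ aG Z hK * pG Z hK ≠ 1 := by
  refine ⟨fun h => ?_, slG_ne_aG Z hK _, fun h => ?_⟩
  · rcases (slG_eq_one_iff Z hK).1 h with e | e <;>
      have := congrFun₂ (congrArg Subtype.val e) 0 1 <;>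
      simp [ReeSL2.weyl] at this
  · exact slG_ne_aG Z hK _
      ((eq_inv_of_mul_eq_one_right h).trans (inv_eq_of_mul_eq_one_right (aG_sq Z hK)))

theorem vFour_le : vFour Z hK ≤ qTor Z hK := fun x hx => by
  rcases (mem_vFour Z hK).1 hx with rfl | rfl | rfl | rfl
  · exact one_mem _
  · exact aG_mem_qTor Z hK
  · exact pG_mem_qTor Z hK
  · exact mul_mem (aG_mem_qTor Z hK) (pG_mem_qTor Z hK)

theorem vFour_le_eight : vFour Z hK ≤ (eightHom Z hK).range := fun x hx => by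
  obtain ⟨ha, hp, -⟩ := gens_mem Z hK
  rcases (mem_vFour Z hK).1 hx with rfl | rfl | rfl | rfl
  · exact one_mem _
  · exact ha
  · exact hp
  · exact mul_mem ha hp

theorem card_vFour : Nat.card ↥(vFour Z hK) = 4 := by
  obtain ⟨h1, h2, h3⟩ := pG_ne Z hK
  have hinj : Function.Injective (vHom Z hK) := by
    rw [injective_iff_map_eq_one]
    rintro ⟨e, e'⟩ h
    rw [vHom, MonoidHom.noncommCoprod_apply] at h
    rcases two_cases e with rfl | rfl <;> rcases two_cases e' with rfl | rfl <;>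
      simp only [flip2_apply, flip2_one, one_mul, mul_one] at h
    · rfl
    · exact absurd h h1
    · exact absurd h (aG_ne_one Z hK)
    · exact absurd h h3
  rw [vFour, ← Nat.card_congr (MonoidHom.ofInjective hinj).toEquiv]
  simp [Nat.card_eq_fintype_card]

theorem qG_inverts {t : ↥G₁} (ht : t ∈ qTor Z hK) : qG Z hK * t = t⁻¹ * qG Z hK := by
  obtain ⟨g, hg, h⟩ := (mem_qTor_iff Z hK).1 ht
  have key : qG Z hK * slG Z hK g = (slG Z hK g)⁻¹ * qG Z hK := by
    rw [qG, ← map_mul, ← map_inv, ← map_mul]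
    congr 1
    obtain ⟨h11, h10⟩ := hg
    refine Matrix.SpecialLinearGroup.ext _ _ fun i j => ?_
    simp only [mul_entry]
    fin_cases i <;> fin_cases j <;>
      simp [gamma_coe, Matrix.SpecialLinearGroup.coe_inv, Matrix.adjugate_fin_two, h11, h10] <;> ring
  rcases h with rfl | rfl
  · exact key
  · have hqa : qG Z hK * aG Z hK = aG Z hK * qG Z hK := (slG_commute Z hK (gamma (three_eq hK))).eq.symm
    rw [mul_inv_rev, inv_eq_of_mul_eq_one_right (aG_sq Z hK), ← mul_assoc, hqa, mul_assoc, key, ← mul_assoc,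
      (slG_commute Z hK g).inv_right.eq]

/-- The centraliser of the four group is the torus extended by `q`. -/
theorem mem_of_commute_four {x : ↥G₁} (hxa : x ∈ Subgroup.centralizer {aG Z hK})
    (hxp : Commute x (pG Z hK)) : x ∈ qTor Z hK ∨ x * qG Z hK ∈ qTor Z hK := by
  rw [← centHom_range Z hK] at hxa
  obtain ⟨⟨e, t⟩, rfl⟩ := hxa
  obtain ⟨h, rfl⟩ := QuotientGroup.mk'_surjective _ t
  rw [centHom, MonoidHom.noncommCoprod_apply, pslG_mk] at hxp ⊢
  have hflip : Commute (flip2 (aG Z hK) (aG_sq Z hK) e) (pG Z hK) ∧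
      flip2 (aG Z hK) (aG_sq Z hK) e ∈ qTor Z hK := by
    rcases two_cases e with rfl | rfl
    · rw [flip2_one]; exact ⟨Commute.one_left _, one_mem _⟩
    · rw [flip2_apply]; exact ⟨slG_commute Z hK _, aG_mem_qTor Z hK⟩
  have hc' : slG Z hK h * slG Z hK ReeSL2.weyl = slG Z hK ReeSL2.weyl * slG Z hK h := by
    have h1 := hflip.1.inv_left.mul_left hxp
    rw [inv_mul_cancel_left] at h1
    exact h1.eq
  have hw : ∀ k : SL(2, F), k * ReeSL2.weyl = ReeSL2.weyl * k → k ∈ ReeSL2.rot F := by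
    intro k e
    have e00 := congrFun₂ (congrArg Subtype.val e) 0 0
    have e01 := congrFun₂ (congrArg Subtype.val e) 0 1
    simp only [mul_entry] at e00 e01
    simp [ReeSL2.weyl_coe] at e00 e01
    exact ⟨by linear_combination -e01, by linear_combination -e00⟩
  have hsl : slG Z hK (h * ReeSL2.weyl * (ReeSL2.weyl * h)⁻¹) = 1 := by
    rw [map_mul, map_mul, map_inv, map_mul, hc', mul_inv_cancel]
  rcases (slG_eq_one_iff Z hK).1 hsl with e | e
  · exact Or.inl (mul_mem hflip.2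
      ((mem_qTor_iff Z hK).2 ⟨h, hw h (mul_inv_eq_one.1 e), Or.inl rfl⟩))
  · have e' : h * ReeSL2.weyl = -(ReeSL2.weyl * h) := by
      rw [mul_inv_eq_iff_eq_mul.1 e, neg_one_mul]
    have hwg := (sl_facts (F := F) hK).2.2
    have e3 : h * gamma (three_eq hK) * ReeSL2.weyl =
        ReeSL2.weyl * (h * gamma (three_eq hK)) := by
      have hg : gamma (three_eq hK) * ReeSL2.weyl = -((ReeSL2.weyl : SL(2, F)) * gamma (three_eq hK)) := by
        rw [hwg, neg_neg]
      rw [mul_assoc, hg, mul_neg, ← mul_assoc, e', neg_mul, neg_neg, mul_assoc]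
    refine Or.inr ?_
    rw [mul_assoc, qG, ← map_mul]
    exact mul_mem hflip.2 ((mem_qTor_iff Z hK).2 ⟨_, hw _ e3, Or.inl rfl⟩)

/-- An element of order dividing `(q + 1)/4` centralising the four group is in the cyclic subgroup. -/
theorem mem_qHalf_of_commute {x : ↥G₁} (hxa : x ∈ Subgroup.centralizer {aG Z hK})
    (hxp : Commute x (pG Z hK)) (hx : x ^ ((3 ^ (2 * m + 1) + 1) / 4) = 1) : x ∈ qHalf Z hK := by
  rcases mem_of_commute_four Z hK hxa hxp with h | h
  · exact (qHalf_iff Z hK).2 ⟨h, hx⟩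
  · have hx' : x = x * qG Z hK * qG Z hK := by rw [mul_assoc, (pq_facts Z hK).2.1, mul_one]
    have h2 : x ^ 2 = 1 := by
      obtain ⟨t, ht⟩ : ∃ t, t = x * qG Z hK := ⟨_, rfl⟩
      rw [← ht] at hx' h
      rw [sq, hx']
      calc t * qG Z hK * (t * qG Z hK) = t * (qG Z hK * t) * qG Z hK := by group
        _ = t * t⁻¹ * (qG Z hK * qG Z hK) := by rw [qG_inverts Z hK h]; group
        _ = 1 := by rw [(pq_facts Z hK).2.1, mul_inv_cancel, mul_one]
    by_contra hne
    exact sq_ne_one_of_pow Z hK hx (fun e => hne (e ▸ one_mem _)) h2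

/-- The normaliser of the four group normalises the torus. -/
theorem normalizer_vFour_le :
    Subgroup.normalizer (vFour Z hK : Set ↥G₁) ≤ Subgroup.normalizer (qHalf Z hK : Set ↥G₁) := by
  intro y hy
  refine Subgroup.mem_normalizer_fintype fun x hx => ?_
  have hxT := qHalf_le Z hK hx
  have hcomm : ∀ v ∈ vFour Z hK, Commute (y * x * y⁻¹) v := by
    intro v hv
    have hv' : y⁻¹ * v * y ∈ vFour Z hK := (Subgroup.mem_normalizer_iff''.1 hy v).1 hv
    have h := (Commute.conj_iff y).2 (qTor_comm Z hK hxT (vFour_le Z hK hv'))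
    rwa [show y * (y⁻¹ * v * y) * y⁻¹ = v by group] at h
  refine mem_qHalf_of_commute Z hK ?_ (hcomm _ ((mem_vFour Z hK).2 (by simp))) ?_
  · exact Subgroup.mem_centralizer_singleton_iff.2 (hcomm _ ((mem_vFour Z hK).2 (by simp))).eq
  · rw [conj_pow, qHalf_pow Z hK hx, mul_one, mul_inv_cancel]

omit Z hK in
/-- An element with two coprime powers commuting with `b` commutes with it. -/
theorem commute_of_pow_commute {G : Type*} [Group G] {x b : G} {n k : ℕ} (h : Nat.Coprime k n)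
    (hn : Commute (x ^ n) b) (hk : Commute (x ^ k) b) : Commute x b := by
  have e : x = (x ^ k) ^ (Nat.gcdA k n) * (x ^ n) ^ (Nat.gcdB k n) := by
    rw [← zpow_natCast, ← zpow_natCast, ← zpow_mul, ← zpow_mul, ← zpow_add, ← Nat.gcd_eq_gcd_ab,
      h.gcd_eq_one, Nat.cast_one, zpow_one]
  rw [e]
  exact (hk.zpow_left _).mul_left (hn.zpow_left _)

omit Z hK in
theorem four_in_three {α : Type*} {u v w A B C D : α} (hA : A = u ∨ A = v ∨ A = w)
    (hB : B = u ∨ B = v ∨ B = w) (hC : C = u ∨ C = v ∨ C = w) (hD : D = u ∨ D = v ∨ D = w) :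
    A = B ∨ B = C ∨ C = D ∨ A = C ∨ B = D ∨ A = D := by
  rcases hA with rfl | rfl | rfl <;> rcases hB with rfl | rfl | rfl <;>
    rcases hC with rfl | rfl | rfl <;> rcases hD with rfl | rfl | rfl <;> simp

/-- Some power below the fourth of an element normalising the four group commutes with `a`. -/
theorem exists_small_period {w : ↥G₁} (hw : w ∈ Subgroup.normalizer (vFour Z hK : Set ↥G₁)) :
    ∃ d, 1 ≤ d ∧ d ≤ 3 ∧ Commute (w ^ d) (aG Z hK) := by
  have ha : aG Z hK ∈ vFour Z hK := (mem_vFour Z hK).2 (by simp)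
  have hne : ∀ k : ℕ, w ^ k * aG Z hK * (w ^ k)⁻¹ = aG Z hK ∨ w ^ k * aG Z hK * (w ^ k)⁻¹ = pG Z hK ∨
      w ^ k * aG Z hK * (w ^ k)⁻¹ = aG Z hK * pG Z hK := by
    intro k
    rcases (mem_vFour Z hK).1 ((Subgroup.mem_normalizer_iff.1 (pow_mem hw k) _).1 ha) with e | e
    · exact absurd (conj_eq_one_iff.1 e) (aG_ne_one Z hK)
    · exact e
  have hc : ∀ i j, w ^ i * aG Z hK * (w ^ i)⁻¹ = w ^ (i + j) * aG Z hK * (w ^ (i + j))⁻¹ →
      Commute (w ^ j) (aG Z hK) := by
    intro i j h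
    rw [pow_add, mul_inv_rev,
      show w ^ i * w ^ j * aG Z hK * ((w ^ j)⁻¹ * (w ^ i)⁻¹) =
        w ^ i * (w ^ j * aG Z hK * (w ^ j)⁻¹) * (w ^ i)⁻¹ by group] at h
    exact mul_inv_eq_iff_eq_mul.1 (mul_left_cancel (mul_right_cancel h)).symm
  rcases four_in_three (hne 0) (hne 1) (hne 2) (hne 3) with e | e | e | e | e | e
  · exact ⟨1, le_rfl, by norm_num, hc 0 1 e⟩
  · exact ⟨1, le_rfl, by norm_num, hc 1 1 e⟩
  · exact ⟨1, le_rfl, by norm_num, hc 2 1 e⟩
  · exact ⟨2, by norm_num, by norm_num, hc 0 2 e⟩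
  · exact ⟨2, by norm_num, by norm_num, hc 1 2 e⟩
  · exact ⟨3, by norm_num, le_rfl, hc 0 3 e⟩

/-- An element of the normaliser of the four group fixing `a` fixes it. -/
theorem commute_pG_of_commute_aG {y : ↥G₁} (hy : y ∈ Subgroup.normalizer (vFour Z hK : Set ↥G₁))
    (hc : Commute y (aG Z hK)) : Commute y (pG Z hK) := by
  obtain ⟨h1, h2, h3⟩ := pG_ne Z hK
  have hp : pG Z hK ∈ vFour Z hK := (mem_vFour Z hK).2 (by simp)
  rcases (mem_vFour Z hK).1 ((Subgroup.mem_normalizer_iff.1 hy _).1 hp) with e | e | e | e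
  · exact absurd (conj_eq_one_iff.1 e) h1
  · refine absurd ?_ h2
    have e' : y * pG Z hK * y⁻¹ = y * aG Z hK * y⁻¹ := by rw [e, hc.eq, mul_inv_cancel_right]
    exact mul_left_cancel (mul_right_cancel e')
  · exact mul_inv_eq_iff_eq_mul.1 e
  · exfalso
    have hya : y ∈ Subgroup.centralizer {aG Z hK} := Subgroup.mem_centralizer_singleton_iff.2 hc.eq
    rw [← centHom_range Z hK] at hya
    obtain ⟨⟨f, t⟩, rfl⟩ := hya
    obtain ⟨g, rfl⟩ := QuotientGroup.mk'_surjective _ t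
    rw [centHom, MonoidHom.noncommCoprod_apply, pslG_mk] at e
    have e2 : slG Z hK (g * ReeSL2.weyl * g⁻¹ * ReeSL2.weyl⁻¹) = aG Z hK := by
      rw [map_mul, map_mul, map_mul, map_inv, map_inv]
      refine mul_inv_eq_iff_eq_mul.2 ?_
      show _ = aG Z hK * pG Z hK
      rw [← e]
      rcases two_cases f with rfl | rfl
      · rw [flip2_one, one_mul]; rfl
      · rw [flip2_apply, mul_inv_rev, ← mul_assoc, inv_eq_of_mul_eq_one_right (aG_sq Z hK)]
        have hc2 : Commute (aG Z hK) (slG Z hK g * pG Z hK * (slG Z hK g)⁻¹) :=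
          ((slG_commute Z hK g).mul_right (slG_commute Z hK _)).mul_right (slG_commute Z hK g).inv_right
        rw [mul_assoc (aG Z hK) (slG Z hK g), mul_assoc (aG Z hK), hc2.eq, mul_assoc _ (aG Z hK),
          aG_sq Z hK, mul_one]
        rfl
    exact slG_ne_aG Z hK _ e2

/-- An element of order three normalises the four group of the torus and moves `a`. -/
theorem exists_three_normalizer (hm : 1 ≤ m) : ∃ y, y ∈ Subgroup.normalizer (vFour Z hK : Set ↥G₁) ∧
    y ^ 3 = 1 ∧ ¬ Commute y (aG Z hK) := by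
  classical
  have := Fact.mk Nat.prime_three
  set N := Subgroup.normalizer ((eightHom Z hK).range : Set ↥G₁) with hN
  set S := (Subgroup.normalizer (vFour Z hK : Set ↥G₁)).subgroupOf N with hS
  obtain ⟨haE, hpE, hqE⟩ := gens_mem Z hK
  have hN168 := card_normalizer Z hK hm
  rw [← hN] at hN168
  have hW : ∀ g : ↥N, ∀ v ∈ vFour Z hK, (g : ↥G₁) * v * (g : ↥G₁)⁻¹ ∈ (eightHom Z hK).range :=
    fun g v hv => (Subgroup.mem_normalizer_iff.1 g.2 v).1 (vFour_le_eight Z hK hv)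
  -- the images of the four group are determined by which generators they contain
  let fl : ↥N → Bool × Bool × Bool := fun g =>
    (decide ((g : ↥G₁)⁻¹ * aG Z hK * g ∈ vFour Z hK), decide ((g : ↥G₁)⁻¹ * pG Z hK * g ∈ vFour Z hK),
      decide ((g : ↥G₁)⁻¹ * qG Z hK * g ∈ vFour Z hK))
  have hfl : ∀ g g' : ↥N, fl g = fl g' → ∀ x ∈ (eightHom Z hK).range,
      ((g : ↥G₁)⁻¹ * x * g ∈ vFour Z hK ↔ (g' : ↥G₁)⁻¹ * x * g' ∈ vFour Z hK) := by
    intro g g' h
    simp only [fl, Prod.mk.injEq, decide_eq_decide] at h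
    have hidx : ((vFour Z hK).subgroupOf (eightHom Z hK).range).index = 2 := by
      have h1 := ((vFour Z hK).subgroupOf (eightHom Z hK).range).card_mul_index
      rw [Nat.card_congr (Subgroup.subgroupOfEquivOfLe (vFour_le_eight Z hK)).toEquiv,
        card_vFour Z hK, card_eight Z hK] at h1
      omega
    have hmul : ∀ k : ↥N, ∀ x ∈ (eightHom Z hK).range, ∀ x' ∈ (eightHom Z hK).range,
        ((k : ↥G₁)⁻¹ * (x * x') * k ∈ vFour Z hK ↔
          ((k : ↥G₁)⁻¹ * x * k ∈ vFour Z hK ↔ (k : ↥G₁)⁻¹ * x' * k ∈ vFour Z hK)) := by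
      intro k x hx x' hx'
      have hk := fun z hz => (Subgroup.mem_normalizer_iff''.1 k.2 z).1 hz
      have := Subgroup.mul_mem_iff_of_index_two hidx
        (a := ⟨_, hk x hx⟩) (b := ⟨_, hk x' hx'⟩)
      simp only [Subgroup.mem_subgroupOf, Subgroup.coe_mul] at this
      rwa [show (k : ↥G₁)⁻¹ * (x * x') * k =
        (k : ↥G₁)⁻¹ * x * k * ((k : ↥G₁)⁻¹ * x' * k) by group]
    rintro _ ⟨⟨e, e1, e2⟩, rfl⟩
    rw [eightHom_apply Z hK]
    have h1 : ∀ k : ↥N, ((k : ↥G₁)⁻¹ * 1 * k ∈ vFour Z hK ↔ True) := fun k => by simp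
    have hfa : flip2 (aG Z hK) (aG_sq Z hK) e ∈ (eightHom Z hK).range ∧
        ((g : ↥G₁)⁻¹ * flip2 (aG Z hK) (aG_sq Z hK) e * g ∈ vFour Z hK ↔
          (g' : ↥G₁)⁻¹ * flip2 (aG Z hK) (aG_sq Z hK) e * g' ∈ vFour Z hK) := by
      rcases two_cases e with rfl | rfl
      · rw [flip2_one, h1, h1]; exact ⟨one_mem _, Iff.rfl⟩
      · rw [flip2_apply]; exact ⟨haE, h.1⟩
    have hfp : flip2 (pG Z hK) (pq_facts Z hK).1 e1 ∈ (eightHom Z hK).range ∧
        ((g : ↥G₁)⁻¹ * flip2 (pG Z hK) (pq_facts Z hK).1 e1 * g ∈ vFour Z hK ↔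
          (g' : ↥G₁)⁻¹ * flip2 (pG Z hK) (pq_facts Z hK).1 e1 * g' ∈ vFour Z hK) := by
      rcases two_cases e1 with rfl | rfl
      · rw [flip2_one, h1, h1]; exact ⟨one_mem _, Iff.rfl⟩
      · rw [flip2_apply]; exact ⟨hpE, h.2.1⟩
    have hfq : flip2 (qG Z hK) (pq_facts Z hK).2.1 e2 ∈ (eightHom Z hK).range ∧
        ((g : ↥G₁)⁻¹ * flip2 (qG Z hK) (pq_facts Z hK).2.1 e2 * g ∈ vFour Z hK ↔
          (g' : ↥G₁)⁻¹ * flip2 (qG Z hK) (pq_facts Z hK).2.1 e2 * g' ∈ vFour Z hK) := by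
      rcases two_cases e2 with rfl | rfl
      · rw [flip2_one, h1, h1]; exact ⟨one_mem _, Iff.rfl⟩
      · rw [flip2_apply]; exact ⟨hqE, h.2.2⟩
    rw [hmul g _ hfa.1 _ (mul_mem hfp.1 hfq.1), hmul g' _ hfa.1 _ (mul_mem hfp.1 hfq.1),
      hmul g _ hfp.1 _ hfq.1, hmul g' _ hfp.1 _ hfq.1, hfa.2, hfp.2, hfq.2]
  let f : ↥N ⧸ S → Bool × Bool × Bool := fun o => fl o.out
  have hf : Function.Injective f := by
    intro o o' h
    rw [← QuotientGroup.out_eq' o, ← QuotientGroup.out_eq' o', QuotientGroup.eq]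
    suffices hh : (((o.out)⁻¹ * o'.out : ↥N) : ↥G₁) ∈
        Subgroup.normalizer (vFour Z hK : Set ↥G₁) from Subgroup.mem_subgroupOf.2 hh
    refine Subgroup.mem_normalizer_fintype fun v hv => ?_
    obtain ⟨g, hg⟩ : ∃ g, g = o.out := ⟨_, rfl⟩
    obtain ⟨g', hg'⟩ : ∃ g', g' = o'.out := ⟨_, rfl⟩
    have h' : fl g = fl g' := by rw [hg, hg']; exact h
    rw [← hg, ← hg', Subgroup.coe_mul, Subgroup.coe_inv]
    have key := (hfl g g' h' _ (hW g' v hv)).2 (by
      rw [show (g' : ↥G₁)⁻¹ * ((g' : ↥G₁) * v * (g' : ↥G₁)⁻¹) * g' = v by group]; exact hv)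
    rwa [show (g : ↥G₁)⁻¹ * (g' : ↥G₁) * v * ((g : ↥G₁)⁻¹ * (g' : ↥G₁))⁻¹ =
      (g : ↥G₁)⁻¹ * ((g' : ↥G₁) * v * (g' : ↥G₁)⁻¹) * g by group]
  have hidx8 : S.index ≤ 8 := (Nat.card_le_card_of_injective f hf).trans (by simp)
  have hmul := S.card_mul_index
  rw [hN168] at hmul
  have h7 : ¬ 7 ∣ Nat.card ↥S := by
    intro h
    have : Fact (Nat.Prime 7) := ⟨by norm_num⟩
    obtain ⟨z, hz⟩ := exists_prime_orderOf_dvd_card' 7 h
    have hz7 : orderOf ((z : ↥N) : ↥G₁) = 7 := by rw [Subgroup.orderOf_coe, Subgroup.orderOf_coe, hz]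
    set w : ↥G₁ := ((z : ↥N) : ↥G₁) with hw
    have hwV : w ∈ Subgroup.normalizer (vFour Z hK : Set ↥G₁) := z.2
    have hwN : w ∈ N := (z : ↥N).2
    obtain ⟨d, hd1, hd3, hd⟩ := exists_small_period Z hK hwV
    have hwa : Commute w (aG Z hK) := by
      refine commute_of_pow_commute (n := d) (k := 7) ?_ hd ?_
      · rw [Nat.Prime.coprime_iff_not_dvd (by norm_num)]
        intro h7d
        have := Nat.le_of_dvd (by omega) h7d
        omega
      · rw [← hz7, pow_orderOf_eq_one]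
        exact Commute.one_left _
    have hidx7 := seven_le_index Z hK hm hN168
    rw [← hN] at hidx7
    set C := (Subgroup.centralizer {aG Z hK}).subgroupOf N with hC
    have hC1 := C.card_mul_index
    rw [hN168] at hC1
    have hzC : (z : ↥N) ∈ C := Subgroup.mem_centralizer_singleton_iff.2 hwa.eq
    have h7C : 7 ∣ Nat.card ↥C := by
      have h := Subgroup.orderOf_dvd_natCard C hzC
      rwa [Subgroup.orderOf_coe, hz] at h
    have h8C : 8 ∣ Nat.card ↥C := by
      have hle : ((eightHom Z hK).range).subgroupOf N ≤ C := fun x hx =>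
        Subgroup.mem_centralizer_singleton_iff.2 (eight_comm Z hK _ hx _ haE)
      have h := Subgroup.card_dvd_of_le hle
      rwa [Nat.card_congr (Subgroup.subgroupOfEquivOfLe Subgroup.le_normalizer).toEquiv,
        card_eight Z hK] at h
    have h56 : 56 ∣ Nat.card ↥C :=
      Nat.Coprime.mul_dvd_of_dvd_of_dvd (by norm_num : Nat.Coprime 8 7) h8C h7C
    obtain ⟨u, hu⟩ := h56
    rw [hu] at hC1
    rcases Nat.eq_zero_or_pos u with rfl | hu0
    · simp at hC1
    · nlinarith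
  have h3 : 3 ∣ Nat.card ↥S := by
    have hdvd : Nat.card ↥S ∣ 168 := Dvd.intro _ hmul
    rw [show (168 : ℕ) = 7 * 24 from rfl] at hdvd
    have h24 : Nat.card ↥S ∣ 24 := (Nat.Coprime.dvd_of_dvd_mul_left
      (((Nat.Prime.coprime_iff_not_dvd (by norm_num)).2 h7).symm) hdvd)
    by_contra h3
    have h8 : Nat.card ↥S ∣ 8 :=
      (((Nat.Prime.coprime_iff_not_dvd Nat.prime_three).2 h3).symm).dvd_of_dvd_mul_left
        (show Nat.card ↥S ∣ 3 * 8 from h24)
    have := Nat.le_of_dvd (by norm_num) h8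
    nlinarith
  obtain ⟨z, hz⟩ := exists_prime_orderOf_dvd_card' 3 h3
  have hz3 : orderOf ((z : ↥N) : ↥G₁) = 3 := by rw [Subgroup.orderOf_coe, Subgroup.orderOf_coe, hz]
  refine ⟨((z : ↥N) : ↥G₁), z.2, orderOf_dvd_iff_pow_eq_one.1 (dvd_of_eq hz3), fun hc => ?_⟩
  set y : ↥G₁ := ((z : ↥N) : ↥G₁) with hy
  -- then it fixes the four group, which no element of order three does
  have hyp : Commute y (pG Z hK) := commute_pG_of_commute_aG Z hK z.2 hc
  have hy1 : y ≠ 1 := fun e => by rw [e, orderOf_one] at hz3; norm_num at hz3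
  have hV : vFour Z hK ≤ Subgroup.centralizer {y} := fun v hv => by
    rw [Subgroup.mem_centralizer_singleton_iff]
    rcases (mem_vFour Z hK).1 hv with rfl | rfl | rfl | rfl
    · simp
    · exact hc.symm.eq
    · exact hyp.symm.eq
    · exact (hc.mul_right hyp).symm.eq
  have h4 := (Subgroup.card_dvd_of_le hV).trans
    (card_centralizer_three Z hK (orderOf_dvd_iff_pow_eq_one.1 (dvd_of_eq hz3)) hy1)
  rw [card_vFour Z hK] at h4
  have hodd : ¬ 2 ∣ (3 ^ (2 * m + 1)) ^ 3 := by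
    rw [← pow_mul]
    intro h
    exact absurd (Nat.prime_two.dvd_of_dvd_pow h) (by norm_num)
  have h4' : 4 ∣ 3 ^ (2 * m + 1) - 1 :=
    (Nat.Coprime.pow_left 2 ((Nat.Prime.coprime_iff_not_dvd Nat.prime_two).2 hodd)).dvd_of_dvd_mul_left
      (show 2 ^ 2 ∣ _ from h4)
  obtain ⟨s, hs, -, -, -⟩ := quarter (m := m)
  omega

end Cfsg.Agent.Twisted.TypeG2
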