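import Cfsg.Agent.Lib.Ree.TorusTCent

/-!
Centraliser and normaliser of the cyclic subgroup of order `(q + 1)/4` of the small Ree group.
-/

set_option autoImplicit false
set_option linter.unusedSectionVars false

namespace Cfsg.Agent.Twisted.TypeG2

open ChevGroup ChevIsogeny Cfsg.Lie
open scoped MatrixGroups

variable {F : Type*} [Field F] [Fintype F] {m : ℕ} {K : Rels chevG2 F}

variable (Z : Frame (T := MT) K PP (3 ^ m) fd) (hK : Fintype.card F = 3 ^ (2 * m + 1))

set_option quotPrecheck false in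
local notation "G₁" => genG MT K (g2Words F (3 ^ m))

set_option quotPrecheck false in
local notation "𝔻" => (gens Z hK).data

include Z hK

/-- The elements of order at most `2` of the torus form the four group. -/
theorem mem_vFour_of_sq {x : ↥G₁} (hx : x ∈ qTor Z hK) (hx2 : x * x = 1) : x ∈ vFour Z hK := by
  have := Fact.mk Nat.prime_two
  let W : Subgroup ↥G₁ :=
    { carrier := {y | y ∈ qTor Z hK ∧ y * y = 1}
      one_mem' := ⟨one_mem _, one_mul 1⟩
      mul_mem' := fun {y z} hy hz => ⟨mul_mem hy.1 hz.1, by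
        rw [(qTor_comm Z hK hz.1 hy.1).mul_mul_mul_comm, hy.2, hz.2, one_mul]⟩
      inv_mem' := fun {y} hy => ⟨inv_mem hy.1, by rw [← mul_inv_rev, hy.2, inv_one]⟩ }
  have hW : IsPGroup 2 ↥W := fun y => ⟨1, Subtype.ext (by rw [pow_one, Subgroup.coe_pow, sq, y.2.2]; rfl)⟩
  obtain ⟨k, hk⟩ := hW.exists_card_eq
  obtain ⟨s, hs, hodd, -, -⟩ := quarter (m := m)
  have hdvd : 2 ^ k ∣ 2 ^ 2 * s := by
    rw [← hk, show 2 ^ 2 * s = 4 * s by norm_num, ← hs, ← card_qTor Z hK]
    exact Subgroup.card_dvd_of_le fun y hy => hy.1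
  have h4 : Nat.card ↥W ∣ 4 := by
    rw [hk, show (4 : ℕ) = 2 ^ 2 from rfl]
    exact ((Nat.coprime_two_left.2 hodd).pow_left k).dvd_of_dvd_mul_right hdvd
  have hle : vFour Z hK ≤ W := fun y hy => ⟨vFour_le Z hK hy, by
    obtain ⟨e, rfl⟩ := hy
    rw [← map_mul]
    have h2 : ∀ z : Multiplicative (ZMod 2), z * z = 1 := fun z => by
      rcases two_cases z with rfl | rfl <;> rfl
    rw [show e * e = 1 from Prod.ext (h2 _) (h2 _), map_one]⟩
  rw [Subgroup.eq_of_le_of_card_ge hle (by rw [card_vFour Z hK]; exact Nat.le_of_dvd (by norm_num) h4)]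
  exact ⟨hx, hx2⟩

/-- `C(v) ∩ C(h)` is the torus for the three involutions `v` of the four group. -/
theorem centralizer_pair_inv (hm : 1 ≤ m) {v : ↥G₁} (hv : v ∈ vFour Z hK) (hv1 : v ≠ 1) {h : ↥G₁}
    (hh : h ∈ qHalf Z hK) (hh1 : h ≠ 1) :
    Subgroup.centralizer {v} ⊓ Subgroup.centralizer {h} = qTor Z hK := by
  obtain ⟨g, hg⟩ := exists_conj_eight Z hK hm (vFour_le_eight Z hK hv) hv1
  have hT := qHalf_le Z hK hh
  have hle : qTor Z hK ≤ Subgroup.centralizer {v} ⊓ Subgroup.centralizer {h} := fun y hy =>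
    ⟨Subgroup.mem_centralizer_singleton_iff.2 (qTor_comm Z hK hy (vFour_le Z hK hv)).eq,
      Subgroup.mem_centralizer_singleton_iff.2 (qTor_comm Z hK hy hT).eq⟩
  have hconj : ∀ z w : ↥G₁, Commute z w ↔ Commute (g * z * g⁻¹) (g * w * g⁻¹) := fun z w =>
    (Commute.conj_iff g).symm
  have hy : Commute (g⁻¹ * h * g) (aG Z hK) := by
    rw [hconj, hg, show g * (g⁻¹ * h * g) * g⁻¹ = h by group]
    exact qTor_comm Z hK hT (vFour_le Z hK hv)
  have hpow : (g⁻¹ * h * g) ^ ((3 ^ (2 * m + 1) + 1) / 4) = 1 := by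
    have := conj_pow (i := (3 ^ (2 * m + 1) + 1) / 4) (a := g⁻¹) (b := h)
    rw [inv_inv] at this
    rw [this, qHalf_pow Z hK hh, mul_one, inv_mul_cancel]
  have hne : g⁻¹ * h * g ≠ 1 := fun e => hh1 (by
    have := congrArg (fun z => g * z * g⁻¹) e
    simpa [mul_assoc] using this)
  refine (Subgroup.eq_of_le_of_card_ge hle (le_of_eq ?_)).symm
  rw [card_qTor Z hK, ← card_centralizer_pair Z hK (Subgroup.mem_centralizer_singleton_iff.2 hy.eq) hpow hne]
  refine (Nat.card_congr ((MulAut.conj g).toEquiv.subtypeEquiv fun y => ?_)).symm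
  simp only [Subgroup.mem_inf, Subgroup.mem_centralizer_singleton_iff, MulEquiv.toEquiv_eq_coe,
    EquivLike.coe_coe, MulAut.conj_apply]
  refine and_congr ?_ ?_
  · have := hconj y (aG Z hK)
    rw [hg] at this
    exact this
  · have := hconj y (g⁻¹ * h * g)
    rw [show g * (g⁻¹ * h * g) * g⁻¹ = h by group] at this
    exact this

/-- The centraliser of a nontrivial element of the cyclic subgroup is the torus. -/
theorem centralizer_qHalf (hm : 1 ≤ m) {h : ↥G₁} (hh : h ∈ qHalf Z hK) (hh1 : h ≠ 1) :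
    Subgroup.centralizer {h} = qTor Z hK := by
  have := Fact.mk Nat.prime_two
  have hhT := qHalf_le Z hK hh
  have hh2 : h ^ 2 ≠ 1 := sq_ne_one_of_pow Z hK (qHalf_pow Z hK hh) hh1
  set C := Subgroup.centralizer {h} with hC
  have hTC : qTor Z hK ≤ C := fun y hy =>
    Subgroup.mem_centralizer_singleton_iff.2 (qTor_comm Z hK hy hhT).eq
  refine le_antisymm ?_ hTC
  have hVC : vFour Z hK ≤ C := (vFour_le Z hK).trans hTC
  have ha : aG Z hK ∈ vFour Z hK := (mem_vFour Z hK).2 (by simp)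
  have hp : pG Z hK ∈ vFour Z hK := (mem_vFour Z hK).2 (by simp)
  have hV2 : IsPGroup 2 ↥((vFour Z hK).subgroupOf C) := IsPGroup.of_card (n := 2) (by
    rw [Nat.card_congr (Subgroup.subgroupOfEquivOfLe hVC).toEquiv, card_vFour Z hK]; norm_num)
  obtain ⟨R, hR⟩ := hV2.exists_le_sylow
  obtain ⟨S, hS⟩ := (R.2.map C.subtype).exists_le_sylow
  have hsq : ∀ y ∈ R, (y : ↥G₁) * y = 1 := fun y hy =>
    (sylow_two_G1 Z hK S).2 _ (hS (Subgroup.mem_map_of_mem C.subtype hy))
  have hcommR : ∀ y ∈ R, ∀ z ∈ R, Commute (y : ↥G₁) z := by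
    intro y hy z hz
    have h1 := hsq _ (mul_mem hy hz)
    rw [Subgroup.coe_mul] at h1
    show (y : ↥G₁) * z = z * y
    rw [eq_inv_of_mul_eq_one_left h1, mul_inv_rev, inv_eq_of_mul_eq_one_right (hsq _ hy),
      inv_eq_of_mul_eq_one_right (hsq _ hz)]
  have hRV : ∀ y ∈ R, (y : ↥G₁) ∈ vFour Z hK := by
    intro y hy
    refine mem_vFour_of_sq Z hK ?_ (hsq y hy)
    rw [← centralizer_pair Z hK hhT hh2]
    refine ⟨Subgroup.mem_centralizer_singleton_iff.2 ?_, y.2⟩
    exact (hcommR y hy ⟨_, hVC ha⟩ (hR (Subgroup.mem_subgroupOf.2 ha))).eq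
  have hnc : Subgroup.normalizer ((R : Subgroup ↥C) : Set ↥C) ≤
      Subgroup.centralizer ((R : Subgroup ↥C) : Set ↥C) := by
    intro x hx
    have hxV : (x : ↥G₁) ∈ Subgroup.normalizer (vFour Z hK : Set ↥G₁) := by
      refine Subgroup.mem_normalizer_fintype fun v hv => ?_
      exact hRV _ ((Subgroup.mem_normalizer_iff.1 hx ⟨v, hVC hv⟩).1
        (hR (Subgroup.mem_subgroupOf.2 hv)))
    -- the two part of `x` lies in the Sylow subgroup
    obtain ⟨k, o, ho, hko⟩ := Nat.exists_eq_two_pow_mul_odd (orderOf_pos x).ne'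
    have ho3 : ¬ 3 ∣ o := by
      intro h3
      have h3' : 3 ∣ orderOf x := hko ▸ h3.mul_left _
      have hy : orderOf (x ^ (orderOf x / 3)) = 3 := by
        rw [orderOf_pow x, Nat.gcd_eq_right (Nat.div_dvd_of_dvd h3'), Nat.div_div_self h3' (orderOf_pos x).ne']
      have hy' : ((x ^ (orderOf x / 3) : ↥C) : ↥G₁) ^ 3 = 1 := by
        rw [← Subgroup.coe_pow, orderOf_dvd_iff_pow_eq_one.1 (dvd_of_eq hy), Subgroup.coe_one]
      have := not_commute_three Z hK hhT hh2 hy'
        (Subgroup.mem_centralizer_singleton_iff.1 (x ^ (orderOf x / 3)).2).symm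
      rw [show x ^ (orderOf x / 3) = 1 from Subtype.ext this, orderOf_one] at hy
      norm_num at hy
    have hxo : x ^ o ∈ R := by
      have hp2 : IsPGroup 2 ↥(Subgroup.zpowers (x ^ o)) := by
        have hd : orderOf (x ^ o) ∣ 2 ^ k := orderOf_dvd_of_pow_eq_one (by
          rw [← pow_mul, mul_comm, ← hko, pow_orderOf_eq_one])
        obtain ⟨i, -, hi⟩ := (Nat.dvd_prime_pow Nat.prime_two).1 hd
        exact IsPGroup.of_card (n := i) (by rw [Nat.card_zpowers, hi])
      have hle : Subgroup.zpowers (x ^ o) ≤ Subgroup.normalizer ((R : Subgroup ↥C) : Set ↥C) :=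
        Subgroup.zpowers_le.2 (pow_mem hx o)
      have hsup := IsPGroup.to_sup_of_normal_right' hp2 R.2 hle
      have heq := R.3 hsup le_sup_right
      have : x ^ o ∈ Subgroup.zpowers (x ^ o) ⊔ (R : Subgroup ↥C) :=
        Subgroup.mem_sup_left (Subgroup.mem_zpowers _)
      rwa [heq] at this
    obtain ⟨d, hd1, hd3, hd⟩ := exists_small_period Z hK hxV
    have hxa : Commute (x : ↥G₁) (aG Z hK) := by
      refine commute_of_pow_commute (n := d) (k := o) ?_ hd ?_
      · refine Nat.coprime_of_dvd' fun p hp hpo hpd => ?_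
        exfalso
        have hple := Nat.le_of_dvd (by omega) hpd
        have := hp.two_le
        have hp3 : p ≤ 3 := by omega
        interval_cases p
        · exact Nat.not_even_iff_odd.2 ho (even_iff_two_dvd.2 hpo)
        · exact ho3 hpo
      · rw [← Subgroup.coe_pow]
        exact qTor_comm Z hK (vFour_le Z hK (hRV _ hxo)) (vFour_le Z hK ha)
    have hxT : (x : ↥G₁) ∈ qTor Z hK := by
      rw [← centralizer_pair Z hK hhT hh2]
      exact ⟨Subgroup.mem_centralizer_singleton_iff.2 hxa.eq, x.2⟩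
    refine Subgroup.mem_centralizer_iff.2 fun y hy => Subtype.ext ?_
    rw [Subgroup.coe_mul, Subgroup.coe_mul]
    exact (qTor_comm Z hK (vFour_le Z hK (hRV y hy)) hxT).eq
  set O := (MonoidHom.transferSylow R hnc).ker with hO
  have hOodd : Odd (Nat.card ↥O) := by
    rw [Nat.odd_iff, ← Nat.two_dvd_ne_zero]
    exact MonoidHom.not_dvd_card_ker_transferSylow R hnc
  have hnorm : O.Normal := MonoidHom.normal_ker _
  have hOT : O ≤ (qTor Z hK).subgroupOf C := by
    refine RankOne.le_of_four_group hOodd (x := ⟨_, hVC ha⟩) (y := ⟨_, hVC hp⟩)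
      (Subtype.ext (aG_sq Z hK)) (Subtype.ext (pq_facts Z hK).1)
      (Subtype.ext (qTor_comm Z hK (vFour_le Z hK ha) (vFour_le Z hK hp)).eq)
      (fun n hn => hnorm.conj_mem n hn _) (fun n hn => hnorm.conj_mem n hn _) ?_ ?_ ?_
    all_goals intro n _ hc
    all_goals rw [Subgroup.mem_subgroupOf]
    · rw [← centralizer_pair_inv Z hK hm ha (aG_ne_one Z hK) hh hh1]
      exact ⟨Subgroup.mem_centralizer_singleton_iff.2 (congrArg Subtype.val hc).symm, n.2⟩
    · rw [← centralizer_pair_inv Z hK hm hp (pG_ne Z hK).1 hh hh1]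
      exact ⟨Subgroup.mem_centralizer_singleton_iff.2 (congrArg Subtype.val hc).symm, n.2⟩
    · rw [← centralizer_pair_inv Z hK hm (mul_mem ha hp) (pG_ne Z hK).2.2 hh hh1]
      exact ⟨Subgroup.mem_centralizer_singleton_iff.2 (congrArg Subtype.val hc).symm, n.2⟩
  intro y hy
  have hsup := (MonoidHom.ker_transferSylow_isComplement' R hnc).sup_eq_top
  have hle : O ⊔ (R : Subgroup ↥C) ≤ (qTor Z hK).subgroupOf C :=
    sup_le hOT fun z hz => vFour_le Z hK (hRV z hz)
  rw [hsup] at hle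
  exact hle (Subgroup.mem_top ⟨y, hy⟩)

/-- The centraliser of an element of the torus of order above `2` is the torus. -/
theorem centralizer_qTor (hm : 1 ≤ m) {x : ↥G₁} (hx : x ∈ qTor Z hK) (hx2 : x ^ 2 ≠ 1) :
    Subgroup.centralizer {x} = qTor Z hK := by
  refine le_antisymm (fun y hy => ?_) fun y hy =>
    Subgroup.mem_centralizer_singleton_iff.2 (qTor_comm Z hK hy hx).eq
  rw [← centralizer_qHalf Z hK hm (sq_mem_qHalf Z hK hx) hx2]
  have hc : Commute y x := Subgroup.mem_centralizer_singleton_iff.1 hy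
  exact Subgroup.mem_centralizer_singleton_iff.2 (hc.pow_right 2).eq

theorem rrG_sq_ne (hm : 1 ≤ m) : rrG Z hK ^ 2 ≠ 1 := by
  intro h
  have hc := card_qHalf Z hK
  rw [qHalf, h, Subgroup.zpowers_one_eq_bot, Subgroup.card_bot] at hc
  have h27 : 3 ^ 3 ≤ 3 ^ (2 * m + 1) := Nat.pow_le_pow_right (by norm_num) (by omega)
  omega

theorem normalizer_le_qTor (hm : 1 ≤ m) {A : Subgroup ↥G₁} (hA : A ≤ qHalf Z hK) (hA1 : A ≠ ⊥) :
    Subgroup.normalizer (A : Set ↥G₁) ≤ Subgroup.normalizer (qTor Z hK : Set ↥G₁) := by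
  obtain ⟨h, hh, hh1⟩ := (Subgroup.bot_or_exists_ne_one A).resolve_left hA1
  intro y hy
  refine Subgroup.mem_normalizer_fintype fun t ht => ?_
  rw [SetLike.mem_coe, ← centralizer_qHalf Z hK hm (hA hh) hh1, Subgroup.mem_centralizer_singleton_iff]
  have hh' : y⁻¹ * h * y ∈ A := (Subgroup.mem_normalizer_iff''.1 hy h).1 hh
  have hc := (Commute.conj_iff y).2 (qTor_comm Z hK ht (qHalf_le Z hK (hA hh')))
  rw [show y * (y⁻¹ * h * y) * y⁻¹ = h by group] at hc
  exact hc.eq

theorem normalizer_qTor_le :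
    Subgroup.normalizer (qTor Z hK : Set ↥G₁) ≤ Subgroup.normalizer (vFour Z hK : Set ↥G₁) := by
  intro y hy
  refine Subgroup.mem_normalizer_fintype fun v hv => ?_
  refine mem_vFour_of_sq Z hK ((Subgroup.mem_normalizer_iff.1 hy v).1 (vFour_le Z hK hv)) ?_
  obtain ⟨e, rfl⟩ := hv
  have h2 : ∀ z : Multiplicative (ZMod 2), z * z = 1 := fun z => by
    rcases two_cases z with rfl | rfl <;> rfl
  calc y * vHom Z hK e * y⁻¹ * (y * vHom Z hK e * y⁻¹) = y * (vHom Z hK e * vHom Z hK e) * y⁻¹ := by group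
    _ = 1 := by rw [← map_mul, show e * e = 1 from Prod.ext (h2 _) (h2 _), map_one, mul_one, mul_inv_cancel]

/-- The nontrivial subgroups of the cyclic subgroup have the normaliser of the four group. -/
theorem normalizer_qHalf (hm : 1 ≤ m) {A : Subgroup ↥G₁} (hA : A ≤ qHalf Z hK) (hA1 : A ≠ ⊥) :
    Subgroup.normalizer (A : Set ↥G₁) = Subgroup.normalizer (vFour Z hK : Set ↥G₁) := by
  refine le_antisymm ((normalizer_le_qTor Z hK hm hA hA1).trans (normalizer_qTor_le Z hK)) fun y hy => ?_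
  have hy' := normalizer_vFour_le Z hK hy
  have hle : A.map (MulAut.conj y).toMonoidHom ≤ qHalf Z hK := by
    rintro _ ⟨x, hx, rfl⟩
    exact (Subgroup.mem_normalizer_iff.1 hy' x).1 (hA hx)
  have heq : A.map (MulAut.conj y).toMonoidHom = A := by
    refine eq_of_card_eq_of_le (T := qHalf Z hK) ?_ hle hA ?_
    · exact Subgroup.isCyclic_zpowers _
    · exact Subgroup.card_map_of_injective (MulAut.conj y).injective
  refine Subgroup.mem_normalizer_fintype fun x hx => ?_
  have hm2 := Subgroup.mem_map_of_mem (MulAut.conj y).toMonoidHom hx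
  rw [heq] at hm2
  exact hm2

theorem card_normalizer_vFour (hm : 1 ≤ m) :
    Nat.card ↥(Subgroup.normalizer (vFour Z hK : Set ↥G₁)) = 6 * (3 ^ (2 * m + 1) + 1) := by
  classical
  obtain ⟨s, hs, hodd, -, -⟩ := quarter (m := m)
  set N := Subgroup.normalizer (vFour Z hK : Set ↥G₁) with hN
  set X := Subgroup.centralizer {aG Z hK} ⊓ Subgroup.centralizer {pG Z hK} with hX
  have hTX : qTor Z hK ≤ X := fun y hy =>
    ⟨qTor_le_centralizer_aG Z hK hy,
      Subgroup.mem_centralizer_singleton_iff.2 (qTor_comm Z hK hy (pG_mem_qTor Z hK)).eq⟩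
  have hqX : qG Z hK ∈ X :=
    ⟨Subgroup.mem_centralizer_singleton_iff.2 (slG_commute Z hK _).symm.eq,
      Subgroup.mem_centralizer_singleton_iff.2 (pq_facts Z hK).2.2.symm.eq⟩
  have hqT : qG Z hK ∉ qTor Z hK := by
    intro h
    have h1 := qG_inverts Z hK (qHalf_le Z hK (Subgroup.mem_zpowers (rrG Z hK ^ 2)))
    rw [(qTor_comm Z hK h (qHalf_le Z hK (Subgroup.mem_zpowers _))).eq] at h1
    have h2 : (rrG Z hK ^ 2) ^ 2 = 1 := by
      rw [sq, ← eq_inv_iff_mul_eq_one]
      exact mul_right_cancel h1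
    exact sq_ne_one_of_pow Z hK (qHalf_pow Z hK (Subgroup.mem_zpowers _)) (rrG_sq_ne Z hK hm) h2
  have hXcard : Nat.card ↥X = 2 * (3 ^ (2 * m + 1) + 1) := by
    rw [← card_qTor Z hK, ← Nat.card_congr (Subgroup.subgroupOfEquivOfLe hTX).toEquiv,
      ← ((qTor Z hK).subgroupOf X).card_mul_index, mul_comm 2]
    congr 1
    rw [Subgroup.index_eq_two_iff]
    refine ⟨⟨qG Z hK, hqX⟩, fun b => ?_⟩
    simp only [Subgroup.mem_subgroupOf, Subgroup.coe_mul]
    rcases mem_of_commute_four Z hK b.2.1 (Subgroup.mem_centralizer_singleton_iff.1 b.2.2) with h | h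
    · refine Or.inr ⟨h, fun h' => hqT ?_⟩
      simpa using mul_mem (inv_mem h) h'
    · refine Or.inl ⟨h, fun h' => hqT ?_⟩
      simpa using mul_mem (inv_mem h') h
  set D := (Subgroup.centralizer {aG Z hK}).subgroupOf N with hD
  have hDX : D.map N.subtype = X := by
    rw [hD, Subgroup.subgroupOf_map_subtype]
    ext y
    simp only [hX, Subgroup.mem_inf, Subgroup.mem_centralizer_singleton_iff]
    constructor
    · rintro ⟨h1, h2⟩
      exact ⟨h1, (commute_pG_of_commute_aG Z hK h2 h1).eq⟩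
    · rintro ⟨h1, h2⟩
      refine ⟨h1, Subgroup.mem_normalizer_fintype fun v hv => ?_⟩
      have hc : Commute y v := by
        rcases (mem_vFour Z hK).1 hv with rfl | rfl | rfl | rfl
        · exact Commute.one_right _
        · exact h1
        · exact h2
        · exact Commute.mul_right h1 h2
      show y * v * y⁻¹ ∈ vFour Z hK
      rwa [hc.eq, mul_inv_cancel_right]
  have hDcard : Nat.card ↥D = 2 * (3 ^ (2 * m + 1) + 1) := by
    rw [← hXcard, ← hDX, Subgroup.card_map_of_injective N.subtype_injective]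
  have ha : aG Z hK ∈ vFour Z hK := (mem_vFour Z hK).2 (by simp)
  let f : ↥N ⧸ D → {v : ↥(vFour Z hK) // v ≠ 1} := fun o =>
    ⟨⟨(o.out : ↥G₁) * aG Z hK * (o.out : ↥G₁)⁻¹, (Subgroup.mem_normalizer_iff.1 o.out.2 _).1 ha⟩,
      fun e => aG_ne_one Z hK (conj_eq_one_iff.1 (congrArg Subtype.val e))⟩
  have hf : Function.Injective f := by
    intro o o' h
    rw [← QuotientGroup.out_eq' o, ← QuotientGroup.out_eq' o', QuotientGroup.eq]
    refine Subgroup.mem_subgroupOf.2 (Subgroup.mem_centralizer_singleton_iff.2 ?_)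
    obtain ⟨g, hg⟩ : ∃ g : ↥G₁, g = (o.out : ↥G₁) := ⟨_, rfl⟩
    obtain ⟨g', hg'⟩ : ∃ g : ↥G₁, g = (o'.out : ↥G₁) := ⟨_, rfl⟩
    have h' : g * aG Z hK * g⁻¹ = g' * aG Z hK * g'⁻¹ := by
      rw [hg, hg']; exact congrArg (fun z => ((z.1 : ↥(vFour Z hK)) : ↥G₁)) h
    rw [Subgroup.coe_mul, Subgroup.coe_inv, ← hg, ← hg']
    calc g⁻¹ * g' * aG Z hK = g⁻¹ * (g' * aG Z hK * g'⁻¹) * g' := by group
      _ = aG Z hK * (g⁻¹ * g') := by rw [← h']; group
  have hle3 : D.index ≤ 3 := by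
    refine (Nat.card_le_card_of_injective f hf).trans ?_
    rw [Nat.card_eq_fintype_card, Fintype.card_subtype_compl, Fintype.card_subtype_eq,
      ← Nat.card_eq_fintype_card, card_vFour Z hK]
  obtain ⟨y, hyN, hy3, hya⟩ := exists_three_normalizer Z hK hm
  have := Fact.mk Nat.prime_three
  have hord : orderOf (⟨y, hyN⟩ : ↥N) = 3 := orderOf_eq_prime (Subtype.ext hy3) fun e =>
    hya (by rw [show y = 1 from congrArg Subtype.val e]; exact Commute.one_left _)
  have hmul := D.card_mul_index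
  rw [hDcard] at hmul
  have h3 : 3 ∣ D.index := by
    have h := orderOf_dvd_natCard (⟨y, hyN⟩ : ↥N)
    rw [hord, ← hmul] at h
    refine Nat.Coprime.dvd_of_dvd_mul_left ?_ h
    rw [Nat.Prime.coprime_iff_not_dvd Nat.prime_three]
    have : 3 ∣ 3 ^ (2 * m + 1) := dvd_pow_self _ (Nat.succ_ne_zero _)
    omega
  have h0 : D.index ≠ 0 := Subgroup.index_ne_zero_of_finite
  have e3 : D.index = 3 := by have := Nat.le_of_dvd (by omega) h3; omega
  rw [← hmul, e3]
  ring

end Cfsg.Agent.Twisted.TypeG2
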